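import Cfsg.Agent.Lib.CyclicInt.CaseBCount

/-!
Case b is impossible.

Blueprint: `blueprint/bender/S3308.md`, case b.
-/

set_option autoImplicit false
set_option linter.unusedSectionVars false
set_option linter.style.haveILetI false

namespace CfsgLib.CyclicInt

open Subgroup MulAction
open scoped Pointwise

universe u

variable {G : Type u} [Group G] [Finite G] [IsSimpleGroup G] {S : Sylow 2 G}

namespace HypB

variable (H : HypB G)
include H

theorem conj_br {d y : G} (hd : Inv2 d) (hy : Inv2 y) : y * d * y⁻¹ = d * br d y := by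
  rw [hy.inv, br, ← mul_assoc d, ← mul_assoc d, hd.2, one_mul, mul_assoc]

theorem br_eq_one {d y : G} (hd : Meet d) (hdS : d ∈ (S : Subgroup G)) (hy : Meet y) (hyS : y ∈ (S : Subgroup G))
    (h : br d y = 1) : d * y ∈ ZS S := by
  have h1 := eq_inv_of_mul_eq_one_left (show d * y * (d * y) = 1 from h)
  rw [mul_inv_rev, hy.1.inv, hd.1.inv] at h1
  exact (H.coset_cases hd hdS hyS hy.1.2 h1.symm).resolve_left (H.dZ_ne_one hy hyS)

/-- If the images are big some coset is normal in `S`. -/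
theorem exists_normal_class {d0 : G} (hd0 : Meet d0) (hd0S : d0 ∈ (S : Subgroup G))
    (h2q : 2 * Nat.card (ZS S) ∣ fixCard d0 - 1) :
    ∃ d, Meet d ∧ d ∈ (S : Subgroup G) ∧ ∀ y, Meet y → y ∈ (S : Subgroup G) → br d y ∈ ZS S := by
  classical
  haveI : Fact (Nat.Prime 2) := ⟨Nat.prime_two⟩
  set q := Nat.card (ZS S) with hq
  let α := {y : G // Meet y ∧ y ∈ (S : Subgroup G)}
  letI : MulAction ↥(S : Subgroup G) α :=
    { smul := fun s y => ⟨(s : G) * y * (s : G)⁻¹, y.2.1.conj _, mul_mem (mul_mem s.2 y.2.2) (inv_mem s.2)⟩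
      one_smul := fun y => Subtype.ext
        (show ((1 : ↥(S : Subgroup G)) : G) * y * ((1 : ↥(S : Subgroup G)) : G)⁻¹ = y by simp)
      mul_smul := fun s t y => Subtype.ext (show ((s * t : ↥(S : Subgroup G)) : G) * y *
        ((s * t : ↥(S : Subgroup G)) : G)⁻¹ = (s : G) * ((t : G) * y * (t : G)⁻¹) * (s : G)⁻¹ by simp [mul_assoc]) }
  have hcos : ∀ y : α, ∃ f : ZS S → orbit ↥(S : Subgroup G) y,
      Function.Injective f ∧ ∀ z, ((f z : α) : G) = y * z := by
    intro y
    have h1 : ∀ z : ZS S, ∃ s : ↥(S : Subgroup G), ((s • y : α) : G) = y * z := fun z => by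
      obtain ⟨s, hs, e⟩ := H.coset_orbit y.2.1 y.2.2 z.2
      exact ⟨⟨s, hs⟩, e⟩
    choose s hs using h1
    refine ⟨fun z => ⟨s z • y, mem_orbit _ _⟩, fun a b h => ?_, hs⟩
    have := congrArg (fun w : orbit ↥(S : Subgroup G) y => ((w : α) : G)) h
    rw [show (((⟨s a • y, mem_orbit _ _⟩ : orbit ↥(S : Subgroup G) y) : α) : G) = _ from hs a,
      show (((⟨s b • y, mem_orbit _ _⟩ : orbit ↥(S : Subgroup G) y) : α) : G) = _ from hs b] at this
    exact Subtype.ext (mul_left_cancel this)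
  by_cases hex : ∃ y : α, Nat.card (orbit ↥(S : Subgroup G) y) ≤ q
  · obtain ⟨y, hy⟩ := hex
    obtain ⟨f, hf, hfz⟩ := hcos y
    have hbij := (Nat.bijective_iff_injective_and_card f).mpr
      ⟨hf, le_antisymm (Nat.card_le_card_of_injective f hf) hy⟩
    refine ⟨y, y.2.1, y.2.2, fun w hw hwS => ?_⟩
    obtain ⟨z, hz⟩ := hbij.2 ⟨(⟨w, hwS⟩ : ↥(S : Subgroup G)) • y, mem_orbit _ _⟩
    have h1 : w * (y : G) * w⁻¹ = y * z := by
      rw [← hfz z, hz]; rfl
    rw [H.conj_br y.2.1.1 hw.1] at h1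
    rw [mul_left_cancel h1]
    exact z.2
  · exfalso
    push Not at hex
    haveI : Fintype α := Fintype.ofFinite _
    haveI : Fintype (Quotient (orbitRel ↥(S : Subgroup G) α)) := Fintype.ofFinite _
    have hdiv : ∀ y : α, 2 * q ∣ Nat.card (orbit ↥(S : Subgroup G) y) := by
      intro y
      obtain ⟨n, hn⟩ := IsPGroup.iff_card.mp S.2
      have h1 : Nat.card (orbit ↥(S : Subgroup G) y) ∣ 2 ^ n := by
        rw [Nat.card_coe_set_eq, ← MulAction.index_stabilizer, ← hn]
        exact Subgroup.index_dvd_card _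
      obtain ⟨a, -, ha⟩ := (Nat.dvd_prime_pow Nat.prime_two).mp h1
      obtain ⟨b, hb⟩ := IsPGroup.iff_card.mp (S.2.to_le (show ZS S ≤ (S : Subgroup G) from fun z hz => hz.1))
      have hlt := hex y
      rw [hq, hb, ha] at hlt
      rw [hq, hb, ha, ← pow_succ']
      exact pow_dvd_pow 2 ((Nat.pow_lt_pow_iff_right one_lt_two).mp hlt)
    have hsum : 2 * q ∣ Nat.card α := by
      rw [Nat.card_congr (MulAction.selfEquivSigmaOrbits ↥(S : Subgroup G) α), Nat.card_sigma]
      exact Finset.dvd_sum fun ω _ => hdiv _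
    rw [show Nat.card α = _ from H.card_ys hd0 hd0S] at hsum
    have hA := H.two_le_fixCard hd0
    have h4 := (H.four_le_q S).1
    have he : 1 + fixCard d0 * (q - 1) = q + (fixCard d0 - 1) * (q - 1) := by
      conv_lhs => rw [show fixCard d0 = fixCard d0 - 1 + 1 by omega, Nat.add_mul, one_mul]
      omega
    rw [he] at hsum
    have h3 := (Nat.dvd_add_left (h2q.mul_right (q - 1))).mp hsum
    have := Nat.le_of_dvd (by omega) h3
    omega

/-- The big case is impossible. -/
theorem img_small {d : G} (hd : Meet d) (hdS : d ∈ (S : Subgroup G)) :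
    fixCard d - 1 = Nat.card (ZS S) := by
  classical
  haveI : Fact (Nat.Prime 2) := ⟨Nat.prime_two⟩
  obtain ⟨K₀⟩ := exists_comp_ctr H.noncomm H.ci H.ih hd H.eight
  have hle := H.card_img_eq hd hdS K₀ ▸ H.zs_le_img hd hdS K₀
  refine le_antisymm (by_contra fun hlt => ?_) hle
  push Not at hlt
  obtain ⟨m, hm⟩ := IsPGroup.iff_card.mp (H.pimg hdS K₀).2
  obtain ⟨b, hb⟩ := IsPGroup.iff_card.mp (S.2.to_le (show ZS S ≤ (S : Subgroup G) from fun z hz => hz.1))
  have hM : fixCard d - 1 = 2 ^ m := by rw [← H.card_img_eq hd hdS K₀]; exact hm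
  obtain ⟨d1, hd1, hd1S, hall⟩ := H.exists_normal_class hd hdS (by
    rw [hM, hb] at hlt
    rw [hM, hb, ← pow_succ']
    exact pow_dvd_pow 2 ((Nat.pow_lt_pow_iff_right one_lt_two).mp hlt))
  rw [H.fixCard_const hd hd1] at hlt
  obtain ⟨K⟩ := exists_comp_ctr H.noncomm H.ci H.ih hd1 H.eight
  set U := H.pimg hd1S K with hU
  have hciL := H.ciL' hd1 K
  -- every element of the image comes from an inverted element
  have hcover : ∀ e, Cen S e → ∃ y0, Inv2 y0 ∧ y0 ∈ (S : Subgroup G) ∧ br d1 y0 = e ∧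
      ∀ u ∈ (U : Subgroup K.L), ∃ p : ↥(cs S d1), H.proj hd1S K p = u ∧
        y0 * p * y0⁻¹ = (p : G)⁻¹ ∧ (p : G) * p ∈ ZS S := by
    intro e he
    have hcard := H.fibre_full hd1 hd1S K hall he
    obtain ⟨⟨y0, h0, h0e⟩⟩ : Nonempty {y : G // (Meet y ∧ y ∈ (S : Subgroup G)) ∧ br d1 y = e} :=
      (Nat.card_pos_iff.mp (by rw [hcard]; exact Nat.card_pos)).1
    obtain ⟨f, hf, hfp⟩ := H.fibre_map_inj hd1 hd1S K he h0.1.1 h0.2 h0e
    have hbij := (Nat.bijective_iff_injective_and_card f).mpr ⟨hf, hcard⟩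
    refine ⟨y0, h0.1.1, h0.2, h0e, fun u hu => ?_⟩
    obtain ⟨y, hy⟩ := hbij.2 ⟨u, hu⟩
    obtain ⟨p, hp, hp2, hp3⟩ := hfp y
    exact ⟨p, by rw [← hp, hy], hp2, hp3⟩
  have hcomm : ∀ e, Cen S e → ∀ u ∈ (U : Subgroup K.L), ∀ u' ∈ (U : Subgroup K.L),
      u * u' * (u * u') * (u * u * (u' * u'))⁻¹ = 1 ∨
      ∃ x : ↥(cs S d1), (x : G) = e ∧ u * u' * (u * u') * (u * u * (u' * u'))⁻¹ = H.proj hd1S K x := by
    intro e he u hu u' hu'
    obtain ⟨y0, hy0, hy0S, hy0e, hP⟩ := hcover e he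
    obtain ⟨p, rfl, hp, hp2⟩ := hP u hu
    obtain ⟨p', rfl, hp', hp2'⟩ := hP u' hu'
    obtain ⟨s, hs, hsi, hs2⟩ := hP _ (mul_mem hu hu')
    set v := s⁻¹ * (p * p') with hvdef
    have hv : H.proj hd1S K v = 1 := by
      rw [hvdef, map_mul, map_mul, map_inv, hs, inv_mul_cancel]
    have hpp : (p : G) * p' = s * v := by simp [hvdef]
    have hvc : ∀ {g : G}, g ∈ cs S d1 → g * v = v * g := fun hg => H.cs_central hd1 hd1S K hv hg
    set z1 := (s : G) * s * ((p : G) * p * ((p' : G) * p'))⁻¹ with hz1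
    have hz1Z : z1 ∈ ZS S := mul_mem hs2 (inv_mem (mul_mem hp2 hp2'))
    have hconj : y0 * (v : G) * y0⁻¹ = v * z1 := by
      have h1 : y0 * ((p : G) * p') * y0⁻¹ = (p : G)⁻¹ * (p' : G)⁻¹ := by
        rw [← conj_mul, hp, hp']
      rw [hpp, ← conj_mul, hsi, inv_mul_eq_iff_eq_mul] at h1
      rw [h1]
      have ha : ((p : G) * p)⁻¹ ∈ ZS S := inv_mem hp2
      have hb : ((p' : G) * p')⁻¹ ∈ ZS S := inv_mem hp2'
      calc (s : G) * ((p : G)⁻¹ * (p' : G)⁻¹) = (s : G) * (((p : G) * ((p : G) * p)⁻¹) * ((p' : G) * ((p' : G) * p')⁻¹)) := by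
            group
        _ = (s : G) * ((p : G) * (p' * ((p : G) * p)⁻¹) * ((p' : G) * p')⁻¹) := by
            rw [ha.2.2 _ p'.2.1]; group
        _ = (s : G) * (s * v) * (((p : G) * p)⁻¹ * ((p' : G) * p')⁻¹) := by rw [← hpp]; group
        _ = (s : G) * s * v * ((p : G) * p * ((p' : G) * p'))⁻¹ := by
            rw [mul_inv_rev ((p : G) * p), ← hb.2.2 _ ha.1]; group
        _ = v * ((s : G) * s) * ((p : G) * p * ((p' : G) * p'))⁻¹ := by rw [← hvc (mul_mem s.2 s.2)]
        _ = v * z1 := by rw [hz1, mul_assoc]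
    have hne : y0 * d1 * y0⁻¹ ≠ d1 := fun h => he.1.1 (by
      rw [H.conj_br hd1.1 hy0, hy0e] at h; exact mul_eq_left.mp h)
    have hv2 : (v : G) * v = 1 := by
      refine H.ker_flip hd1 hd1S K (v := v * v) (by rw [map_mul, hv, one_mul]) hne (Or.inl ?_)
      show y0 * ((v : G) * v) * y0⁻¹ = v * v
      rw [← conj_mul, hconj, ← pow_two, (show Commute (v : G) z1 from hz1Z.2.2 _ v.2.1).mul_pow, pow_two, pow_two,
        hz1Z.2.1, mul_one]
    have hsq : H.proj hd1S K p * H.proj hd1S K p' * (H.proj hd1S K p * H.proj hd1S K p') *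
        (H.proj hd1S K p * H.proj hd1S K p * (H.proj hd1S K p' * H.proj hd1S K p'))⁻¹ =
        H.proj hd1S K ⟨z1, H.mem_cs_of_zs hd1S hz1Z⟩ := by
      simp only [← map_mul, ← map_inv]
      congr 1
      refine Subtype.ext ?_
      show (p : G) * p' * ((p : G) * p') * ((p : G) * p * ((p' : G) * p'))⁻¹ = z1
      rw [hpp, ← pow_two ((s : G) * v), (show Commute (s : G) v from hvc s.2).mul_pow, pow_two, pow_two, hv2, mul_one]
    rcases H.ker_sq hd1 hd1S K hv hv2 with h | h
    · left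
      rw [h, mul_one, mul_inv_cancel, one_mul] at hconj
      rw [hsq, show (⟨z1, H.mem_cs_of_zs hd1S hz1Z⟩ : ↥(cs S d1)) = 1 from Subtype.ext hconj.symm, map_one]
    · right
      rw [h, H.conj_br hd1.1 hy0, hy0e] at hconj
      exact ⟨⟨z1, H.mem_cs_of_zs hd1S hz1Z⟩, (mul_left_cancel hconj).symm, hsq⟩
  obtain ⟨e, e', he, he', hee⟩ := exists_two_cen H.noncomm H.ci S
  have hab : ∀ u ∈ (U : Subgroup K.L), ∀ u' ∈ (U : Subgroup K.L), u * u' = u' * u := by
    intro u hu u' hu'
    have h1 : u * u' * (u * u') * (u * u * (u' * u'))⁻¹ = 1 := by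
      rcases hcomm e he u hu u' hu' with h | ⟨x, hx, h⟩
      · exact h
      rcases hcomm e' he' u hu u' hu' with h' | ⟨x', hx', h'⟩
      · exact h'
      exfalso
      refine hee ?_
      have h2 : H.proj hd1S K (x⁻¹ * x') = 1 := by rw [map_mul, map_inv, ← h, ← h', inv_mul_cancel]
      have h3 := H.zs_eq_one hd1 hd1S K (x := x⁻¹ * x') (by
        show (x : G)⁻¹ * x' ∈ ZS S
        rw [hx, hx']; exact mul_mem (inv_mem (cen_iff.mp he).1) (cen_iff.mp he').1) h2
      rw [← hx, ← hx']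
      exact inv_mul_eq_one.mp h3
    rw [mul_inv_eq_one] at h1
    have h2 : u' * u = u * u' := by
      refine mul_left_cancel (a := u) (mul_right_cancel (b := u') ?_)
      calc u * (u' * u) * u' = u * u' * (u * u') := by group
        _ = u * u * (u' * u') := h1
        _ = u * (u * u') * u' := by group
    exact h2.symm
  have hel : ∀ u ∈ (U : Subgroup K.L), u * u = 1 := fun u hu => ti_abelian H.partB K.nonab hciL K.ti U hab hu
  have hle2 : Nat.card (U : Subgroup K.L) ≤ Nat.card (ZS S) := by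
    refine Nat.card_le_card_of_surjective (fun z : ZS S => (⟨H.proj hd1S K ⟨z, H.mem_cs_of_zs hd1S z.2⟩,
      H.proj_mem hd1 hd1S K _⟩ : (U : Subgroup K.L))) fun u => ?_
    obtain ⟨x, hx, hxu⟩ := H.inv_img' hd1 hd1S K u.2 (hel u u.2)
    exact ⟨⟨x, hx⟩, Subtype.ext hxu⟩
  rw [H.card_img_eq hd1 hd1S K] at hle2
  omega

/-- Elements of square one in the image. -/
theorem img_sq {d : G} (hd : Meet d) (hdS : d ∈ (S : Subgroup G)) (K : Comp ↥(ctr d) (self d)) {u : K.L}
    (hu : u ∈ (H.pimg hdS K : Subgroup K.L)) : u * u = 1 := by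
  let f : ZS S → (H.pimg hdS K : Subgroup K.L) := fun z =>
    ⟨H.proj hdS K ⟨z, H.mem_cs_of_zs hdS z.2⟩, H.proj_mem hd hdS K _⟩
  have hf : Function.Injective f := fun a b h => by
    have h1 : H.proj hdS K (⟨a, H.mem_cs_of_zs hdS a.2⟩⁻¹ * ⟨b, H.mem_cs_of_zs hdS b.2⟩) = 1 := by
      rw [map_mul, map_inv, show H.proj hdS K ⟨a, H.mem_cs_of_zs hdS a.2⟩ = _ from congrArg Subtype.val h,
        inv_mul_cancel]
    exact Subtype.ext (inv_mul_eq_one.mp (H.zs_eq_one hd hdS K
      (x := ⟨a, H.mem_cs_of_zs hdS a.2⟩⁻¹ * ⟨b, H.mem_cs_of_zs hdS b.2⟩) (mul_mem (inv_mem a.2) b.2) h1))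
  obtain ⟨z, hz⟩ := ((Nat.bijective_iff_injective_and_card f).mpr
    ⟨hf, by rw [H.card_img_eq hd hdS K, H.img_small hd hdS]⟩).2 ⟨u, hu⟩
  have h1 : H.proj hdS K ⟨z, H.mem_cs_of_zs hdS z.2⟩ = u := congrArg Subtype.val hz
  rw [← h1, ← map_mul, show (⟨(z : G), H.mem_cs_of_zs hdS z.2⟩ : ↥(cs S d)) * ⟨z, H.mem_cs_of_zs hdS z.2⟩ = 1 from
    Subtype.ext z.2.2.1, map_one]

/-- An element of `C_S(d)` with central square lies in `⟨d⟩Z`. -/
theorem small_split {d : G} (hd : Meet d) (hdS : d ∈ (S : Subgroup G)) {p : G} (hp : p ∈ cs S d)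
    (hp2 : p * p ∈ ZS S) : p ∈ ZS S ∨ d * p ∈ ZS S := by
  obtain ⟨K⟩ := exists_comp_ctr H.noncomm H.ci H.ih hd H.eight
  obtain ⟨v, w, hv, hw, hvw⟩ := H.exists_split_sq hd hdS K (x := ⟨p, hp⟩)
    (H.img_sq hd hdS K (H.proj_mem hd hdS K _))
  have hp' : p = (v : G) * w := congrArg Subtype.val hvw
  have hv2 : (v : G) * v ∈ ZS S := by
    rw [hp', ← pow_two, (show Commute (v : G) w from hw.2.2 _ v.2.1).mul_pow, pow_two, pow_two, hw.2.1, mul_one] at hp2
    exact hp2
  have h1 : (v : G) * v = 1 := H.zs_eq_one hd hdS K (x := v * v) hv2 (by rw [map_mul, hv, one_mul])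
  rcases H.ker_sq hd hdS K hv h1 with h | h
  · left; rw [hp', h, one_mul]; exact hw
  · right; rw [hp', h, hd.1.mul_mul_self]; exact hw

theorem fibre_bound {d e : G} (hd : Meet d) (hdS : d ∈ (S : Subgroup G)) (he : Cen S e) {y y' : G}
    (hy : Meet y) (hyS : y ∈ (S : Subgroup G)) (hy' : Meet y') (hyS' : y' ∈ (S : Subgroup G))
    (h : br d y = e) (h' : br d y' = e) : y' * y ∈ ZS S := by
  obtain ⟨K⟩ := exists_comp_ctr H.noncomm H.ci H.ih hd H.eight
  obtain ⟨p, hp, hinv, hp2⟩ := H.fibre hd hdS K he hy'.1 hyS' hy.1 hyS h' h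
  rcases H.small_split hd hdS p.2 hp2 with h1 | h1
  · rwa [← hp]
  · exfalso
    rw [hp] at hinv
    have h2 : y * (d * (y' * y)) * y⁻¹ = d * (y' * y) := by rw [hp] at h1; rw [h1.2.2 y hyS, mul_inv_cancel_right]
    rw [← conj_mul, hinv, H.conj_br hd.1 hy.1, h] at h2
    have h3 : (y' * y) * (y' * y) ∈ ZS S := hp ▸ hp2
    have h4 : (y' * y)⁻¹ = y' * y * ((y' * y) * (y' * y))⁻¹ := by group
    rw [mul_assoc] at h2
    have h5 := mul_left_cancel h2
    rw [hp] at h1
    have hc : Commute d (y' * y) := (Subgroup.mem_centralizer_singleton_iff.mp (hp ▸ p.2.2)).symm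
    have h6 := h1.2.1
    rw [← pow_two, hc.mul_pow, pow_two, pow_two, hd.1.2, one_mul] at h6
    rw [h4, h6, inv_one, mul_one, mul_eq_right] at h5
    exact he.1.1 h5

/-- All products of two involutions of the second type in `S` square into the centre. -/
theorem all_central {d : G} (hd : Meet d) (hdS : d ∈ (S : Subgroup G)) {y : G} (hy : Meet y)
    (hyS : y ∈ (S : Subgroup G)) : br d y ∈ ZS S := by
  classical
  haveI : Fact (Nat.Prime 2) := ⟨Nat.prime_two⟩
  obtain ⟨K⟩ := exists_comp_ctr H.noncomm H.ci H.ih hd H.eight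
  set Y := {y : G // Meet y ∧ y ∈ (S : Subgroup G)} with hY
  have h4 := H.four_le_q S
  have hM := H.img_small hd hdS
  have hA := H.two_le_fixCard hd
  have hcard : Nat.card Y = 1 + fixCard d * (Nat.card (ZS S) - 1) := H.card_ys hd hdS
  haveI : Fintype Y := Fintype.ofFinite _
  -- an element outside the coset of `d`
  obtain ⟨y0, hy0, hy0S, hne0⟩ : ∃ y0, Meet y0 ∧ y0 ∈ (S : Subgroup G) ∧ d * y0 ∉ ZS S := by
    by_contra hcon
    push Not at hcon
    have := Nat.card_le_card_of_injective (fun w : Y => (⟨d * w.1, hcon w.1 w.2.1 w.2.2⟩ : ZS S))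
      (fun a b h => Subtype.ext (mul_left_cancel (congrArg Subtype.val h)))
    rw [hcard, show fixCard d = Nat.card (ZS S) + 1 by omega, Nat.add_mul, one_mul] at this
    have : Nat.card (ZS S) * 3 ≤ Nat.card (ZS S) * (Nat.card (ZS S) - 1) := Nat.mul_le_mul_left _ (by omega)
    omega
  -- an element inverting an element of order 4
  obtain ⟨y1, hy1, hy1S, hz1, hne1⟩ : ∃ y1, Meet y1 ∧ y1 ∈ (S : Subgroup G) ∧ br d y1 ∈ ZS S ∧ br d y1 ≠ 1 := by
    obtain ⟨k, hk⟩ := two_of_mem (mul_mem hdS hy0S)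
    obtain ⟨j, -, hj⟩ := (Nat.dvd_prime_pow Nat.prime_two).mp (orderOf_dvd_of_pow_eq_one hk)
    have hj2 : 2 ≤ j := by
      by_contra h
      refine hne0 (H.br_eq_one hd hdS hy0 hy0S (show d * y0 * (d * y0) = 1 from ?_))
      rw [← pow_two]
      exact orderOf_dvd_iff_pow_eq_one.mp (hj ▸ (pow_dvd_pow 2 (show j ≤ 1 by omega)).trans (by norm_num))
    set c := (d * y0) ^ 2 ^ (j - 2)
    have hco : orderOf c = 4 := by
      rw [orderOf_pow_of_dvd (pow_ne_zero _ two_ne_zero) (hj ▸ pow_dvd_pow 2 (by omega)), hj,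
        Nat.pow_div (by omega) two_pos, show j - (j - 2) = 2 by omega]
      norm_num
    have hy1m : Meet (d * c) := by
      obtain ⟨g, hg | hg⟩ := Inv2.reflection hd.1 hy0.1 ((2 ^ (j - 2) : ℕ) : ℤ)
      · rw [zpow_natCast] at hg; exact hg ▸ hd.conj g
      · rw [zpow_natCast] at hg; exact hg ▸ hy0.conj g
    have hcS : c ∈ (S : Subgroup G) := pow_mem (mul_mem hdS hy0S) _
    have hbr : br d (d * c) = c * c := by rw [br, hd.1.mul_mul_self]
    have hcc : Inv2 (c * c) := inv2_iff.mpr (by rw [← pow_two, orderOf_pow, hco]; norm_num)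
    refine ⟨d * c, hy1m, mul_mem hdS hcS, ?_, hbr ▸ hcc.1⟩
    rw [hbr]
    have hcd : d * c * d⁻¹ = c⁻¹ := by
      have := hy1m.1.inv
      rw [mul_inv_rev] at this
      rw [← this, mul_assoc, ← mul_inv_rev, hd.1.2, inv_one, mul_one]
    have hc4 : c * c * (c * c) = 1 := hcc.2
    have hdcc : d * (c * c) = (c * c) * d := by
      have h2 : d * (c * c) * d⁻¹ = c * c := by
        rw [← conj_mul, hcd, ← mul_inv_rev, hcc.inv]
      exact mul_inv_eq_iff_eq_mul.mp h2
    rcases H.coset_cases hd hdS (mul_mem hcS hcS) hc4 hdcc.symm with h | h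
    · exact h
    · exfalso
      have hy1c : (d * c) * (c * c) = (c * c) * (d * c) := by
        rw [mul_assoc d c, show c * (c * c) = c * c * c by group, ← mul_assoc d (c * c), hdcc, mul_assoc]
      rcases H.coset_cases hy1m (mul_mem hdS hcS) (mul_mem hcS hcS) hc4 hy1c.symm with h' | h'
      · refine H.dZ_ne_one hd hdS ?_
        have := mul_mem h (inv_mem h')
        rwa [mul_inv_cancel_right] at this
      · have hcZ := mul_mem h (inv_mem h')
        rw [show d * (c * c) * (d * c * (c * c))⁻¹ = d * c⁻¹ * d⁻¹ by group,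
          show d * c⁻¹ * d⁻¹ = (d * c * d⁻¹)⁻¹ by group, hcd, inv_inv] at hcZ
        exact hcc.1 hcZ.2.1
  -- every value occurs
  have hall : ∀ e : {e : G // Cen S e}, ∃ w : Y, br d w = (e : G) := by
    rintro ⟨e, he⟩
    obtain ⟨n, hn, hnd, hne⟩ := H.trans_cd hd hdS (cen_iff.mpr ⟨hz1, hne1⟩) he
    refine ⟨⟨n * y1 * n⁻¹, hy1.conj n, (Subgroup.mem_normalizer_iff.mp hn y1).mp hy1S⟩, ?_⟩
    have := br_conj n d y1
    rwa [mul_inv_eq_iff_eq_mul.mpr hnd, hne] at this
  choose w hw using hall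
  -- the values exhaust `Y`
  let F : ZS S ⊕ ({e : G // Cen S e} × ZS S) → Y := Sum.elim
    (fun z => ⟨d * z, H.meet_coset hd hdS z.2, mul_mem hdS z.2.1⟩)
    (fun p => ⟨(w p.1).1 * p.2, H.meet_coset (w p.1).2.1 (w p.1).2.2 p.2.2, mul_mem (w p.1).2.2 p.2.2.1⟩)
  have hFbr : ∀ i, br d (F i : G) = Sum.elim (fun _ => 1) (fun p => (p.1 : G)) i := by
    rintro (z | ⟨e, z⟩)
    · show br d (d * z) = 1
      rw [br_mul_right hdS hdS z.2, br, hd.1.2, one_mul]
    · show br d ((w e).1 * z) = e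
      rw [br_mul_right hdS (w e).2.2 z.2, hw e]
  have hF : Function.Injective F := by
    rintro (a | a) (b | b) h
    · exact congrArg Sum.inl (Subtype.ext (mul_left_cancel (congrArg (fun y : Y => y.1) h)))
    · exact absurd ((hFbr _).symm.trans ((congrArg (fun y : Y => br d y.1) h).trans (hFbr _))) fun e => b.1.2.1.1 e.symm
    · exact absurd ((hFbr _).symm.trans ((congrArg (fun y : Y => br d y.1) h).trans (hFbr _))) fun e => a.1.2.1.1 e
    · obtain ⟨e, z⟩ := a
      obtain ⟨e', z'⟩ := b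
      obtain rfl : e = e' := Subtype.ext ((hFbr _).symm.trans ((congrArg (fun y : Y => br d y.1) h).trans (hFbr _)))
      exact congrArg Sum.inr (Prod.ext rfl (Subtype.ext (mul_left_cancel (congrArg (fun y : Y => y.1) h))))
  have hbij : Function.Bijective F := (Nat.bijective_iff_injective_and_card F).mpr ⟨hF, by
    rw [Nat.card_sum, Nat.card_prod, hcard]
    have hq : Nat.card {e : G // Cen S e} = Nat.card (ZS S) - 1 := by
      haveI : Fintype (ZS S) := Fintype.ofFinite _
      rw [Nat.card_congr (show {t : G // Cen S t} ≃ {z : ZS S // ¬ z = 1} from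
        { toFun := fun t => ⟨⟨t.1, (cen_iff.mp t.2).1⟩, fun e => t.2.1.1 (congrArg Subtype.val e)⟩
          invFun := fun z => ⟨z.1.1, cen_iff.mpr ⟨z.1.2, fun e => z.2 (Subtype.ext e)⟩⟩
          left_inv := fun _ => rfl
          right_inv := fun _ => rfl }), Nat.card_eq_fintype_card, Nat.card_eq_fintype_card, Fintype.card_subtype_compl,
        Fintype.card_subtype_eq]
    rw [hq, show fixCard d = Nat.card (ZS S) + 1 by omega, Nat.add_mul, one_mul,
      mul_comm (Nat.card (ZS S) - 1)]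
    omega⟩
  obtain ⟨i, hi⟩ := hbij.2 ⟨y, hy, hyS⟩
  have h1 := hFbr i
  rw [hi] at h1
  have h1' : br d y = _ := h1
  rw [h1']
  rcases i with z | ⟨e, z⟩
  · exact one_mem _
  · exact (cen_iff.mp e.2).1

theorem br_congr {c a a' : G} (hc : Meet c) (hcS : c ∈ (S : Subgroup G)) (ha : Meet a) (haS : a ∈ (S : Subgroup G))
    (ha' : Meet a') (haS' : a' ∈ (S : Subgroup G)) (h : br c a = br c a') : br a a' = 1 := by
  by_cases h1 : br c a = 1
  · have m1 := H.br_eq_one hc hcS ha haS h1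
    have m2 := H.br_eq_one hc hcS ha' haS' (h ▸ h1)
    have e : a' = a * ((c * a)⁻¹ * (c * a')) := by group
    rw [e, br_mul_right haS haS (mul_mem (inv_mem m1) m2), br, ha.1.2, one_mul]
  · have m := H.fibre_bound hc hcS (cen_iff.mpr ⟨H.all_central hc hcS ha haS, h1⟩) ha haS ha' haS' rfl h.symm
    have hs := m.2.1
    rw [br]
    calc a * a' * (a * a') = ((a' * a) * (a' * a))⁻¹ := by
          simp only [mul_inv_rev, ha.1.inv, ha'.1.inv]
      _ = 1 := by rw [hs, inv_one]

/-- `br` is additive. -/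
theorem triple {a b c : G} (ha : Meet a) (haS : a ∈ (S : Subgroup G)) (hb : Meet b) (hbS : b ∈ (S : Subgroup G))
    (hc : Meet c) (hcS : c ∈ (S : Subgroup G)) : br a b = br c a * br c b := by
  have hi := H.all_central hc hcS ha haS
  have hj := H.all_central hc hcS hb hbS
  have hf := H.all_central ha haS hb hbS
  by_cases h1 : br c a = 1
  · rw [h1, one_mul]
    have e : c * (c * a) = a := hc.1.mul_mul_self a
    calc br a b = br (c * (c * a)) b := by rw [e]
      _ = br c b := br_mul_left hcS hbS (H.br_eq_one hc hcS ha haS h1)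
  by_cases h2 : br c b = 1
  · rw [h2, mul_one]
    calc br a b = br a (c * (c * b)) := by rw [hc.1.mul_mul_self]
      _ = br a c := br_mul_right haS hcS (H.br_eq_one hc hcS hb hbS h2)
      _ = br c a := br_symm hc.1 hcS hi
  by_cases h3 : br c a = br c b
  · rw [H.br_congr hc hcS ha haS hb hbS h3, h3, hj.2.1]
  obtain ⟨K⟩ := exists_comp_ctr H.noncomm H.ci H.ih hc H.eight
  -- an involution with the product value
  obtain ⟨x, hx, hxS, hxe⟩ : ∃ x, Meet x ∧ x ∈ (S : Subgroup G) ∧ br c x = br c a * br c b := by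
    have hne : br c a * br c b ≠ 1 := fun e => h3 (by
      rw [eq_inv_of_mul_eq_one_left e]; exact inv_eq_of_mul_eq_one_right hj.2.1)
    obtain ⟨n, hn, hnd, hne'⟩ := H.trans_cd hc hcS (cen_iff.mpr ⟨hi, h1⟩) (cen_iff.mpr ⟨mul_mem hi hj, hne⟩)
    refine ⟨n * a * n⁻¹, ha.conj n, (Subgroup.mem_normalizer_iff.mp hn a).mp haS, ?_⟩
    have := br_conj n c a
    rwa [mul_inv_eq_iff_eq_mul.mpr hnd, hne'] at this
  set i := br c a
  set j := br c b
  have hxi : br c x = i * j := hxe
  have hxabS : x * a * b ∈ (S : Subgroup G) := mul_mem (mul_mem hxS haS) hbS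
  -- it centralises `c`
  have hcomm : c * (x * a * b) = x * a * b * c := by
    have k1 : c * x = x * c * (i * j) := by
      have := br_swap hx.1 hc.1 (S := S) (H.all_central hx hxS hc hcS)
      rwa [br_symm hc.1 hcS (H.all_central hc hcS hx hxS), hxi] at this
    have k2 : c * a = a * c * i := by
      have := br_swap ha.1 hc.1 (S := S) (H.all_central ha haS hc hcS)
      rwa [br_symm hc.1 hcS hi] at this
    have k3 : c * b = b * c * j := by
      have := br_swap hb.1 hc.1 (S := S) (H.all_central hb hbS hc hcS)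
      rwa [br_symm hc.1 hcS hj] at this
    have hij : i * j ∈ ZS S := mul_mem hi hj
    calc c * (x * a * b) = c * x * a * b := by group
      _ = x * c * ((i * j) * (a * b)) := by rw [k1]; group
      _ = x * (c * a) * (b * (i * j)) := by rw [← hij.2.2 _ (mul_mem haS hbS)]; group
      _ = x * a * c * (i * b) * (i * j) := by rw [k2]; group
      _ = x * a * (c * b) * (i * (i * j)) := by rw [← hi.2.2 b hbS]; group
      _ = x * a * b * c * (j * ((i * i) * j)) := by rw [k3]; group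
      _ = x * a * b * c := by rw [hi.2.1, one_mul, hj.2.1, mul_one]
  have hp2 : x * a * b * (x * a * b) ∈ ZS S := by
    have hxa := H.all_central hx hxS ha haS
    have hxb := H.all_central hb hbS hx hxS
    have k1 : b * x = x * b * br x b := br_swap hx.1 hb.1 (H.all_central hx hxS hb hbS)
    have k2 : b * a = a * b * br a b := br_swap ha.1 hb.1 hf
    have k3 : a * x = x * a * br x a := br_swap hx.1 ha.1 hxa
    have hxb' := H.all_central hx hxS hb hbS
    have e : x * a * b * (x * a * b) = br x a * br a b * br x b := by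
      calc x * a * b * (x * a * b) = x * a * (b * x) * a * b := by group
        _ = x * a * x * b * (br x b * (a * b)) := by rw [k1]; group
        _ = x * (a * x) * (b * a) * (b * br x b) := by rw [← hxb'.2.2 _ (mul_mem haS hbS)]; group
        _ = x * x * a * (br x a * a) * b * (br a b * b) * br x b := by rw [k3, k2]; group
        _ = (x * x) * (a * a) * (br x a * b) * (b * br a b) * br x b := by
            rw [← hxa.2.2 a haS, ← hf.2.2 b hbS]; group
        _ = b * br x a * (b * br a b) * br x b := by rw [hx.1.2, ha.1.2, ← hxa.2.2 b hbS]; group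
        _ = b * b * (br x a * br a b * br x b) := by
            rw [show b * br x a * (b * br a b) * br x b = b * (br x a * b) * br a b * br x b by group,
              ← hxa.2.2 b hbS]
            group
        _ = br x a * br a b * br x b := by rw [hb.1.2, one_mul]
    rw [e]
    exact mul_mem (mul_mem hxa hf) hxb'
  rcases H.small_split hc hcS ⟨hxabS, Subgroup.mem_centralizer_singleton_iff.mpr hcomm.symm⟩ hp2 with hz | hz
  · exfalso
    refine h3 ?_
    have hab : a * b = x * (x * a * b) := by rw [mul_assoc x a b, hx.1.mul_mul_self]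
    have h4 : br a b = 1 := by
      rw [br, hab, ← pow_two, (show Commute x (x * a * b) from hz.2.2 x hxS).mul_pow, pow_two, pow_two, hx.1.2,
        hz.2.1, one_mul]
    have m := H.br_eq_one ha haS hb hbS h4
    show br c a = br c b
    rw [show b = a * (a * b) from (ha.1.mul_mul_self b).symm, br_mul_right hcS haS m]
  · have hab : a * b = x * c * (c * (x * a * b)) := by
      rw [mul_assoc x c, hc.1.mul_mul_self, mul_assoc x a b, hx.1.mul_mul_self]
    have hcx := mul_mem hxS hcS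
    rw [br, hab, ← pow_two, (show Commute (x * c) (c * (x * a * b)) from hz.2.2 _ hcx).mul_pow, pow_two, pow_two,
      hz.2.1, mul_one]
    show br x c = _
    rw [br_symm hc.1 hcS (H.all_central hc hcS hx hxS)]
    exact hxi

theorem contradiction : False := by
  classical
  obtain ⟨S⟩ : Nonempty (Sylow 2 G) := inferInstance
  obtain ⟨c, hc, hcS⟩ := H.exists_meet S
  haveI : Fintype G := Fintype.ofFinite G
  obtain ⟨y, hy, hyS, hcy⟩ : ∃ y, Meet y ∧ y ∈ (S : Subgroup G) ∧ br c y ≠ 1 := by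
    by_contra hcon
    push Not at hcon
    have h1 := H.card_ys hc hcS
    have hM := H.img_small hc hcS
    have hA := H.two_le_fixCard hc
    have h4 := (H.four_le_q S).1
    have h2 := Nat.card_le_card_of_injective
      (fun w : {y : G // Meet y ∧ y ∈ (S : Subgroup G)} =>
        (⟨c * w.1, H.br_eq_one hc hcS w.2.1 w.2.2 (hcon w.1 w.2.1 w.2.2)⟩ : ZS S))
      (fun a b h => Subtype.ext (mul_left_cancel (congrArg Subtype.val h)))
    rw [h1, show fixCard c = Nat.card (ZS S) + 1 by omega, Nat.add_mul, one_mul] at h2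
    have : Nat.card (ZS S) * 3 ≤ Nat.card (ZS S) * (Nat.card (ZS S) - 1) := Nat.mul_le_mul_left _ (by omega)
    omega
  set e := br c y with he
  have heZ : e ∈ ZS S := H.all_central hc hcS hy hyS
  set w0 := c * y with hw0
  have hw0S : w0 ∈ (S : Subgroup G) := mul_mem hcS hyS
  have hact : ∀ a, Meet a → a ∈ (S : Subgroup G) → a * w0 * a⁻¹ = w0 * e := by
    intro a ha haS
    have ht := H.triple hc hcS hy hyS ha haS
    rw [hw0, ← conj_mul, H.conj_br hc.1 ha.1, H.conj_br hy.1 ha.1,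
      br_symm ha.1 haS (H.all_central ha haS hc hcS), br_symm ha.1 haS (H.all_central ha haS hy hyS), he, ht]
    calc c * br a c * (y * br a y) = c * (br a c * y) * br a y := by group
      _ = c * y * (br a c * br a y) := by rw [← (H.all_central ha haS hc hcS).2.2 y hyS]; group
  have hnorm : ∀ s ∈ (S : Subgroup G), w0⁻¹ * (s * w0 * s⁻¹) ∈ ZS S := by
    intro s hs
    have hc' := hc.conj s
    have hy' := hy.conj s
    have hcS' : s * c * s⁻¹ ∈ (S : Subgroup G) := mul_mem (mul_mem hs hcS) (inv_mem hs)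
    have hyS' : s * y * s⁻¹ ∈ (S : Subgroup G) := mul_mem (mul_mem hs hyS) (inv_mem hs)
    set w1 := s * w0 * s⁻¹ with hw1
    have hw1e : w1 = (s * c * s⁻¹) * (s * y * s⁻¹) := by rw [hw1, hw0]; group
    have hact1 : ∀ a, Meet a → a ∈ (S : Subgroup G) → a * w1 * a⁻¹ = w1 * e := by
      intro a ha haS
      have hb : s⁻¹ * a * s ∈ (S : Subgroup G) := mul_mem (mul_mem (inv_mem hs) haS) hs
      have hbm : Meet (s⁻¹ * a * s) := by simpa using ha.conj s⁻¹
      calc a * w1 * a⁻¹ = s * ((s⁻¹ * a * s) * w0 * (s⁻¹ * a * s)⁻¹) * s⁻¹ := by rw [hw1]; group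
        _ = s * w0 * (e * s⁻¹) := by rw [hact _ hbm hb]; group
        _ = w1 * e := by rw [← heZ.2.2 s⁻¹ (inv_mem hs), hw1]; group
    have hcw : c * y * w1 = w1 * (c * y) := by
      have h1 := hact1 y hy hyS
      have h2 := hact1 c hc hcS
      calc c * y * w1 = c * (y * w1 * y⁻¹) * y := by group
        _ = c * w1 * (e * y) := by rw [h1]; group
        _ = (c * w1 * c⁻¹) * c * (y * e) := by rw [heZ.2.2 y hyS]; group
        _ = w1 * (e * (c * y)) * e := by rw [h2]; group
        _ = w1 * (c * y) * (e * e) := by rw [← heZ.2.2 (c * y) hw0S]; group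
        _ = w1 * (c * y) := by rw [heZ.2.1, mul_one]
    set g := w0⁻¹ * w1 with hg
    have hgS : g ∈ (S : Subgroup G) := mul_mem (inv_mem hw0S) (mul_mem (mul_mem hs hw0S) (inv_mem hs))
    have hga : ∀ a, Meet a → a ∈ (S : Subgroup G) → g * a = a * g := by
      intro a ha haS
      refine (mul_inv_eq_iff_eq_mul.mp ?_).symm
      calc a * g * a⁻¹ = (a * w0 * a⁻¹)⁻¹ * (a * w1 * a⁻¹) := by rw [hg]; group
        _ = e⁻¹ * g * e := by rw [hact a ha haS, hact1 a ha haS, hg]; group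
        _ = g := by rw [mul_assoc, heZ.2.2 g hgS, inv_mul_cancel_left]
    have hg2 : g * g = 1 := by
      have hcc : Commute w0⁻¹ w1 := (show Commute w0 w1 from hcw).inv_left
      have h0 : w0 * w0 = e := rfl
      have h1 : w1 * w1 = e := by
        rw [hw1, conj_mul, h0, heZ.2.2 s hs, mul_inv_cancel_right]
      rw [hg, ← pow_two, hcc.mul_pow, pow_two, pow_two, ← mul_inv_rev, h0, h1, inv_mul_cancel]
    refine (H.coset_cases hc hcS hgS hg2 (hga c hc hcS)).resolve_right fun h => hcy ?_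
    have hcyy : c * y = y * c := by
      have h1 := h.2.2 y hyS
      rw [mul_assoc, hga y hy hyS] at h1
      refine (mul_right_cancel (b := g) ?_).symm
      rw [mul_assoc, mul_assoc]
      exact h1
    show c * y * (c * y) = 1
    calc c * y * (c * y) = c * y * (y * c) := by rw [hcyy]
      _ = c * (y * y) * c := by group
      _ = 1 := by rw [hy.1.2, mul_one, hc.1.2]
  obtain ⟨μ, hμ⟩ := exists_functional (A := ZS S) (fun a ha => ha.2.1) heZ hcy
  let f : ↥(S : Subgroup G) →* ZS S :=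
    { toFun := fun s => ⟨w0⁻¹ * ((s : G) * w0 * (s : G)⁻¹), hnorm s s.2⟩
      map_one' := Subtype.ext (by simp)
      map_mul' := fun s t => Subtype.ext (by
        show w0⁻¹ * (((s * t : ↥(S : Subgroup G)) : G) * w0 * ((s * t : ↥(S : Subgroup G)) : G)⁻¹) =
          w0⁻¹ * ((s : G) * w0 * (s : G)⁻¹) * (w0⁻¹ * ((t : G) * w0 * (t : G)⁻¹))
        have hz := hnorm t t.2
        calc w0⁻¹ * ((s : G) * t * w0 * ((s : G) * t)⁻¹)
            = w0⁻¹ * ((s : G) * w0 * ((w0⁻¹ * ((t : G) * w0 * (t : G)⁻¹)) * (s : G)⁻¹)) := by group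
          _ = _ := by rw [← hz.2.2 _ (inv_mem s.2)]; group) }
  obtain ⟨z, z', hz, hz', hne⟩ := exists_two_cen H.noncomm H.ci S
  refine false_of_char H.noncomm (fun x hx g hg => H.ci.fusion hz hz' hne hx hg) (μ.comp f) ⟨c, hcS⟩ fun n => ?_
  have hnc : ((n : G) * c * (n : G)⁻¹) ∈ (S : Subgroup G) := (Subgroup.mem_normalizer_iff.mp n.2 c).mp hcS
  have hf : f ((S : Subgroup G).normalizerMonoidHom n ⟨c, hcS⟩) = ⟨e, heZ⟩ := Subtype.ext (by
    show w0⁻¹ * ((n : G) * c * (n : G)⁻¹ * w0 * ((n : G) * c * (n : G)⁻¹)⁻¹) = e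
    rw [hact _ (hc.conj n) hnc, inv_mul_cancel_left])
  rw [MonoidHom.comp_apply, hf]
  exact hμ

end HypB

end CfsgLib.CyclicInt
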