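import Cfsg.Agent.Lib.CyclicInt.CaseA
import Cfsg.Agent.Lib.CyclicInt.CaseBMain
import Cfsg.Agent.S0253

/-!
The two kinds of simple groups with cyclic intersections of Sylow 2-subgroups.

Blueprint: `blueprint/bender/S3308.md`, section 1.
-/

set_option autoImplicit false
set_option linter.unusedSectionVars false
set_option linter.style.haveILetI false

namespace CfsgLib.CyclicInt

open Subgroup MulAction
open scoped Pointwise

universe u

theorem alt_five_cent :
    ∀ d x : alternatingGroup (Fin 5), d ≠ 1 → d * d = 1 → x * d = d * x → x * x = 1 := by decide +kernel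

variable {G : Type u} [Group G] [Finite G]

/-- The group of order 60 has TI Sylow 2-subgroups. -/
theorem ti_alt_five (e : G ≃* alternatingGroup (Fin 5)) (hS : ∀ S : Sylow 2 G, ∀ a ∈ (S : Subgroup G),
    ∀ b ∈ (S : Subgroup G), a * b = b * a) : TI G := by
  intro S T d hd hdS hdT
  set C : Subgroup G := Subgroup.centralizer {d}
  have hC : IsPGroup 2 C := fun x => ⟨1, Subtype.ext (by
    rw [pow_one, Subgroup.coe_pow, pow_two, Subgroup.coe_one]
    refine e.injective ?_
    rw [map_mul, map_one]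
    refine alt_five_cent (e d) (e x) (fun h => hd.1 (e.injective (h.trans (map_one e).symm))) ?_ ?_
    · rw [← map_mul, hd.2, map_one]
    · rw [← map_mul, ← map_mul, Subgroup.mem_centralizer_singleton_iff.mp x.2])⟩
  have hle : ∀ U : Sylow 2 G, d ∈ (U : Subgroup G) → (U : Subgroup G) ≤ C := fun U hU u hu =>
    Subgroup.mem_centralizer_singleton_iff.mpr (hS U u hu d hU)
  exact Sylow.ext ((S.is_maximal' hC (hle S hdS)).symm.trans (T.is_maximal' hC (hle T hdT)))

/-- Without an elementary subgroup of order 8: one class of involutions. -/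
theorem one_class [IsSimpleGroup G] (hG : ¬ IsMulCommutative G) (h : CI G) {S : Sylow 2 G} (h8 : ¬ Eight S)
    {x y : G} (hx : Inv2 x) (hy : Inv2 y) : ∃ g, g * x * g⁻¹ = y := by
  haveI : Fact (Nat.Prime 2) := ⟨Nat.prime_two⟩
  obtain ⟨z, w, hz, hw, hzw, hlist⟩ := three_inv hG h h8
  obtain ⟨n, hn, ⟨k, hk⟩, hmove⟩ := exists_mover hG h hz
  have hall : ∀ v : G, Inv2 v → v ∈ (S : Subgroup G) → ∃ g, g * z * g⁻¹ = v := by
    intro v hv hvS
    set x1 := n * z * n⁻¹ with hx1
    set x2 := n * x1 * n⁻¹ with hx2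
    have h12 : x2 ≠ x1 := fun e => hmove (mul_left_cancel (mul_right_cancel e))
    have h20 : x2 ≠ z := by
      intro e
      have hc : Commute (n * n) z := by
        show n * n * z = z * (n * n)
        conv_rhs => rw [← e]
        rw [hx2, hx1]; group
      have hc' : Commute ((n * n) ^ (k + 1)) z := hc.pow_left _
      have he : (n * n) ^ (k + 1) = n := by
        rw [← pow_two, ← pow_mul, show 2 * (k + 1) = orderOf n + 1 by omega, pow_succ, pow_orderOf_eq_one, one_mul]
      rw [he] at hc'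
      exact hmove (by rw [hx1, hc'.eq, mul_inv_cancel_right])
    have hx1C := hz.conj hn
    have hx2C : Cen S x2 := hx1C.conj hn
    have hm : ∀ u, Cen S u → u = z ∨ u = w ∨ u = z * w := fun u hu =>
      (hlist u hu.2.1 hu.1.2).resolve_left hu.1.1
    have hcases : v = z ∨ v = x1 ∨ v = x2 := by
      rcases (hlist v hvS hv.2).resolve_left hv.1 with hv' | hv' | hv' <;>
        rcases hm x1 hx1C with e1 | e1 | e1 <;> rcases hm x2 hx2C with e2 | e2 | e2 <;>
        first
          | exact absurd e1 hmove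
          | exact absurd e2 h20
          | exact absurd (e2.trans e1.symm) h12
          | exact Or.inl hv'
          | exact Or.inr (Or.inl (hv'.trans e1.symm))
          | exact Or.inr (Or.inr (hv'.trans e2.symm))
    rcases hcases with rfl | rfl | rfl
    · exact ⟨1, by simp⟩
    · exact ⟨n, rfl⟩
    · exact ⟨n * n, by rw [hx2, hx1]; group⟩
  have key : ∀ v : G, Inv2 v → ∃ g, g * z * g⁻¹ = v := fun v hv => by
    obtain ⟨T, hT⟩ := hv.two.exists_sylow
    obtain ⟨g, rfl⟩ := MulAction.exists_smul_eq G S T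
    obtain ⟨m, hm⟩ := hall (g⁻¹ * v * g) (by simpa using hv.conj g⁻¹) (mem_smul_sylow.mp hT)
    exact ⟨g * m, by rw [show g * m * z * (g * m)⁻¹ = g * (m * z * m⁻¹) * g⁻¹ by group, hm]; group⟩
  obtain ⟨g, hg⟩ := key x hx
  obtain ⟨g', hg'⟩ := key y hy
  exact ⟨g' * g⁻¹, by rw [← hg, ← hg']; group⟩

/-- A simple group with cyclic intersections is TI or of the second kind, then identified. -/
theorem simple_kind [IsSimpleGroup G] (hB : CfsgLib.Bender.TwoClosed.PartB.{u, u}) (hG : ¬ IsMulCommutative G)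
    (hci : CI G) (ih : Below.{u} (Nat.card G)) :
    TI G ∨ (Kind2 G ∧ ((∃ (F : Type) (_ : Field F) (_ : Fintype F),
        (Fintype.card F % 8 = 3 ∨ Fintype.card F % 8 = 5) ∧ 5 < Fintype.card F ∧
          Nonempty (G ≃* Matrix.ProjectiveSpecialLinearGroup (Fin 2) F)) ∨ Cfsg.IsJ1 G)) := by
  by_cases hTI : TI G
  · exact Or.inl hTI
  right
  haveI : Fact (Nat.Prime 2) := ⟨Nat.prime_two⟩
  by_cases hall : ∀ S : Sylow 2 G, Eight S
  · by_cases hcen : ∃ (d : G) (S : Sylow 2 G), Meet d ∧ d ∈ (S : Subgroup G) ∧ Cen S d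
    · obtain ⟨d, S, hd, hdS, hdc⟩ := hcen
      obtain ⟨K⟩ := exists_comp_ctr hG hci ih hd hall
      obtain ⟨D⟩ := exists_dat hG hci hB hd.1 hdS K
      exact ⟨D.kind2 hdc hG hci hB hTI, Or.inr (D.isJ1 hdc hG hci hB)⟩
    · push Not at hcen
      exact absurd (HypB.contradiction ⟨hG, hci, ih, hall, hB, hcen, hTI⟩) id
  · push Not at hall
    obtain ⟨S, h8⟩ := hall
    obtain ⟨hcard, hsq, F, iF, iFt, hmod, h3, ⟨ψ⟩⟩ := rank_two hG hci h8 hTI
    have hsq' : ∀ T : Sylow 2 G, ∀ t ∈ (T : Subgroup G), t * t = 1 := by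
      intro T t ht
      obtain ⟨g, rfl⟩ := MulAction.exists_smul_eq G S T
      have := hsq _ (mem_smul_sylow.mp ht)
      calc t * t = g * (g⁻¹ * t * g * (g⁻¹ * t * g)) * g⁻¹ := by group
        _ = 1 := by rw [this]; group
    refine ⟨⟨hTI, fun x y hx hy => one_class hG hci h8 hx hy, hsq'⟩, Or.inl ⟨F, iF, iFt, hmod, ?_, ⟨ψ⟩⟩⟩
    by_contra h5
    obtain ⟨e⟩ := Cfsg.Agent.S0253.result (F := F) (by omega)
    refine hTI (ti_alt_five (ψ.trans e) fun T a ha b hb => ?_)
    have e1 := hsq' T _ (mul_mem ha hb)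
    have ea : a⁻¹ = a := inv_eq_of_mul_eq_one_right (hsq' T a ha)
    have eb : b⁻¹ = b := inv_eq_of_mul_eq_one_right (hsq' T b hb)
    conv_lhs => rw [← inv_eq_of_mul_eq_one_right e1, mul_inv_rev, ea, eb]

end CfsgLib.CyclicInt
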