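import Cfsg.Agent.Lib.CoprimeGen
import Cfsg.Agent.Lib.Involutions
import Cfsg.Agent.Lib.TransferApps
import Cfsg.Agent.Lib.AfterFT.CyclicIntersect.Main
import Cfsg.Agent.S0205

/-!
Cyclic intersections of Sylow 2-subgroups: basic consequences.

Blueprint: `blueprint/bender/S3308.md`, section 0.
-/

set_option autoImplicit false
set_option linter.unusedSectionVars false
set_option linter.style.haveILetI false

namespace CfsgLib.CyclicInt

open Subgroup
open scoped Pointwise

universe u

/-- Distinct Sylow 2-subgroups meet in a cyclic group. -/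
def CI (G : Type u) [Group G] : Prop :=
  ∀ S T : Sylow 2 G, S ≠ T → IsCyclic ↥((S : Subgroup G) ⊓ (T : Subgroup G))

/-- An involution. -/
def Inv2 {G : Type u} [Group G] (x : G) : Prop := x ≠ 1 ∧ x * x = 1

variable {G : Type u} [Group G]

theorem Inv2.inv {x : G} (h : Inv2 x) : x⁻¹ = x := inv_eq_of_mul_eq_one_right h.2

theorem Inv2.conj {x : G} (h : Inv2 x) (g : G) : Inv2 (g * x * g⁻¹) :=
  ⟨fun e => h.1 (conj_eq_one_iff.mp e), by rw [conj_mul, h.2, mul_one, mul_inv_cancel]⟩

theorem inv2_iff {x : G} : Inv2 x ↔ orderOf x = 2 :=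
  ⟨fun h => CfsgLib.Involutions.orderOf_eq_two_iff'.mpr ⟨h.2, h.1⟩,
    fun h => ⟨(CfsgLib.Involutions.orderOf_eq_two_iff'.mp h).2, (CfsgLib.Involutions.orderOf_eq_two_iff'.mp h).1⟩⟩

theorem Inv2.mul {x y : G} (hx : Inv2 x) (hy : Inv2 y) (hne : x ≠ y) (hc : x * y = y * x) : Inv2 (x * y) :=
  ⟨fun e => hne (by rw [← hy.inv]; exact eq_inv_of_mul_eq_one_left e), by
    rw [show x * y * (x * y) = x * (y * x) * y by group, ← hc, show x * (x * y) * y = (x * x) * (y * y) by group,
      hx.2, hy.2, one_mul]⟩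

variable [Finite G]

/-- A cyclic group has at most one involution. -/
theorem eq_of_inv_cyclic {B : Subgroup G} [IsCyclic B] {x y : G} (hxB : x ∈ B) (hyB : y ∈ B) (hx : Inv2 x)
    (hy : Inv2 y) : x = y := by
  classical
  haveI : Fintype B := Fintype.ofFinite B
  by_contra hne
  let a : B := ⟨x, hxB⟩
  let b : B := ⟨y, hyB⟩
  have hsub : ({1, a, b} : Finset B) ⊆ Finset.univ.filter fun c : B => c ^ 2 = 1 := by
    intro c hc
    simp only [Finset.mem_insert, Finset.mem_singleton] at hc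
    rw [Finset.mem_filter]
    refine ⟨Finset.mem_univ _, ?_⟩
    rcases hc with rfl | rfl | rfl
    · exact one_pow _
    · exact Subtype.ext (by rw [Subgroup.coe_pow, pow_two]; exact hx.2)
    · exact Subtype.ext (by rw [Subgroup.coe_pow, pow_two]; exact hy.2)
  have h3 : ({1, a, b} : Finset B).card = 3 :=
    Finset.card_eq_three.mpr ⟨1, a, b, fun e => hx.1 (congrArg Subtype.val e).symm,
      fun e => hy.1 (congrArg Subtype.val e).symm, fun e => hne (congrArg Subtype.val e), rfl⟩
  have := (Finset.card_le_card hsub).trans (IsCyclic.card_pow_eq_one_le (α := B) two_pos)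
  omega

theorem CI.subgroup (h : CI G) (H : Subgroup G) : CI H :=
  CfsgLib.AfterFT.CyclicIntersect.cyc_subgroup h H

/-- Two Sylow subgroups with two common involutions are equal. -/
theorem CI.eq_of_two (h : CI G) {S T : Sylow 2 G} {x y : G} (hx : Inv2 x) (hy : Inv2 y) (hne : x ≠ y)
    (hxS : x ∈ (S : Subgroup G)) (hyS : y ∈ (S : Subgroup G)) (hxT : x ∈ (T : Subgroup G))
    (hyT : y ∈ (T : Subgroup G)) : S = T := by
  by_contra hST
  haveI := h S T hST
  exact hne (eq_of_inv_cyclic (B := (S : Subgroup G) ⊓ (T : Subgroup G)) ⟨hxS, hxT⟩ ⟨hyS, hyT⟩ hx hy)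

theorem mem_smul_sylow {S : Sylow 2 G} {g x : G} :
    x ∈ ((g • S : Sylow 2 G) : Subgroup G) ↔ g⁻¹ * x * g ∈ (S : Subgroup G) := by
  rw [Sylow.coe_subgroup_smul, Subgroup.mem_pointwise_smul_iff_inv_smul_mem]
  simp [MulAut.smul_def]

theorem conj_mem_smul_sylow {S : Sylow 2 G} {g x : G} (hx : x ∈ (S : Subgroup G)) :
    g * x * g⁻¹ ∈ ((g • S : Sylow 2 G) : Subgroup G) := by
  rw [mem_smul_sylow, show g⁻¹ * (g * x * g⁻¹) * g = x by group]
  exact hx

theorem smul_eq_iff_normalizer {S : Sylow 2 G} {g : G} :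
    g • S = S ↔ g ∈ Subgroup.normalizer ((S : Subgroup G) : Set G) :=
  Sylow.smul_eq_iff_mem_normalizer

/-- An element carrying two involutions of `S` into `S` normalises `S`. -/
theorem CI.normalizes (h : CI G) {S : Sylow 2 G} {g x y : G} (hx : Inv2 x) (hy : Inv2 y) (hne : x ≠ y)
    (hxS : x ∈ (S : Subgroup G)) (hyS : y ∈ (S : Subgroup G)) (hx' : g * x * g⁻¹ ∈ (S : Subgroup G))
    (hy' : g * y * g⁻¹ ∈ (S : Subgroup G)) : g ∈ Subgroup.normalizer ((S : Subgroup G) : Set G) :=
  smul_eq_iff_normalizer.mp (h.eq_of_two (hx.conj g) (hy.conj g)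
    (fun e => hne (mul_left_cancel (mul_right_cancel e))) (conj_mem_smul_sylow hxS) (conj_mem_smul_sylow hyS)
    hx' hy')

theorem eq_one_of_two_group_odd {O : Subgroup G} (hO : Odd (Nat.card O)) {x : G} (hx : x ∈ O)
    {S : Sylow 2 G} (hxS : x ∈ (S : Subgroup G)) : x = 1 := by
  obtain ⟨k, hk⟩ := S.2 ⟨x, hxS⟩
  have h1 : orderOf x ∣ 2 ^ k := orderOf_dvd_of_pow_eq_one (congrArg Subtype.val hk)
  have h2 := Subgroup.orderOf_dvd_natCard O hx
  exact orderOf_eq_one_iff.mp
    (Nat.eq_one_of_dvd_coprimes (Nat.Coprime.pow_left k (Nat.coprime_two_left.mpr hO)) h1 h2)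

/-- An element of an odd order group centralising two involutions of a 2-group centralises it. -/
theorem CI.commute_of_two (h : CI G) {S : Sylow 2 G} {O P : Subgroup G} (hO : Odd (Nat.card O))
    (hPS : P ≤ (S : Subgroup G)) (hPO : P ≤ Subgroup.normalizer (O : Set G)) {x y w p : G} (hx : Inv2 x)
    (hy : Inv2 y) (hne : x ≠ y) (hxP : x ∈ P) (hyP : y ∈ P) (hw : w ∈ O) (hwx : w * x = x * w)
    (hwy : w * y = y * w) (hp : p ∈ P) : w * p = p * w := by
  have e : ∀ v : G, w * v = v * w → w * v * w⁻¹ = v := fun v hv => by rw [hv, mul_inv_cancel_right]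
  have hwS := h.normalizes hx hy hne (hPS hxP) (hPS hyP) (by rw [e x hwx]; exact hPS hxP)
    (by rw [e y hwy]; exact hPS hyP)
  have h1 : p⁻¹ * (w * p * w⁻¹) ∈ (S : Subgroup G) :=
    mul_mem (inv_mem (hPS hp)) ((Subgroup.mem_normalizer_iff.mp hwS p).mp (hPS hp))
  have h2 : p⁻¹ * (w * p * w⁻¹) ∈ O := by
    rw [show p⁻¹ * (w * p * w⁻¹) = p⁻¹ * w * p⁻¹⁻¹ * w⁻¹ by group]
    exact mul_mem ((Subgroup.mem_normalizer_iff.mp (hPO (inv_mem hp)) w).mp hw) (inv_mem hw)
  have h3 := eq_one_of_two_group_odd hO h2 h1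
  rw [inv_mul_eq_one] at h3
  calc w * p = w * p * w⁻¹ * w := by group
    _ = p * w := by rw [← h3]

/-- The elements of a four-group. -/
theorem mem_four_list {x y a : G} (hx : Inv2 x) (hy : Inv2 y) (hc : x * y = y * x)
    (ha : a ∈ Subgroup.closure ({x, y} : Set G)) : a = 1 ∨ a = x ∨ a = y ∨ a = x * y := by
  induction ha using Subgroup.closure_induction with
  | mem a ha => rcases ha with rfl | rfl <;> simp
  | one => simp
  | mul p q _ _ ihp ihq =>
    have e1 : x * (x * y) = y := by rw [← mul_assoc, hx.2, one_mul]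
    have e2 : y * (x * y) = x := by rw [hc, ← mul_assoc, hy.2, one_mul]
    have e3 : x * y * x = y := by rw [hc, mul_assoc, hx.2, mul_one]
    have e4 : x * y * y = x := by rw [mul_assoc, hy.2, mul_one]
    have e5 : x * y * (x * y) = 1 := by rw [← mul_assoc, e3, hy.2]
    rcases ihp with rfl | rfl | rfl | rfl <;> rcases ihq with rfl | rfl | rfl | rfl <;>
      simp [hx.2, hy.2, e1, e2, e3, e4, e5, ← hc]
  | inv p _ ih => rcases ih with rfl | rfl | rfl | rfl <;> simp [hx.inv, hy.inv, ← hc]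

/-- A four-group generated by two commuting involutions. -/
theorem four_group {x y : G} (hx : Inv2 x) (hy : Inv2 y) (hne : x ≠ y) (hc : x * y = y * x) :
    IsMulCommutative (Subgroup.closure ({x, y} : Set G)) ∧ ¬ IsCyclic (Subgroup.closure ({x, y} : Set G)) ∧
      IsPGroup 2 (Subgroup.closure ({x, y} : Set G)) := by
  haveI hcom : IsMulCommutative (Subgroup.closure ({x, y} : Set G)) :=
    Subgroup.isMulCommutative_closure (by
      rintro a (rfl | rfl) b (rfl | rfl)
      exacts [rfl, hc, hc.symm, rfl])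
  refine ⟨hcom, fun hcyc => hne (eq_of_inv_cyclic (B := Subgroup.closure ({x, y} : Set G))
    (Subgroup.subset_closure (Or.inl rfl)) (Subgroup.subset_closure (Or.inr rfl)) hx hy), ?_⟩
  intro a
  refine ⟨1, Subtype.ext ?_⟩
  rw [pow_one, Subgroup.coe_pow, Subgroup.coe_one]
  have hall : ∀ w ∈ Subgroup.closure ({x, y} : Set G), w ^ 2 = 1 := fun w hw => by
    induction hw using Subgroup.closure_induction with
    | mem w hw => rcases hw with rfl | rfl <;> rw [pow_two] <;> first | exact hx.2 | exact hy.2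
    | one => exact one_pow _
    | mul p q hp hq ihp ihq =>
      rw [(show Commute p q from congrArg Subtype.val
        (mul_comm' (⟨p, hp⟩ : Subgroup.closure ({x, y} : Set G)) ⟨q, hq⟩)).mul_pow, ihp, ihq, one_mul]
    | inv p _ ih => rw [inv_pow, ih, inv_one]
  exact hall a a.2

/-- An odd order group acted on by a four-group is generated by the three centralisers. -/
theorem mem_of_four {x y : G} {O D : Subgroup G} (hx : Inv2 x) (hy : Inv2 y) (hne : x ≠ y)
    (hc : x * y = y * x) (hO : Odd (Nat.card O)) (hxO : x ∈ Subgroup.normalizer (O : Set G))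
    (hyO : y ∈ Subgroup.normalizer (O : Set G))
    (hD : ∀ e w : G, Inv2 e → e ∈ Subgroup.closure ({x, y} : Set G) → w ∈ O → w * e = e * w → w ∈ D)
    {w : G} (hw : w ∈ O) : w ∈ D := by
  obtain ⟨hcom, hcyc, h2⟩ := four_group hx hy hne hc
  have hle : Subgroup.closure ({x, y} : Set G) ≤ Subgroup.normalizer (O : Set G) := by
    refine (Subgroup.closure_le _).mpr ?_
    rintro z (rfl | rfl) <;> assumption
  have hcop : (Nat.card (Subgroup.closure ({x, y} : Set G))).Coprime (Nat.card O) := by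
    haveI : Fact (Nat.Prime 2) := ⟨Nat.prime_two⟩
    obtain ⟨n, hn⟩ := IsPGroup.iff_card.mp h2
    rw [hn]
    exact Nat.Coprime.pow_left n (Nat.coprime_two_left.mpr hO)
  rw [← CfsgLib.coprime_generated_by_centralizers hcyc hle hcop] at hw
  refine (iSup₂_le ?_ : (⨆ e ∈ {a : G | a ∈ Subgroup.closure ({x, y} : Set G) ∧ a ≠ 1},
    O ⊓ Subgroup.centralizer {e}) ≤ D) hw
  rintro e ⟨he, he1⟩ v ⟨hv, hve⟩
  refine hD e v ⟨he1, ?_⟩ he hv (Subgroup.mem_centralizer_singleton_iff.mp hve)
  obtain ⟨k, hk⟩ := h2 ⟨e, he⟩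
  have hsq : ∀ a ∈ Subgroup.closure ({x, y} : Set G), a * a = 1 := fun a ha => by
    induction ha using Subgroup.closure_induction with
    | mem a ha => rcases ha with rfl | rfl <;> first | exact hx.2 | exact hy.2
    | one => exact one_mul 1
    | mul p q hp hq ihp ihq =>
      have e' : Commute p q := congrArg Subtype.val
        (mul_comm' (⟨p, hp⟩ : Subgroup.closure ({x, y} : Set G)) ⟨q, hq⟩)
      rw [← pow_two, e'.mul_pow, pow_two, pow_two, ihp, ihq, one_mul]
    | inv p _ ih => rw [← mul_inv_rev, ih, inv_one]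
  exact hsq e he

/-- A 2-group with an elementary subgroup of order 8 centralises the odd groups it normalises. -/
theorem CI.commute_of_eight (h : CI G) {S : Sylow 2 G} {O P : Subgroup G} (hO : Odd (Nat.card O))
    (hPS : P ≤ (S : Subgroup G)) (hPO : P ≤ Subgroup.normalizer (O : Set G)) {x y z : G} (hx : Inv2 x)
    (hy : Inv2 y) (hz : Inv2 z) (hxy : x ≠ y) (hxz : x ≠ z) (hyz : y ≠ z) (hzxy : z ≠ x * y)
    (hxP : x ∈ P) (hyP : y ∈ P) (hzP : z ∈ P) (cxy : x * y = y * x) (cxz : x * z = z * x)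
    (cyz : y * z = z * y) {w p : G} (hw : w ∈ O) (hp : p ∈ P) : w * p = p * w := by
  suffices hcent : w ∈ Subgroup.centralizer (P : Set G) from (hcent p hp).symm
  have hle : Subgroup.closure ({x, y} : Set G) ≤ P := by
    refine (Subgroup.closure_le _).mpr ?_
    rintro v (rfl | rfl) <;> assumption
  refine mem_of_four hx hy hxy cxy hO (hPO hxP) (hPO hyP) (fun e v he he' hv hve => ?_) hw
  have hce : ∀ a ∈ Subgroup.closure ({x, y} : Set G), a * z = z * a := fun a ha => by
    induction ha using Subgroup.closure_induction with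
    | mem a ha => rcases ha with rfl | rfl <;> assumption
    | one => rw [one_mul, mul_one]
    | mul p q _ _ ihp ihq => exact (Commute.mul_left ihp ihq : Commute (p * q) z)
    | inv p _ ih => exact (Commute.inv_left ih : Commute p⁻¹ z)
  have hzout : z ∉ Subgroup.closure ({x, y} : Set G) := fun hzc => by
    rcases mem_four_list hx hy cxy hzc with e1 | e1 | e1 | e1
    exacts [hz.1 e1, hxz e1.symm, hyz e1.symm, hzxy e1]
  -- a second involution of the four-group
  obtain ⟨f, hf, hfne, hfP, hfmem⟩ : ∃ f, Inv2 f ∧ e ≠ f ∧ f ∈ P ∧ f ∈ Subgroup.closure ({x, y} : Set G) := by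
    by_cases hex : e = x
    · exact ⟨y, hy, hex ▸ hxy, hyP, Subgroup.subset_closure (Or.inr rfl)⟩
    · exact ⟨x, hx, hex, hxP, Subgroup.subset_closure (Or.inl rfl)⟩
  set O' : Subgroup G := O ⊓ Subgroup.centralizer {e} with hO'
  have hO'odd : Odd (Nat.card O') := hO.of_dvd_nat (Subgroup.card_dvd_of_le inf_le_left)
  have hnorm : ∀ a ∈ P, a * e = e * a → a ∈ Subgroup.normalizer (O' : Set G) := by
    intro a ha hae
    rw [Subgroup.mem_normalizer_iff]
    intro b
    simp only [hO', Subgroup.mem_inf, Subgroup.mem_centralizer_singleton_iff]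
    refine and_congr (Subgroup.mem_normalizer_iff.mp (hPO ha) b) ⟨fun hb => ?_, fun hb => ?_⟩
    · exact (Commute.mul_left (Commute.mul_left hae hb) (Commute.inv_left hae) : Commute (a * b * a⁻¹) e)
    · have h' : Commute (a⁻¹ * (a * b * a⁻¹) * a) e :=
        Commute.mul_left (Commute.mul_left (Commute.inv_left hae) hb) hae
      rwa [show a⁻¹ * (a * b * a⁻¹) * a = b by group] at h'
  have hfe : f * e = e * f := congrArg Subtype.val
    ((four_group hx hy hxy cxy).1.is_comm.comm (⟨f, hfmem⟩ : Subgroup.closure ({x, y} : Set G)) ⟨e, he'⟩)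
  refine mem_of_four hz hf (fun e1 => hzout (e1 ▸ hfmem)) (hce f hfmem).symm hO'odd
    (hnorm z hzP (hce e he').symm) (hnorm f hfP hfe) (fun g v' hg hg' hv' hv'g => ?_)
    (show v ∈ O' from ⟨hv, Subgroup.mem_centralizer_singleton_iff.mpr hve⟩)
  intro q hq
  have hgP : g ∈ P := (Subgroup.closure_le _).mpr (by rintro w (rfl | rfl) <;> assumption) hg'
  refine (h.commute_of_two hO hPS hPO he hg (fun e1 => ?_) (hle he') hgP hv'.1
    (Subgroup.mem_centralizer_singleton_iff.mp hv'.2) hv'g hq).symm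
  -- `e` does not lie in the four-group `⟨z, f⟩`
  subst e1
  rcases mem_four_list hz hf (hce f hfmem).symm hg' with e1 | e1 | e1 | e1
  · exact he.1 e1
  · exact hzout (e1 ▸ he')
  · exact hfne e1
  · refine hzout ?_
    have := mul_mem (e1 ▸ he') (inv_mem hfmem)
    rwa [mul_inv_cancel_right] at this

end CfsgLib.CyclicInt
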