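import Cfsg.Agent.Lib.CyclicInt.Defs
import Cfsg.Agent.Lib.SuzukiRankOne.UnitaryModel

/-!
In `PSU₃(q)`, `q` even, a nontrivial element of odd order centralises the involutions of a Sylow 2-subgroup.

Blueprint: `blueprint/bender/S3308.md`, section 2.
-/

set_option autoImplicit false
set_option linter.unusedSectionVars false
set_option linter.style.haveILetI false

namespace CfsgLib.CyclicInt

open CfsgLib.PSUBorel CfsgLib.PSU3Min Matrix
open CfsgLib.Dickson (up)

variable {F : Type} [Field F] [Fintype F] (c : Conj F) [CharP F 2]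

theorem dg_mul (x y : Fˣ) : dg c x * dg c y = dg c (x * y) := by
  refine SUs_ext c ?_
  rw [coe_mul]
  show Matrix.diagonal _ * Matrix.diagonal _ = Matrix.diagonal _
  rw [Matrix.diagonal_mul_diagonal]
  congr 1
  funext i
  fin_cases i <;> simp [mul_comm, mul_div_mul_comm]

theorem dg_one : dg c 1 = 1 := by
  refine SUs_ext c ?_
  rw [coe_one]
  show Matrix.diagonal _ = _
  rw [← Matrix.diagonal_one]
  congr 1
  funext i
  fin_cases i <;> simp

/-- The element of the model. -/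
theorem exists_delta_model (hq : 4 ≤ c.q) :
    ∃ (δ : SUs c 3 ⧸ Subgroup.center (SUs c 3)) (A : Set (SUs c 3 ⧸ Subgroup.center (SUs c 3))),
      δ ≠ 1 ∧ Odd (orderOf δ) ∧ A.ncard + 1 = c.q ∧
        ∀ a ∈ A, Inv2 a ∧ δ * a = a * δ ∧ ∀ b ∈ A, a * b = b * a := by
  classical
  haveI : Fact (Nat.Prime 2) := ⟨Nat.prime_two⟩
  have hb : (1 : F) ≠ 0 := one_ne_zero
  have hb0 : c.σ (1 : F) = -1 := by rw [map_one, CharTwo.neg_eq]
  haveI : CharP (Fix c) 2 := (Fix c).subtype.charP Subtype.val_injective 2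
  let π : SUs c 3 →* SUs c 3 ⧸ Subgroup.center (SUs c 3) := QuotientGroup.mk' _
  let e : Matrix.SpecialLinearGroup (Fin 2) (Fix c) →* SUs c 3 := emb2 c hb hb0
  obtain ⟨g, hg⟩ := IsCyclic.exists_ofOrder_eq_natCard (α := Fˣ)
  set x : Fˣ := g ^ (c.q - 1) with hx
  have hq2 : c.q ^ 2 - 1 = (c.q - 1) * (c.q + 1) := by
    rw [mul_comm, ← Nat.sq_sub_sq, one_pow]
  have hox : orderOf x = c.q + 1 := by
    rw [hx, orderOf_pow_of_dvd (by omega) ⟨c.q + 1, by rw [hg, card_units c, hq2]⟩, hg, card_units c, hq2,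
      Nat.mul_div_cancel_left _ (by omega)]
  have hσ : c.σ (x : F) = (x : F)⁻¹ := by
    refine eq_inv_of_mul_eq_one_left ?_
    rw [c.hσ, ← pow_succ, ← Units.val_pow_eq_pow_val, ← hox, pow_orderOf_eq_one, Units.val_one]
  have hpow : ∀ n : ℕ, dg c x ^ n = dg c (x ^ n) := fun n => by
    induction n with
    | zero => rw [pow_zero, pow_zero, dg_one]
    | succ n ih => rw [pow_succ, pow_succ, ih, dg_mul]
  have hodd : Odd (c.q + 1) := by
    obtain ⟨f, hf, ef⟩ := exists_pow_q c 2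
    exact (Nat.even_pow.mpr ⟨even_two, hf.ne'⟩ : Even (2 ^ f)).add_one.elim fun m hm => ⟨m, by rw [ef]; omega⟩
  have hcomm : ∀ y : Fix c, dg c x * e (up y) = e (up y) * dg c x := fun y => by
    refine SUs_ext c ?_
    rw [coe_mul, coe_mul]
    ext i j
    fin_cases i <;> fin_cases j <;>
      simp [e, dg, emb2, Matrix.mul_apply, Fin.sum_univ_three, hσ, mul_comm]
  have hup : ∀ y z : Fix c, up y * up z = up (y + z) := fun y z => by
    apply Dickson.ext_entries <;> simp [Dickson.mul_entry, add_comm]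
  have hinj : ∀ y : Fix c, π (e (up y)) = 1 → y = 0 := by
    intro y hy
    have hc := (QuotientGroup.eq_one_iff (e (up y))).mp hy
    obtain ⟨wF, hwF⟩ : ∃ w : Matrix.SpecialLinearGroup (Fin 2) (Fix c), w.1 = !![0, 1; 1, 0] :=
      ⟨⟨_, by simp [Matrix.det_fin_two, CharTwo.neg_eq]⟩, rfl⟩
    have h := Subgroup.mem_center_iff.mp hc (e wF)
    rw [← map_mul, ← map_mul] at h
    have h1 := congrArg (fun M : Matrix.SpecialLinearGroup (Fin 2) (Fix c) => M.1 0 0) (emb2_inj c hb hb0 h)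
    simpa [Dickson.mul_entry, hwF] using h1.symm
  let f : {y : Fix c // y ≠ 0} → SUs c 3 ⧸ Subgroup.center (SUs c 3) := fun y => π (e (up y.1))
  refine ⟨π (dg c x), Set.range f, ?_, ?_, ?_, ?_⟩
  · intro h
    have hc := (QuotientGroup.eq_one_iff (dg c x)).mp h
    have h3 : dg c x ^ 3 = 1 := by
      refine orderOf_dvd_iff_pow_eq_one.mp (dvd_trans ?_ (card_center c).1)
      rw [← Subgroup.orderOf_mk (dg c x) hc]
      exact orderOf_dvd_natCard _
    rw [hpow] at h3
    have h4 := congrArg (fun A : SUs c 3 => A.1.1 0 0) h3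
    simp [dg] at h4
    have := orderOf_dvd_of_pow_eq_one (show x ^ 3 = 1 from Units.ext (by simpa using h4))
    rw [hox] at this
    have := Nat.le_of_dvd (by norm_num) this
    omega
  · refine hodd.of_dvd_nat (orderOf_dvd_of_pow_eq_one ?_)
    rw [← map_pow, hpow, ← hox, pow_orderOf_eq_one, dg_one, map_one]
  · have hfinj : Function.Injective f := fun y z h => Subtype.ext (by
      have h1 : π (e (up (y.1 + z.1))) = 1 := by
        rw [← hup, map_mul, map_mul, show π (e (up y.1)) = π (e (up z.1)) from h, ← map_mul, ← map_mul, hup,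
          CharTwo.add_self_eq_zero]
        rw [show up (0 : Fix c) = 1 from Dickson.ext_entries (by simp) (by simp) (by simp) (by simp), map_one, map_one]
      exact CharTwo.add_eq_zero.mp (hinj _ h1))
    rw [← Nat.card_coe_set_eq, Nat.card_range_of_injective hfinj]
    haveI : Fintype (Fix c) := Fintype.ofFinite _
    rw [Nat.card_eq_fintype_card, Fintype.card_subtype_compl, Fintype.card_subtype_eq, ← Nat.card_eq_fintype_card,
      card_Fix c hb hb0]
    omega
  · rintro _ ⟨y, rfl⟩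
    refine ⟨⟨fun h => y.2 (hinj _ h), ?_⟩, ?_, ?_⟩
    · rw [← map_mul, ← map_mul, hup, CharTwo.add_self_eq_zero,
        show up (0 : Fix c) = 1 from Dickson.ext_entries (by simp) (by simp) (by simp) (by simp), map_one, map_one]
    · rw [← map_mul, ← map_mul, hcomm]
    · rintro _ ⟨z, rfl⟩
      rw [← map_mul, ← map_mul, ← map_mul, ← map_mul, hup, hup, add_comm]

/-- The 2-part of the order of the model. -/
theorem card_model : ∃ m : ℕ, Odd m ∧ Nat.card (SUs c 3 ⧸ Subgroup.center (SUs c 3)) = c.q ^ 3 * m := by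
  haveI : Fact (Nat.Prime 2) := ⟨Nat.prime_two⟩
  obtain ⟨f, hf, ef⟩ := exists_pow_q c 2
  have hodd : Odd ((c.q ^ 2 - 1) * (c.q ^ 3 + 1)) := by
    have h1 : 2 ∣ c.q := p_dvd_q c 2
    refine (Nat.not_even_iff_odd.mp fun h => not_dvd_sq_sub_one c 2 h.two_dvd).mul ?_
    exact Nat.not_even_iff_odd.mp fun h => not_dvd_add_one 2 (h1.trans (dvd_pow_self _ three_ne_zero)) h.two_dvd
  have h := (Subgroup.card_eq_card_quotient_mul_card_subgroup (Subgroup.center (SUs c 3))).symm.trans (card_G c)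
  have hz : Odd (Nat.card (Subgroup.center (SUs c 3))) := (by decide : Odd 3).of_dvd_nat (card_center c).1
  have hd : c.q ^ 3 ∣ Nat.card (SUs c 3 ⧸ Subgroup.center (SUs c 3)) := by
    refine (Nat.Coprime.dvd_of_dvd_mul_right ?_ ⟨_, h⟩)
    rw [ef, ← pow_mul]
    exact Nat.Coprime.pow_left _ (Nat.coprime_two_left.mpr hz)
  obtain ⟨m, hm⟩ := hd
  refine ⟨m, ?_, hm⟩
  rw [hm, mul_assoc] at h
  rw [← Nat.eq_of_mul_eq_mul_left (pow_pos (show 0 < c.q from c.one_lt.le) 3) h] at hodd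
  exact (Nat.odd_mul.mp hodd).1

/-- The element in `PSU₃(2^n)`. -/
theorem exists_delta {K : Type} [Field K] [Fintype K] {n : ℕ} (hn : 2 ≤ n) (hK : Fintype.card K = (2 ^ n) ^ 2) :
    ∃ (δ : Cfsg.PSU 3 K (2 ^ n)) (A : Set (Cfsg.PSU 3 K (2 ^ n))),
      δ ≠ 1 ∧ Odd (orderOf δ) ∧ A.ncard + 1 = 2 ^ n ∧
        (∀ a ∈ A, Inv2 a ∧ δ * a = a * δ ∧ ∀ b ∈ A, a * b = b * a) ∧
        ∃ m : ℕ, Odd m ∧ Nat.card (Cfsg.PSU 3 K (2 ^ n)) = (2 ^ n) ^ 3 * m := by
  haveI : Fact (Nat.Prime 2) := ⟨Nat.prime_two⟩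
  haveI : CharP K 2 := by
    obtain ⟨r, hr⟩ := CharP.exists K
    obtain ⟨f, hp, hf⟩ := FiniteField.card K r
    have : r ∣ 2 := hp.dvd_of_dvd_pow (n := n * 2) (by
      rw [pow_mul, ← hK, hf]; exact dvd_pow_self r f.pos.ne')
    rwa [(Nat.prime_dvd_prime_iff_eq hp Nat.prime_two).mp this] at hr
  obtain ⟨-, σ, hσ⟩ := CfsgLib.UnitaryBasic.frob_exists hK
  let c : CfsgLib.PSUBorel.Conj K := ⟨2 ^ n, σ, hK, hσ⟩
  obtain ⟨δ, A, h1, h2, h3, h4⟩ := exists_delta_model c
    (show 4 ≤ 2 ^ n from (show (4 : ℕ) = 2 ^ 2 by norm_num) ▸ Nat.pow_le_pow_right (by norm_num) hn)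
  obtain ⟨E⟩ := CfsgLib.PSUBorel.exists_iso c (n := 3)
  let eP : (CfsgLib.PSUBorel.SUs c 3 ⧸ Subgroup.center (CfsgLib.PSUBorel.SUs c 3)) ≃* Cfsg.PSU 3 K (2 ^ n) :=
    QuotientGroup.congr _ _ E (by
      ext x
      constructor
      · rintro ⟨y, hy, rfl⟩
        exact Subgroup.mem_center_iff.mpr fun z => by
          obtain ⟨z', rfl⟩ := E.surjective z
          show E z' * E y = E y * E z'
          rw [← map_mul, ← map_mul, Subgroup.mem_center_iff.mp hy z']
      · intro hx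
        refine ⟨E.symm x, Subgroup.mem_center_iff.mpr fun z => E.injective ?_, by simp⟩
        simp [Subgroup.mem_center_iff.mp hx (E z)])
  obtain ⟨m, hm, hcard⟩ := card_model c
  refine ⟨eP δ, eP '' A, fun h => h1 (eP.injective (h.trans (map_one eP).symm)), ?_, ?_, ?_,
    m, hm, (Nat.card_congr eP.toEquiv).symm.trans hcard⟩
  · rwa [MulEquiv.orderOf_eq eP δ]
  · rw [Set.ncard_image_of_injective A eP.injective]; exact h3
  · rintro _ ⟨a, ha, rfl⟩
    obtain ⟨ha', hd, hab⟩ := h4 a ha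
    refine ⟨⟨fun h => ha'.1 (eP.injective (h.trans (map_one eP).symm)), by rw [← map_mul, ha'.2, map_one]⟩,
      by rw [← map_mul, ← map_mul, hd], ?_⟩
    rintro _ ⟨b, hb, rfl⟩
    rw [← map_mul, ← map_mul, hab b hb]

end CfsgLib.CyclicInt
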