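import Cfsg.Agent.Lib.CyclicInt.Component
import Mathlib.FieldTheory.Finite.Basic
import Mathlib.FieldTheory.Galois.Basic
import Mathlib.GroupTheory.SpecificGroups.Alternating
import Mathlib.GroupTheory.Transfer
import Mathlib.LinearAlgebra.Dual.Lemmas

/-!
Auxiliary facts: semilinear transitivity on eight elements, simple groups with five Sylow 2-subgroups, central
extensions of the alternating group of degree five generated by involutions, and nonabelian groups of order 16.

Blueprint: `blueprint/bender/S3308.md`, case a.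
-/

set_option autoImplicit false
set_option linter.unusedSectionVars false
set_option linter.style.haveILetI false

namespace CfsgLib.CyclicInt

open Subgroup MulAction
open scoped Pointwise IsMulCommutative

universe u v

theorem ring_aut_card_le {F : Type} [Field F] [Fintype F] [CharP F 2] {m : ℕ} (hm : Fintype.card F = 2 ^ m) :
    Nat.card (F ≃+* F) ≤ m := by
  haveI : Fact (Nat.Prime 2) := ⟨Nat.prime_two⟩
  letI : Algebra (ZMod 2) F := ZMod.algebra F 2
  have hfr : Module.finrank (ZMod 2) F = m := by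
    have h := Module.natCard_eq_pow_finrank (K := ZMod 2) (V := F)
    rw [Nat.card_eq_fintype_card, hm, Nat.card_zmod] at h
    exact (Nat.pow_right_injective le_rfl h).symm
  haveI : IsGalois (ZMod 2) F := GaloisField.instIsGaloisOfFinite
  rw [← hfr, ← IsGalois.card_aut_eq_finrank (ZMod 2) F]
  let g : (F ≃+* F) → (F ≃ₐ[ZMod 2] F) := fun σ => AlgEquiv.ofRingEquiv (f := σ) fun x =>
    RingHom.congr_fun (Subsingleton.elim (σ.toRingHom.comp (algebraMap (ZMod 2) F)) (algebraMap (ZMod 2) F)) x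
  exact Nat.card_le_card_of_injective g fun σ τ h => RingEquiv.ext fun x => AlgEquiv.congr_fun h x

theorem four_of_bound {q m : ℕ} (hq : 4 ≤ q) (hm : 2 ^ m = 2 * q) (hb : q - 1 ≤ m) : q = 4 := by
  by_contra hne
  have h3 : 4 ≤ m := by
    by_contra h
    have h1 : (2:ℕ) ^ m ≤ 2 ^ 3 := Nat.pow_le_pow_right two_pos (by omega)
    omega
  have key : ∀ i, 2 * (i + 4 + 1) < 2 ^ (i + 4) := fun i => by
    induction i with
    | zero => norm_num
    | succ i ih => rw [pow_succ]; omega
  have := key (m - 4)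
  rw [show m - 4 + 4 = m by omega] at this
  omega

theorem iso_alt_five {L : Type u} [Group L] [Finite L] [IsSimpleGroup L] (hL : ¬ IsMulCommutative L)
    [FaithfulSMul L (Sylow 2 L)] (h5 : Nat.card (Sylow 2 L) = 5) (h4 : 4 ∣ Nat.card L) :
    Nonempty (L ≃* alternatingGroup (Fin 5)) := by
  classical
  haveI : Fact (Nat.Prime 2) := ⟨Nat.prime_two⟩
  letI : Fintype (Sylow 2 L) := Fintype.ofFinite _
  let e : Sylow 2 L ≃ Fin 5 := Fintype.equivFinOfCardEq (by rw [← Nat.card_eq_fintype_card, h5])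
  let ψ : L →* Equiv.Perm (Fin 5) := e.permCongrHom.toMonoidHom.comp (MulAction.toPermHom L (Sylow 2 L))
  have hψ : Function.Injective ψ := e.permCongrHom.injective.comp MulAction.toPerm_injective
  have hev : ∀ l, ψ l ∈ alternatingGroup (Fin 5) := by
    let s : L →* ℤˣ := Equiv.Perm.sign.comp ψ
    rcases IsSimpleGroup.eq_bot_or_eq_top_of_normal s.ker inferInstance with h | h
    · exact absurd ⟨⟨fun a b => (MonoidHom.ker_eq_bot_iff s).mp h (by rw [map_mul, map_mul, mul_comm])⟩⟩ hL
    · exact fun l => Equiv.Perm.mem_alternatingGroup.mpr ((h ▸ Subgroup.mem_top l : l ∈ s.ker))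
  let φ : L →* alternatingGroup (Fin 5) := ψ.codRestrict _ hev
  have hφ : Function.Injective φ := fun a b h => hψ (congrArg Subtype.val h)
  have hA5 : Nat.card (alternatingGroup (Fin 5)) = 60 := by
    rw [nat_card_alternatingGroup, Nat.card_eq_fintype_card, Fintype.card_fin]; rfl
  have hdvd : Nat.card L ∣ 60 := hA5 ▸ Subgroup.card_dvd_of_injective φ hφ
  have h5d : 5 ∣ Nat.card L := by
    obtain ⟨P⟩ : Nonempty (Sylow 2 L) := inferInstance
    rw [← h5, P.card_eq_index_normalizer]
    exact Subgroup.index_dvd_card _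
  have h20 : 20 ∣ Nat.card L := Nat.Coprime.mul_dvd_of_dvd_of_dvd (show Nat.Coprime 4 5 by norm_num) h4 h5d
  have hcases : Nat.card L = 20 ∨ Nat.card L = 60 := by
    obtain ⟨k, hk⟩ := h20
    have hle := Nat.le_of_dvd (by norm_num) hdvd
    have : k ≤ 3 := by omega
    rw [hk] at hdvd ⊢
    interval_cases k <;> simp_all
  rcases hcases with h | h
  · exfalso
    haveI : Fact (Nat.Prime 5) := ⟨by norm_num⟩
    obtain ⟨P⟩ : Nonempty (Sylow 5 L) := inferInstance
    have h1 : Nat.card (Sylow 5 L) = 1 := by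
      have hmod : Nat.card (Sylow 5 L) % 5 = 1 := card_sylow_modEq_one 5 L
      have hP : 5 ∣ Nat.card P := P.dvd_card_of_dvd_card h5d
      have hdd : Nat.card (Sylow 5 L) ∣ 4 := by
        have h1 := P.card_dvd_index
        have h2 := (P : Subgroup L).card_mul_index
        rw [h] at h2
        obtain ⟨j, hj⟩ := hP
        rw [hj, show 5 * j * (P : Subgroup L).index = 5 * (j * (P : Subgroup L).index) by ring] at h2
        exact h1.trans ⟨j, by rw [mul_comm]; omega⟩
      have := Nat.le_of_dvd (by norm_num) hdd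
      omega
    haveI : Subsingleton (Sylow 5 L) := (Nat.card_eq_one_iff_unique.mp h1).1
    rcases IsSimpleGroup.eq_bot_or_eq_top_of_normal (P : Subgroup L) (Sylow.normal_of_subsingleton P) with e1 | e1
    · exact P.ne_bot_of_dvd_card h5d e1
    · haveI := (P.2.of_surjective ((MulEquiv.subgroupCongr e1).trans Subgroup.topEquiv).toMonoidHom
        (MulEquiv.surjective _)).isNilpotent
      exact not_solvable hL inferInstance
  · exact ⟨MulEquiv.ofBijective φ ((Nat.bijective_iff_injective_and_card φ).mpr ⟨hφ, by rw [h, hA5]⟩)⟩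

/-- A central extension of the alternating group of degree five by an involution, generated by involutions and
with elementary abelian Sylow 2-subgroups. -/
theorem prod_iso {W : Type u} [Group W] [Finite W] {M : Type v} [Group M] [Finite M] (hM : Nat.card M = 60)
    (π : W →* M) (hπ : Function.Surjective π) (hcen : π.ker ≤ Subgroup.center W)
    (hgen : Subgroup.closure {x : W | x * x = 1} = ⊤) {d : W} (hd : Inv2 d) (hdk : π d = 1) (S : Subgroup W)
    (hS2 : ∀ x ∈ S, x * x = 1) (hidx : Odd S.index) (hdS : d ∈ S)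
    (hker2 : ∀ k : W, π k = 1 → Two k → k = 1 ∨ k = d) :
    Nonempty (W ≃* Multiplicative (ZMod 2) × M) := by
  classical
  have hodd : ∀ p : ℕ, p.Prime → p ≠ 2 → ∀ k : W, π k = 1 → orderOf k = p → False := by
    intro p hp hp2 k hk hord
    haveI : Fact p.Prime := ⟨hp⟩
    have hkP : IsPGroup p (zpowers k) := IsPGroup.of_card (n := 1) (by rw [Nat.card_zpowers, hord, pow_one])
    obtain ⟨P, hP⟩ := hkP.exists_le_sylow
    let f := (π.comp (P : Subgroup W).subtype).rangeRestrict
    haveI : IsCyclic (π.comp (P : Subgroup W).subtype).range := by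
      have h1 : IsPGroup p (π.comp (P : Subgroup W).subtype).range := P.2.of_surjective f (MonoidHom.rangeRestrict_surjective _)
      obtain ⟨i, hi⟩ := IsPGroup.iff_card.mp h1
      have h2 : p ^ i ∣ 60 := hi ▸ hM ▸ Subgroup.card_subgroup_dvd_card _
      rcases Nat.lt_or_ge i 2 with h3 | h3
      · rcases Nat.lt_or_ge i 1 with h4 | h4
        · haveI : Subsingleton (π.comp (P : Subgroup W).subtype).range :=
            (Nat.card_eq_one_iff_unique.mp (by rw [hi, show i = 0 by omega, pow_zero])).1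
          exact isCyclic_of_subsingleton
        · exact isCyclic_of_prime_card (p := p) (by rw [hi, show i = 1 by omega, pow_one])
      · exfalso
        have h5 : p * p ∣ 60 := by
          have := (pow_dvd_pow p h3).trans h2
          rwa [pow_two] at this
        have h6 : p * p ≤ 60 := Nat.le_of_dvd (by norm_num) h5
        have h7 : p ≤ 7 := by nlinarith
        interval_cases p <;> simp_all (config := { decide := true })
    haveI hcomm : IsMulCommutative (P : Subgroup W) := MonoidHom.isMulCommutative_of_isCyclic_of_ker_le_center f fun v hv => by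
      have hv' : π (v : W) = 1 := congrArg Subtype.val (MonoidHom.mem_ker.mp hv)
      exact Subgroup.mem_center_iff.mpr fun w => Subtype.ext (Subgroup.mem_center_iff.mp (hcen hv') w)
    let τ : W →* (P : Subgroup W) := MonoidHom.transfer (MonoidHom.id (P : Subgroup W))
    have hτ : τ = 1 := by
      refine MonoidHom.eq_of_eqOn_dense hgen fun x (hx : x * x = 1) => ?_
      show τ x = 1
      have h2 : τ x * τ x = 1 := by rw [← map_mul, hx, map_one]
      obtain ⟨j, hj⟩ := P.2 (τ x)
      refine orderOf_eq_one_iff.mp (Nat.eq_one_of_dvd_coprimes (Nat.Coprime.pow_left j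
        ((Nat.coprime_primes hp Nat.prime_two).mpr hp2)) (orderOf_dvd_of_pow_eq_one hj)
        (orderOf_dvd_of_pow_eq_one (by rw [pow_two, h2])))
    have hkey : ∀ (n : ℕ) (g₀ : W), g₀⁻¹ * k ^ n * g₀ ∈ (P : Subgroup W) → g₀⁻¹ * k ^ n * g₀ = k ^ n := fun n g₀ _ => by
      rw [mul_assoc, ← (Subgroup.mem_center_iff.mp (pow_mem (hcen (show k ∈ π.ker from hk)) n) g₀),
        inv_mul_cancel_left]
    have h1 := MonoidHom.transfer_eq_pow (ϕ := MonoidHom.id (P : Subgroup W)) k hkey
    have h2 : k ^ (P : Subgroup W).index = 1 := by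
      have h3 : (τ k : W) = 1 := by rw [hτ]; rfl
      rw [h1] at h3
      exact h3
    have h3 := orderOf_dvd_of_pow_eq_one h2
    rw [hord] at h3
    exact P.not_dvd_index h3
  have hker : ∀ k : W, π k = 1 → k = 1 ∨ k = d := by
    intro k hk
    obtain ⟨a, b, ha, hb, ha2, hbo, e⟩ := exists_split k
    have hb1 : b = 1 := by
      by_contra hb1
      have ho : orderOf b ≠ 1 := fun h => hb1 (orderOf_eq_one_iff.mp h)
      obtain ⟨p, hp, hpd⟩ := Nat.exists_prime_and_dvd ho
      have hp2 : p ≠ 2 := fun h => Nat.not_even_iff_odd.mpr hbo (even_iff_two_dvd.mpr (h ▸ hpd))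
      refine hodd p hp hp2 (b ^ (orderOf b / p)) ?_ (orderOf_pow_orderOf_div (orderOf_pos b).ne' hpd)
      have : b ^ (orderOf b / p) ∈ π.ker :=
        pow_mem ((zpowers_le.mpr (show k ∈ π.ker from hk)) hb) _
      exact this
    rw [hb1, mul_one] at e
    exact hker2 k hk (e ▸ ha2)
  haveI hScomm : IsMulCommutative S := ⟨⟨fun a b => Subtype.ext (by
    have e1 := hS2 _ (mul_mem a.2 b.2)
    have ea : (a : W)⁻¹ = a := inv_eq_of_mul_eq_one_right (hS2 _ a.2)
    have eb : (b : W)⁻¹ = b := inv_eq_of_mul_eq_one_right (hS2 _ b.2)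
    show (a : W) * b = b * a
    conv_lhs => rw [← inv_eq_of_mul_eq_one_right e1, mul_inv_rev, ea, eb])⟩⟩
  let τ : W →* S := MonoidHom.transfer (MonoidHom.id S)
  have hτd : τ d = ⟨d, hdS⟩ := by
    have hkey : ∀ (n : ℕ) (g₀ : W), g₀⁻¹ * d ^ n * g₀ ∈ S → g₀⁻¹ * d ^ n * g₀ = d ^ n := fun n g₀ _ => by
      rw [mul_assoc, ← (Subgroup.mem_center_iff.mp (pow_mem (hcen (show d ∈ π.ker from hdk)) n) g₀),
        inv_mul_cancel_left]
    refine Subtype.ext ?_
    rw [MonoidHom.transfer_eq_pow (ϕ := MonoidHom.id S) d hkey]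
    obtain ⟨j, hj⟩ := hidx
    show d ^ S.index = d
    rw [hj, pow_succ, pow_mul, pow_two, hd.2, one_pow, one_mul]
  letI : Module (ZMod 2) (Additive S) := AddCommGroup.zmodModule (n := 2) fun x => by
    rw [two_nsmul]
    exact Additive.toMul.injective (Subtype.ext (hS2 _ (Additive.toMul x).2))
  obtain ⟨χ, hχ⟩ : ∃ χ : Additive S →ₗ[ZMod 2] ZMod 2, χ (Additive.ofMul ⟨d, hdS⟩) ≠ 0 := by
    by_contra hcon
    push Not at hcon
    have := (Module.forall_dual_apply_eq_zero_iff (ZMod 2) (Additive.ofMul (⟨d, hdS⟩ : S))).mp hcon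
    exact hd.1 (congrArg Subtype.val (Additive.ofMul.injective this))
  let ψ : W →* Multiplicative (ZMod 2) := (AddMonoidHom.toMultiplicativeRight χ.toAddMonoidHom).comp τ
  let Φ : W →* Multiplicative (ZMod 2) × M := ψ.prod π
  have hinj : Function.Injective Φ := (injective_iff_map_eq_one Φ).mpr fun w hw => by
    refine (hker w (congrArg Prod.snd hw)).resolve_right fun e => hχ ?_
    subst e
    have h1 : ψ w = 1 := congrArg Prod.fst hw
    rw [← hτd]
    exact Multiplicative.ofAdd.injective h1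
  have hcard : Nat.card (Multiplicative (ZMod 2) × M) = Nat.card W := by
    rw [Nat.card_prod, Nat.card_congr Multiplicative.toAdd, Nat.card_zmod, hM]
    have h1 := π.ker.card_mul_index
    rw [Subgroup.index_ker, MonoidHom.range_eq_top.mpr hπ, Subgroup.card_top, hM] at h1
    have h2 : Nat.card π.ker = 2 := Nat.card_eq_two_iff.mpr ⟨1, ⟨d, hdk⟩,
      fun e => hd.1 (congrArg Subtype.val e).symm, by
        ext ⟨w, hw⟩
        simp only [Set.mem_insert_iff, Set.mem_singleton_iff, Set.mem_univ, iff_true]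
        rcases hker w hw with rfl | rfl
        · exact Or.inl rfl
        · exact Or.inr rfl⟩
    rw [h2] at h1
    omega
  exact ⟨MulEquiv.ofBijective Φ ((Nat.bijective_iff_injective_and_card Φ).mpr ⟨hinj, hcard.symm⟩)⟩

/-- A nonabelian subgroup of order 16 whose involutions are three central ones fixes one of them. -/
theorem fixed_inv_sixteen {L : Type u} [Group L] [Finite L] {U : Subgroup L} (h16 : Nat.card U = 16)
    (hcen : ∀ z ∈ U, z * z = 1 → ∀ u ∈ U, u * z = z * u) (hsq : ∀ u ∈ U, u * u * (u * u) = 1)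
    (h3 : Nat.card {z : L // z ∈ U ∧ z * z = 1} = 4) {x y : L} (hx : x ∈ U) (hy : y ∈ U) (hxy : x * y ≠ y * x) :
    Inv2 (x * y * x⁻¹ * y⁻¹) ∧ x * y * x⁻¹ * y⁻¹ ∈ U ∧
      ∀ n ∈ Subgroup.normalizer (U : Set L), n * (x * y * x⁻¹ * y⁻¹) * n⁻¹ = x * y * x⁻¹ * y⁻¹ := by
  classical
  set c := x * y * x⁻¹ * y⁻¹ with hc
  let Z : Subgroup L :=
    { carrier := {z | z ∈ U ∧ z * z = 1}
      one_mem' := ⟨one_mem _, one_mul 1⟩
      mul_mem' := fun {a b} ha hb => ⟨mul_mem ha.1 hb.1, by
        have h : Commute a b := hcen b hb.1 hb.2 a ha.1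
        rw [← pow_two, h.mul_pow, pow_two, pow_two, ha.2, hb.2, one_mul]⟩
      inv_mem' := fun {a} ha => ⟨inv_mem ha.1, by rw [← mul_inv_rev, ha.2, inv_one]⟩ }
  have hsqZ : ∀ u ∈ U, u * u ∈ Z := fun u hu => ⟨mul_mem hu hu, hsq u hu⟩
  have hcomm : ∀ u ∈ U, ∀ v ∈ U, u * v * u⁻¹ * v⁻¹ ∈ Z := fun u hu v hv => by
    rw [show u * v * u⁻¹ * v⁻¹ = (u * u) * ((u⁻¹ * v) * (u⁻¹ * v)) * (v⁻¹ * v⁻¹) by group]
    exact mul_mem (mul_mem (hsqZ u hu) (hsqZ _ (mul_mem (inv_mem hu) hv))) (hsqZ _ (inv_mem hv))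
  have hcZ : c ∈ Z := hcomm x hx y hy
  have hc1 : c ≠ 1 := fun e => hxy (by rw [hc, mul_inv_eq_one, mul_inv_eq_iff_eq_mul] at e; exact e)
  have hcU : ∀ u ∈ U, u * c = c * u := fun u hu => hcen c hcZ.1 hcZ.2 u hu
  have hnxZ : x ∉ Z := fun h => hxy (hcen x h.1 h.2 y hy).symm
  have hnyZ : y ∉ Z := fun h => hxy (hcen y h.1 h.2 x hx)
  have hnxy : x⁻¹ * y ∉ Z := fun h => hxy (by
    have h' := hcen _ h.1 h.2 x hx
    rw [← mul_assoc, mul_inv_cancel, one_mul] at h'
    conv_lhs => rw [h']
    group)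
  -- `U` is generated by `x`, `y` and `Z`
  let H : Subgroup L := Subgroup.closure ({x, y} ∪ (Z : Set L))
  have hHU : H ≤ U := (Subgroup.closure_le _).mpr (by
    rintro v ((rfl | rfl) | hv)
    exacts [hx, hy, hv.1])
  have hHeq : H = U := by
    refine Subgroup.eq_of_le_of_card_ge hHU ?_
    obtain ⟨k, hk⟩ := Subgroup.card_dvd_of_le hHU
    have hxH : x ∈ H := Subgroup.subset_closure (Or.inl (Or.inl rfl))
    have hyH : y ∈ H := Subgroup.subset_closure (Or.inl (Or.inr rfl))
    have hZH : ∀ z : Z, (z : L) ∈ H := fun z => Subgroup.subset_closure (Or.inr z.2)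
    let g : Fin 3 × Z → H := fun p =>
      ⟨(![1, x, y] : Fin 3 → L) p.1 * p.2, by
        refine mul_mem ?_ (hZH p.2)
        generalize p.1 = i
        fin_cases i <;> simp [hxH, hyH]⟩
    have hsep : ∀ i j : Fin 3, ((![1, x, y] : Fin 3 → L) i)⁻¹ * (![1, x, y] : Fin 3 → L) j ∈ Z → i = j := by
      intro i j h
      fin_cases i <;> fin_cases j <;> first | rfl | skip
      all_goals exfalso
      · exact hnxZ (by simpa using h)
      · exact hnyZ (by simpa using h)
      · exact hnxZ (by simpa using h)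
      · exact hnxy (by simpa using h)
      · exact hnyZ (by simpa using h)
      · exact hnxy (by simpa [mul_inv_rev] using inv_mem h)
    have hg : Function.Injective g := by
      rintro ⟨i, z⟩ ⟨j, w⟩ e
      have e' := congrArg Subtype.val e
      simp only [g] at e'
      obtain rfl := hsep i j (by
        rw [show ((![1, x, y] : Fin 3 → L) i)⁻¹ * (![1, x, y] : Fin 3 → L) j = (z : L) * (w : L)⁻¹ by
          rw [inv_mul_eq_iff_eq_mul, ← mul_assoc, e', mul_inv_cancel_right]]
        exact mul_mem z.2 (inv_mem w.2))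
      exact Prod.ext rfl (Subtype.ext (mul_left_cancel e'))
    have h12 := Nat.card_le_card_of_injective g hg
    have hZ : Nat.card Z = 4 := h3
    rw [Nat.card_prod, hZ, Nat.card_fin] at h12
    have : k ≤ 1 := by nlinarith
    interval_cases k <;> omega
  have hinvc : c⁻¹ = c := inv_eq_of_mul_eq_one_right hcZ.2
  -- all commutators lie in `{1, c}`
  let P : L → L → Prop := fun u v => u * v * u⁻¹ * v⁻¹ = 1 ∨ u * v * u⁻¹ * v⁻¹ = c
  have hsymm : ∀ u v, P u v → P v u := fun u v h => by
    rcases h with h | h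
    · exact Or.inl (by rw [show v * u * v⁻¹ * u⁻¹ = (u * v * u⁻¹ * v⁻¹)⁻¹ by group, h, inv_one])
    · exact Or.inr (by rw [show v * u * v⁻¹ * u⁻¹ = (u * v * u⁻¹ * v⁻¹)⁻¹ by group, h, hinvc])
  have hext : ∀ v ∈ U, (∀ u ∈ ({x, y} ∪ (Z : Set L)), P u v) → ∀ u ∈ U, P u v := by
    intro v hv hgen u hu
    have hu' : u ∈ U ∧ P u v := by
      rw [← hHeq] at hu
      induction hu using Subgroup.closure_induction with
      | mem u hu => exact ⟨hHU (Subgroup.subset_closure hu), hgen u hu⟩
      | one => exact ⟨one_mem _, Or.inl (by group)⟩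
      | mul a b _ _ iha ihb =>
        refine ⟨mul_mem iha.1 ihb.1, ?_⟩
        have e : a * b * v * (a * b)⁻¹ * v⁻¹ = a * (b * v * b⁻¹ * v⁻¹) * a⁻¹ * (a * v * a⁻¹ * v⁻¹) := by group
        have hac : a * c * a⁻¹ = c := by rw [hcU a iha.1, mul_inv_cancel_right]
        show _ ∨ _
        rw [e]
        rcases ihb.2 with h | h <;> rcases iha.2 with h' | h' <;> rw [h, h']
        · left; group
        · right; group
        · right; rw [hac, mul_one]
        · left; rw [hac, hcZ.2]
      | inv a _ iha =>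
        refine ⟨inv_mem iha.1, ?_⟩
        have e : a⁻¹ * v * a⁻¹⁻¹ * v⁻¹ = a⁻¹ * (a * v * a⁻¹ * v⁻¹)⁻¹ * a := by group
        show _ ∨ _
        rw [e]
        rcases iha.2 with h | h <;> rw [h]
        · left; group
        · right; rw [hinvc, mul_assoc, ← hcU a iha.1, inv_mul_cancel_left]
    exact hu'.2
  have hzP : ∀ z ∈ Z, ∀ v ∈ U, P z v := fun z hz v hv => Or.inl (by
    rw [← hcen z hz.1 hz.2 v hv]; group)
  have hxP : ∀ u ∈ U, P u x := hext x hx (by
    rintro u ((rfl | rfl) | hu)
    · exact Or.inl (by group)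
    · exact hsymm x u (Or.inr rfl)
    · exact hzP u hu x hx)
  have hyP : ∀ u ∈ U, P u y := hext y hy (by
    rintro u ((rfl | rfl) | hu)
    · exact Or.inr rfl
    · exact Or.inl (by group)
    · exact hzP u hu y hy)
  have hall : ∀ v ∈ U, ∀ u ∈ U, P u v := fun v hv => hext v hv (by
    rintro u ((rfl | rfl) | hu)
    · exact hsymm v u (hxP v hv)
    · exact hsymm v u (hyP v hv)
    · exact hzP u hu v hv)
  refine ⟨⟨hc1, hcZ.2⟩, hcZ.1, fun n hn => ?_⟩
  have hnx := (Subgroup.mem_normalizer_iff.mp hn x).mp hx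
  have hny := (Subgroup.mem_normalizer_iff.mp hn y).mp hy
  have e : n * c * n⁻¹ = n * x * n⁻¹ * (n * y * n⁻¹) * (n * x * n⁻¹)⁻¹ * (n * y * n⁻¹)⁻¹ := by rw [hc]; group
  rcases hall _ hny _ hnx with h | h
  · rw [← e, conj_eq_one_iff] at h
    exact absurd h hc1
  · exact e.trans h

end CfsgLib.CyclicInt
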