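import Cfsg.Agent.Lib.CyclicInt.NonTI
import Cfsg.Agent.Lib.CyclicInt.CaseAAux
import Cfsg.Agent.Lib.J1WeakClosure.Main
import Cfsg.Agent.Lib.J1.Order
import Cfsg.Agent.S3360
import Cfsg.Agent.S3239

/-!
An involution in two Sylow 2-subgroups which is central in one of them: the first Janko group.

Blueprint: `blueprint/bender/S3308.md`, case a.
-/

set_option autoImplicit false
set_option linter.unusedSectionVars false
set_option linter.style.haveILetI false

namespace CfsgLib.CyclicInt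

open Subgroup MulAction
open scoped Pointwise

universe u

theorem alt_five_card : Nat.card (alternatingGroup (Fin 5)) = 60 := by
  rw [nat_card_alternatingGroup, Nat.card_eq_fintype_card, Fintype.card_fin]; rfl

variable {G : Type u} [Group G] [Finite G] {d : G} {S : Sylow 2 G}

/-- The involutions of `S` together with the identity. -/
def IsA (S : Sylow 2 G) (a : G) : Prop := a ∈ (S : Subgroup G) ∧ a * a = 1

namespace Dat

variable (D : Dat d S) (hdc : Cen S d)
include D hdc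

theorem comm_d {s : G} (hs : s ∈ (S : Subgroup G)) : s * d = d * s := hdc.2.2 s hs

theorem cen_E {e : G} (he : e ∈ D.E) {s : G} (hs : s ∈ (S : Subgroup G)) : s * e = e * s :=
  D.E_cent e he s hs (D.comm_d hdc hs)

theorem mem_or {a : G} (ha : IsA S a) : a ∈ D.E ∨ d * a ∈ D.E := D.inv_mem a ha.1 ha.2 (D.comm_d hdc ha.1)

theorem cen_A {a : G} (ha : IsA S a) {s : G} (hs : s ∈ (S : Subgroup G)) : s * a = a * s := by
  rcases D.mem_or hdc ha with h | h
  · exact D.cen_E hdc h hs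
  · rw [show a = d * (d * a) by rw [← mul_assoc, hdc.1.2, one_mul]]
    exact (Commute.mul_right (D.comm_d hdc hs) (D.cen_E hdc h hs)).eq

theorem isA_E {e : G} (he : e ∈ D.E) : IsA S e := ⟨D.E_le he, D.E_sq e he⟩

theorem isA_dE {e : G} (he : e ∈ D.E) : IsA S (d * e) :=
  ⟨mul_mem D.mem (D.E_le he), by
    rw [show d * e * (d * e) = d * (e * d) * e by group, D.E_comm e he,
      show d * (d * e) * e = d * d * (e * e) by group, D.inv.2, D.E_sq e he, one_mul]⟩

theorem isA_mul {a b : G} (ha : IsA S a) (hb : IsA S b) : IsA S (a * b) :=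
  ⟨mul_mem ha.1 hb.1, by
    rw [show a * b * (a * b) = a * (b * a) * b by group, ← D.cen_A hdc hb ha.1,
      show a * (a * b) * b = (a * a) * (b * b) by group, ha.2, hb.2, one_mul]⟩

omit hdc in
theorem two_le_E : 2 ∣ Nat.card D.E ∧ 4 ≤ Nat.card D.E := by
  classical
  obtain ⟨e, he, f, hf, he1, hf1, hef⟩ := D.E_four
  have h2 : 2 ∣ Nat.card D.E := by
    have := Subgroup.orderOf_dvd_natCard D.E he
    rwa [inv2_iff.mp ⟨he1, D.E_sq e he⟩] at this
  refine ⟨h2, ?_⟩
  have h3 : Nat.card (Fin 3) ≤ Nat.card D.E :=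
    Nat.card_le_card_of_injective (![⟨1, one_mem _⟩, ⟨e, he⟩, ⟨f, hf⟩] : Fin 3 → D.E) (by
      intro i j h
      fin_cases i <;> fin_cases j <;> simp_all [Subtype.ext_iff, eq_comm])
  rw [Nat.card_fin] at h3
  omega

variable [IsSimpleGroup G] (hG : ¬ IsMulCommutative G) (hci : CI G)
include hG hci

/-- The normaliser is transitive on the involutions of `S`. -/
theorem conj_all {a : G} (ha : IsA S a) (ha1 : a ≠ 1) :
    ∃ n ∈ Subgroup.normalizer ((S : Subgroup G) : Set G), n * d * n⁻¹ = a := by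
  classical
  haveI : Fact (Nat.Prime 2) := ⟨Nat.prime_two⟩
  set N := Subgroup.normalizer ((S : Subgroup G) : Set G) with hN
  letI : MulAction N G := MulAction.compHom G ((ConjAct.toConjAct : G ≃* ConjAct G).toMonoidHom.comp N.subtype)
  have hsm : ∀ (n : N) (x : G), n • x = (n : G) * x * (n : G)⁻¹ := fun n x => rfl
  have hO : ∀ x, x ∈ orbit N d ↔ ∃ n ∈ N, n * d * n⁻¹ = x := fun x =>
    ⟨fun ⟨n, hn⟩ => ⟨n, n.2, (hsm n d).symm.trans hn⟩, fun ⟨n, hn, e⟩ => ⟨⟨n, hn⟩, (hsm _ d).trans e⟩⟩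
  have hodd : Odd (orbit N d).ncard := by
    rw [← MulAction.index_stabilizer]
    have hle : (S.subtype Subgroup.le_normalizer : Subgroup N) ≤ stabilizer N d := fun s hs => by
      rw [mem_stabilizer_iff, hsm, D.comm_d hdc (show (s : G) ∈ (S : Subgroup G) from hs), mul_inv_cancel_right]
    haveI : (S.subtype (Subgroup.le_normalizer (H := (S : Subgroup G))) : Subgroup N).Normal :=
      Subgroup.normal_in_normalizer
    refine Odd.of_dvd_nat ?_ (Subgroup.index_dvd_of_le hle)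
    exact Nat.not_even_iff_odd.mp fun he => (S.subtype Subgroup.le_normalizer).not_dvd_index he.two_dvd
  have hA : ∀ x ∈ orbit N d, IsA S x ∧ x ≠ 1 := fun x hx => by
    obtain ⟨n, hn, rfl⟩ := (hO x).mp hx
    exact ⟨⟨(Subgroup.mem_normalizer_iff.mp hn d).mp D.mem, (D.inv.conj n).2⟩, (D.inv.conj n).1⟩
  have hEcl : ∀ e ∈ D.E, e ≠ 1 → e ∈ orbit N d → ∀ e' ∈ D.E, e' ≠ 1 → e' ∈ orbit N d := by
    intro e he he1 heO e' he' he1'
    obtain ⟨n, hn, hne⟩ := (hO e).mp heO
    obtain ⟨k, hk, -, -, hk'⟩ := D.E_trans e he e' he' he1 he1'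
    exact (hO e').mpr ⟨k * n, mul_mem hk hn, by rw [← hk', ← hne]; group⟩
  have hdEcl : ∀ e ∈ D.E, e ≠ 1 → d * e ∈ orbit N d → ∀ e' ∈ D.E, e' ≠ 1 → d * e' ∈ orbit N d := by
    intro e he he1 heO e' he' he1'
    obtain ⟨n, hn, hne⟩ := (hO _).mp heO
    obtain ⟨k, hk, -, hkd, hk'⟩ := D.E_trans e he e' he' he1 he1'
    refine (hO _).mpr ⟨k * n, mul_mem hk hn, ?_⟩
    calc k * n * d * (k * n)⁻¹ = k * (n * d * n⁻¹) * k⁻¹ := by group
      _ = (k * d) * e * k⁻¹ := by rw [hne]; group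
      _ = d * (k * e * k⁻¹) := by rw [hkd]; group
      _ = d * e' := by rw [hk']
  have hne1 : ∀ {e : G}, e ∈ D.E → e ≠ 1 → e ≠ d ∧ d * e ≠ d := fun he he1 =>
    ⟨fun h => D.d_not (h ▸ he), fun h => he1 (mul_eq_left.mp h)⟩
  obtain ⟨n0, hn0, -, hmove⟩ := exists_mover hG hci hdc
  set x0 := n0 * d * n0⁻¹
  have hx0 : x0 ∈ orbit N d := (hO _).mpr ⟨n0, hn0, rfl⟩
  obtain ⟨e, he, he1, hcase⟩ : ∃ e ∈ D.E, e ≠ 1 ∧ (x0 = e ∨ x0 = d * e) := by
    rcases D.mem_or hdc (hA x0 hx0).1 with h | h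
    · exact ⟨x0, h, (hA x0 hx0).2, Or.inl rfl⟩
    · refine ⟨d * x0, h, fun e => hmove ?_, Or.inr (by rw [← mul_assoc, D.inv.2, one_mul])⟩
      rw [← inv_eq_of_mul_eq_one_right e, D.inv.inv]
  -- both cosets lie in the orbit
  have hq := (D.two_le_E).1
  have h1 : ∀ e' ∈ D.E, e' ≠ 1 → e' ∈ orbit N d := by
    by_contra hcon
    have hnot : ∀ e' ∈ D.E, e' ≠ 1 → e' ∉ orbit N d := fun e' he' he1' h => hcon (hEcl e' he' he1' h)
    have hd' := hdEcl e he he1 (by
      rcases hcase with h | h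
      · exact absurd (h ▸ hx0) (hnot e he he1)
      · exact h ▸ hx0)
    have hset : orbit N d = (fun v => d * v) '' (D.E : Set G) := by
      ext x
      constructor
      · intro hx
        rcases D.mem_or hdc (hA x hx).1 with h | h
        · exact absurd hx (hnot x h (hA x hx).2)
        · exact ⟨d * x, h, show d * (d * x) = x by rw [← mul_assoc, D.inv.2, one_mul]⟩
      · rintro ⟨v, hv, rfl⟩
        by_cases hv1 : v = 1
        · subst hv1; show d * 1 ∈ _; rw [mul_one]; exact mem_orbit_self d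
        · exact hd' v hv hv1
    rw [hset, Set.ncard_image_of_injective _ (mul_right_injective d), ← Nat.card_coe_set_eq] at hodd
    exact Nat.not_even_iff_odd.mpr hodd (even_iff_two_dvd.mpr hq)
  have h2 : ∀ e' ∈ D.E, e' ≠ 1 → d * e' ∈ orbit N d := by
    by_contra hcon
    have hnot : ∀ e' ∈ D.E, e' ≠ 1 → d * e' ∉ orbit N d := fun e' he' he1' h => hcon (hdEcl e' he' he1' h)
    have hset : orbit N d = (fun v => if v = 1 then d else v) '' (D.E : Set G) := by
      ext x
      constructor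
      · intro hx
        rcases D.mem_or hdc (hA x hx).1 with h | h
        · exact ⟨x, h, if_neg (hA x hx).2⟩
        · by_cases h' : d * x = 1
          · exact ⟨1, one_mem _, by show (if (1:G) = 1 then d else 1) = x; rw [if_pos rfl, ← inv_eq_of_mul_eq_one_right h', D.inv.inv]⟩
          · exact absurd (by rw [← mul_assoc, D.inv.2, one_mul]; exact hx) (hnot _ h h')
      · rintro ⟨v, hv, rfl⟩
        by_cases hv1 : v = 1
        · simp only [hv1, if_true]; exact mem_orbit_self d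
        · simp only [hv1, if_false]; exact h1 v hv hv1
    rw [hset, Set.ncard_image_of_injOn (fun a (ha : a ∈ D.E) b (hb : b ∈ D.E) h => by
      by_cases ha1 : a = 1 <;> by_cases hb1 : b = 1 <;> simp only [ha1, hb1, if_true, if_false] at h ⊢
      · exact absurd h.symm (hne1 hb hb1).1
      · exact absurd h (hne1 ha ha1).1
      · exact h), ← Nat.card_coe_set_eq] at hodd
    exact Nat.not_even_iff_odd.mpr hodd (even_iff_two_dvd.mpr hq)
  refine (hO a).mp ?_
  rcases D.mem_or hdc ha with h | h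
  · exact h1 a h ha1
  · by_cases h' : d * a = 1
    · rw [← inv_eq_of_mul_eq_one_right h', D.inv.inv]; exact mem_orbit_self d
    · have := h2 _ h h'
      rwa [← mul_assoc, D.inv.2, one_mul] at this

theorem card_E : Nat.card D.E = 4 := by
  classical
  haveI : Fact (Nat.Prime 2) := ⟨Nat.prime_two⟩
  set N := Subgroup.normalizer ((S : Subgroup G) : Set G) with hN
  let A : Subgroup G :=
    { carrier := {a | IsA S a}
      one_mem' := ⟨one_mem _, one_mul 1⟩
      mul_mem' := fun {a b} ha hb => D.isA_mul hdc ha hb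
      inv_mem' := fun {a} ha => ⟨InvMemClass.inv_mem ha.1, by rw [← mul_inv_rev, ha.2, inv_one]⟩ }
  letI : CommGroup A :=
    { (inferInstance : Group A) with mul_comm := fun a b => Subtype.ext (D.cen_A hdc b.2 a.2.1) }
  letI : Module (ZMod 2) (Additive A) := AddCommGroup.zmodModule (n := 2) fun x => by
    rw [two_nsmul]
    exact Additive.toMul.injective (Subtype.ext (Additive.toMul x).2.2)
  have hdA : d ∈ A := ⟨D.mem, D.inv.2⟩
  haveI : Nontrivial (Additive A) :=
    ⟨⟨0, Additive.ofMul ⟨d, hdA⟩, fun h => D.inv.1 (congrArg Subtype.val (Additive.ofMul.injective h)).symm⟩⟩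
  have hconj : ∀ n ∈ N, ∀ a ∈ A, n * a * n⁻¹ ∈ A := fun n hn a ha =>
    ⟨(Subgroup.mem_normalizer_iff.mp hn a).mp ha.1, by rw [conj_mul, ha.2, mul_one, mul_inv_cancel]⟩
  let act : N → (Additive A →+ Additive A) := fun n => MonoidHom.toAdditive
    { toFun := fun a => ⟨(n : G) * a * (n : G)⁻¹, hconj n n.2 a a.2⟩
      map_one' := Subtype.ext (by simp)
      map_mul' := fun a b => Subtype.ext (by show _ = _ * _; simp [mul_assoc]) }
  have hact : ∀ (n : N) (v : Additive A),
      ((Additive.toMul (act n v) : A) : G) = (n : G) * (Additive.toMul v : A) * (n : G)⁻¹ := fun n v => rfl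
  have hext : ∀ {v w : Additive A}, ((Additive.toMul v : A) : G) = (Additive.toMul w : A) → v = w :=
    fun h => Additive.toMul.injective (Subtype.ext h)
  let ρ : N →* (Additive A ≃ₗ[ZMod 2] Additive A) :=
    { toFun := fun n => LinearEquiv.ofLinearMap ((act n).toZModLinearMap 2) ((act n⁻¹).toZModLinearMap 2)
        (LinearMap.ext fun v => hext (by
          show (n : G) * (((n⁻¹ : N) : G) * (Additive.toMul v : A) * ((n⁻¹ : N) : G)⁻¹) * (n : G)⁻¹ = _
          simp [mul_assoc]))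
        (LinearMap.ext fun v => hext (by
          show ((n⁻¹ : N) : G) * ((n : G) * (Additive.toMul v : A) * (n : G)⁻¹) * ((n⁻¹ : N) : G)⁻¹ = _
          simp [mul_assoc]))
      map_one' := LinearEquiv.ext fun v => hext (by
        show ((1 : N) : G) * (Additive.toMul v : A) * ((1 : N) : G)⁻¹ = _
        simp)
      map_mul' := fun m n => LinearEquiv.ext fun v => hext (by
        show ((m * n : N) : G) * (Additive.toMul v : A) * ((m * n : N) : G)⁻¹ =
          (m : G) * ((n : G) * (Additive.toMul v : A) * (n : G)⁻¹) * (m : G)⁻¹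
        simp [mul_assoc]) }
  have hρ : ∀ (n : N) (v : Additive A),
      ((Additive.toMul (ρ n v) : A) : G) = (n : G) * (Additive.toMul v : A) * (n : G)⁻¹ := fun n v => rfl
  have hsolN : Group.IsSolvable N := by
    let SN : Sylow 2 N := S.subtype Subgroup.le_normalizer
    haveI : (SN : Subgroup N).Normal := Subgroup.normal_in_normalizer
    haveI := SN.2.isNilpotent
    haveI : Group.IsSolvable (N ⧸ (SN : Subgroup N)) := Cfsg.Agent.S0205.result (by
      rw [← Subgroup.index_eq_card]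
      exact Nat.not_even_iff_odd.mp fun he => SN.not_dvd_index he.two_dvd)
    exact Group.isSolvable_of_ker_le_range (SN : Subgroup N).subtype (QuotientGroup.mk' (SN : Subgroup N))
      (by rw [QuotientGroup.ker_mk', Subgroup.range_subtype])
  haveI : Group.IsSolvable N := hsolN
  haveI : Group.IsSolvable ρ.range := Group.isSolvable_of_surjective (MonoidHom.rangeRestrict_surjective ρ)
  have htr : ∀ v w : Additive A, v ≠ 0 → w ≠ 0 → ∃ g : ρ.range, ρ.range.subtype g v = w := by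
    intro v w hv hw
    obtain ⟨n, hn, e⟩ := D.conj_all hdc hG hci (Additive.toMul v : A).2
      (fun h => hv (hext (v := v) (w := 0) h))
    obtain ⟨m, hm, e'⟩ := D.conj_all hdc hG hci (Additive.toMul w : A).2
      (fun h => hw (hext (v := w) (w := 0) h))
    refine ⟨⟨ρ ⟨m * n⁻¹, mul_mem hm (InvMemClass.inv_mem hn)⟩, _, rfl⟩, hext ?_⟩
    show ((Additive.toMul (ρ ⟨m * n⁻¹, _⟩ v) : A) : G) = _
    rw [hρ, ← e, ← e']
    group
  obtain ⟨m, hm⟩ : ∃ m, Nat.card (Additive A) = 2 ^ m :=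
    ⟨_, by rw [Module.natCard_eq_pow_finrank (K := ZMod 2), Nat.card_zmod]⟩
  haveI : Finite ρ.range := Finite.of_surjective _ (MonoidHom.rangeRestrict_surjective ρ)
  rcases Cfsg.Agent.S3360.result 2 (G := ρ.range) inferInstance ρ.range.subtype Subtype.val_injective htr with
    ⟨F, iF, iFt, e, he⟩ | hbad
  swap
  · exfalso
    rw [hm] at hbad
    have hev : ∀ k, m = k + 1 → Even (2 ^ m) := fun k hk => by rw [hk, pow_succ]; exact even_two.mul_left _
    rcases m with _ | k
    · simp at hbad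
    · have := hev k rfl
      simp only [Set.mem_insert_iff, Set.mem_singleton_iff] at hbad
      rcases hbad with h | h | h | h | h | h <;> rw [h] at this <;> exact absurd this (by decide)
  letI := iF
  letI := iFt
  have hF : Fintype.card F = 2 ^ m := by rw [← Nat.card_eq_fintype_card, ← Nat.card_congr e.toEquiv, hm]
  haveI : CharP F 2 := by
    haveI : Fact (Nat.Prime 2) := ⟨Nat.prime_two⟩
    refine CharTwo.of_one_ne_zero_of_two_eq_zero one_ne_zero ?_
    have h1 : ∀ v : Additive A, v + v = 0 := fun v => hext (Additive.toMul v : A).2.2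
    have := congrArg e (h1 (e.symm 1))
    rwa [map_add, map_zero, e.apply_symm_apply, one_add_one_eq_two] at this
  -- the order of `A`
  have hcardA : Nat.card (Additive A) = 2 * Nat.card D.E := by
    rw [← Nat.card_congr Additive.ofMul]
    let g : Bool × D.E → A := fun p => ⟨if p.1 then d * p.2 else p.2, by
      cases p.1
      · exact D.isA_E hdc p.2.2
      · exact D.isA_dE hdc p.2.2⟩
    have hg : Function.Bijective g := by
      constructor
      · rintro ⟨b, v⟩ ⟨b', w⟩ h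
        have h' := congrArg Subtype.val h
        cases b <;> cases b' <;> simp only [g, Bool.false_eq_true, if_true, if_false] at h'
        · exact Prod.ext rfl (Subtype.ext h')
        · exact absurd (by
            have := mul_mem v.2 (InvMemClass.inv_mem w.2)
            rwa [h', mul_inv_cancel_right] at this) D.d_not
        · exact absurd (by
            have := mul_mem w.2 (InvMemClass.inv_mem v.2)
            rwa [← h', mul_inv_cancel_right] at this) D.d_not
        · exact Prod.ext rfl (Subtype.ext (mul_left_cancel h'))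
      · rintro ⟨a, ha⟩
        rcases D.mem_or hdc ha with h | h
        · exact ⟨⟨false, a, h⟩, rfl⟩
        · exact ⟨⟨true, d * a, h⟩, Subtype.ext (show d * (d * a) = a by rw [← mul_assoc, D.inv.2, one_mul])⟩
    rw [← Nat.card_congr (Equiv.ofBijective g hg), Nat.card_prod,
      show Nat.card Bool = 2 by rw [Nat.card_eq_fintype_card, Fintype.card_bool]]
  -- the stabiliser of `d` acts through field automorphisms
  obtain ⟨e0, he0, -, -, he01, -, -⟩ := D.E_four
  set c := e (Additive.ofMul ⟨d, hdA⟩) with hc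
  have hc0 : c ≠ 0 := fun h =>
    D.inv.1 (congrArg Subtype.val (Additive.ofMul.injective ((map_eq_zero_iff e e.injective).mp h)))
  have hsig : ∀ v : {x : D.E // x ≠ 1}, ∃ σ : F ≃+* F, c / σ c * σ (e (Additive.ofMul ⟨e0, D.isA_E hdc he0⟩)) =
      e (Additive.ofMul ⟨v.1, D.isA_E hdc v.1.2⟩) := by
    intro v
    obtain ⟨n, hn, -, hnd, hne⟩ := D.E_trans e0 he0 v.1 v.1.2 he01 (fun h => v.2 (Subtype.ext h))
    obtain ⟨a, σ, hσ⟩ := he ⟨ρ ⟨n, hn⟩, _, rfl⟩
    have h1 : c = a * σ c := by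
      conv_lhs => rw [hc, show (Additive.ofMul (⟨d, hdA⟩ : A)) = ρ ⟨n, hn⟩ (Additive.ofMul ⟨d, hdA⟩) from
        (hext (by rw [hρ]; exact (mul_inv_eq_iff_eq_mul.mpr hnd).symm))]
      exact hσ _
    refine ⟨σ, ?_⟩
    have hσc : σ c ≠ 0 := fun h => hc0 (σ.injective (h.trans (map_zero σ).symm))
    rw [show c / σ c = a by rw [div_eq_iff hσc]; exact h1]
    rw [show (Additive.ofMul (⟨(v.1 : G), D.isA_E hdc v.1.2⟩ : A)) =
      ρ ⟨n, hn⟩ (Additive.ofMul ⟨e0, D.isA_E hdc he0⟩) from (hext (by rw [hρ]; exact hne.symm))]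
    exact (hσ _).symm
  choose σ hσ using hsig
  have hinj : Function.Injective σ := fun v w h => by
    have h' := (hσ v).symm.trans ((congrArg (fun s : F ≃+* F =>
      c / s c * s (e (Additive.ofMul ⟨e0, D.isA_E hdc he0⟩))) h).trans (hσ w))
    exact Subtype.ext (Subtype.ext (congrArg (fun a : A => (a : G)) (Additive.ofMul.injective (e.injective h'))))
  haveI : Finite (F ≃+* F) := Finite.of_injective (fun f : F ≃+* F => (f : F → F)) DFunLike.coe_injective
  have hb := (Nat.card_le_card_of_injective σ hinj).trans (ring_aut_card_le hF)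
  haveI : Fintype D.E := Fintype.ofFinite _
  have hsub : Nat.card {x : D.E // x ≠ 1} = Nat.card D.E - 1 := by
    rw [Nat.card_eq_fintype_card, Nat.card_eq_fintype_card, Fintype.card_subtype_compl, Fintype.card_subtype_eq]
  rw [hsub] at hb
  exact four_of_bound D.two_le_E.2 (hm.symm.trans hcardA) hb

omit hG [IsSimpleGroup G] hci in
theorem mem_ctr {s : G} (hs : s ∈ (S : Subgroup G)) : s ∈ ctr d :=
  Subgroup.mem_centralizer_singleton_iff.mpr (D.comm_d hdc hs)

/-- `S` to the component. -/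
noncomputable def toL : ↥(S : Subgroup G) →* D.K.L :=
  D.K.π.comp (((Subgroup.inclusion fun _ hs => D.mem_ctr hdc hs : ↥(S : Subgroup G) →* ↥(ctr d))).codRestrict
    D.K.G1 fun s => D.K.sylow_le (centSylow hG hci D.mem) ((mem_centSylow hG hci D.mem).mpr s.2))

theorem toL_mem (s : ↥(S : Subgroup G)) :
    D.toL hdc hG hci s ∈ (D.K.img (centSylow hG hci D.mem) : Subgroup D.K.L) :=
  D.K.mem_img.mpr ⟨⟨⟨(s : G), D.mem_ctr hdc s.2⟩, D.K.sylow_le (centSylow hG hci D.mem)
    ((mem_centSylow hG hci D.mem).mpr s.2)⟩, (mem_centSylow hG hci D.mem).mpr s.2, rfl⟩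

theorem toL_surj {u : D.K.L} (hu : u ∈ (D.K.img (centSylow hG hci D.mem) : Subgroup D.K.L)) :
    ∃ s, D.toL hdc hG hci s = u := by
  obtain ⟨x, hx, rfl⟩ := D.K.mem_img.mp hu
  exact ⟨⟨((x : ↥(ctr d)) : G), (mem_centSylow hG hci D.mem).mp hx⟩, rfl⟩

omit hdc hG [IsSimpleGroup G] in
theorem V_sq {v : ↥(ctr d)} (hv : v ∈ D.K.V) (h : v * v = 1) : v = 1 ∨ (v : G) = d := by
  by_cases h1 : v = 1
  · exact Or.inl h1
  · haveI := D.K.V_cyclic
    exact Or.inr (congrArg Subtype.val (eq_of_inv_cyclic (B := D.K.V) hv D.K.d_mem ⟨h1, h⟩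
      ⟨fun e => D.inv.1 (congrArg Subtype.val e), Subtype.ext D.inv.2⟩))

omit [IsSimpleGroup G] hG hci in
theorem V_mem {v : ↥(ctr d)} (hv : v ∈ D.K.V) : (v : G) ∈ (S : Subgroup G) := by
  obtain ⟨k, hk⟩ := D.K.V_two ⟨v, hv⟩
  refine Two.mem_of_normalizer ⟨k, congrArg (fun w : D.K.V => ((w : ↥(ctr d)) : G)) hk⟩ S ?_
  rw [Subgroup.mem_normalizer_iff]
  intro x
  constructor
  · intro hx
    have h2 : x * (v : G) = v * x :=
      congrArg Subtype.val (Subgroup.mem_center_iff.mp (D.K.V_center hv) ⟨x, D.mem_ctr hdc hx⟩)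
    rwa [← h2, mul_inv_cancel_right]
  · intro hx
    set y := (v : G) * x * (v : G)⁻¹
    have h2 : y * (v : G) = v * y :=
      congrArg Subtype.val (Subgroup.mem_center_iff.mp (D.K.V_center hv) ⟨y, D.mem_ctr hdc hx⟩)
    rwa [show x = y by
      calc x = (v : G)⁻¹ * (y * v) := by simp [y, mul_assoc]
        _ = y := by rw [h2, inv_mul_cancel_left]]

theorem toL_V {v : ↥(ctr d)} (hv : v ∈ D.K.V) : D.toL hdc hG hci ⟨v, D.V_mem hdc hv⟩ = 1 :=
  D.K.V_ker _ hv

theorem ker_V {s : ↥(S : Subgroup G)} (h : D.toL hdc hG hci s = 1) :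
    (⟨(s : G), D.mem_ctr hdc s.2⟩ : ↥(ctr d)) ∈ D.K.V :=
  D.K.two_ker _ h (two_of_mem (P := centSylow hG hci D.mem) s.2)

theorem ker_sq {s : ↥(S : Subgroup G)} (h : D.toL hdc hG hci s = 1) (h2 : (s : G) * s = 1) :
    (s : G) = 1 ∨ (s : G) = d :=
  (D.V_sq hci (D.ker_V hdc hG hci h) (Subtype.ext h2)).imp_left (congrArg Subtype.val)

theorem toL_sq {s : G} (hs : IsA S s) : D.toL hdc hG hci ⟨s, hs.1⟩ * D.toL hdc hG hci ⟨s, hs.1⟩ = 1 := by
  rw [← map_mul, show (⟨s, hs.1⟩ : ↥(S : Subgroup G)) * ⟨s, hs.1⟩ = 1 from Subtype.ext hs.2, map_one]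

theorem toL_E_ne {e : G} (he : e ∈ D.E) (he1 : e ≠ 1) : D.toL hdc hG hci ⟨e, D.E_le he⟩ ≠ 1 := fun h => by
  rcases D.ker_sq hdc hG hci h (D.E_sq e he) with e1 | e1
  · exact he1 e1
  · exact D.d_not ((show e = d from e1) ▸ he)

variable (hB : CfsgLib.Bender.TwoClosed.PartB.{u, u})
include hB

omit hdc in
theorem ciL : CI D.K.L := ((hci.subgroup (ctr d)).subgroup D.K.G1).of_surjective D.K.π D.K.surj

/-- The involutions of the image are the images of the elements of `E`. -/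
theorem inv_img {u : D.K.L} (hu : u ∈ (D.K.img (centSylow hG hci D.mem) : Subgroup D.K.L)) (h2 : u * u = 1) :
    ∃ e, ∃ he : e ∈ D.E, D.toL hdc hG hci ⟨e, D.E_le he⟩ = u := by
  by_cases h1 : u = 1
  · exact ⟨1, one_mem _, h1.symm ▸ map_one _⟩
  obtain ⟨e0, he0, -, -, he01, -, -⟩ := D.E_four
  obtain ⟨n, -, hnU, hn⟩ := ti_inv_trans hB D.K.nonab (D.ciL hG hci hB) D.K.ti _
    (show Inv2 (D.toL hdc hG hci ⟨e0, D.E_le he0⟩) from
      ⟨D.toL_E_ne hdc hG hci he0 he01, D.toL_sq hdc hG hci (D.isA_E hdc he0)⟩)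
    (D.toL_mem hdc hG hci _) (show Inv2 u from ⟨h1, h2⟩) hu
  obtain ⟨g, rfl⟩ := D.K.surj n
  have hgP : ((g : ↥(ctr d)) • centSylow hG hci D.mem : Sylow 2 ↥(ctr d)) = centSylow hG hci D.mem :=
    D.K.img_inj (by rw [D.K.img_smul, hnU])
  have hmem : ((g : ↥(ctr d)) : G) * e0 * ((g : ↥(ctr d)) : G)⁻¹ ∈ (S : Subgroup G) :=
    (Subgroup.mem_normalizer_iff.mp (smul_eq_iff_normalizer.mp hgP) ⟨e0, D.mem_ctr hdc (D.E_le he0)⟩).mp (D.E_le he0)
  set a := ((g : ↥(ctr d)) : G) * e0 * ((g : ↥(ctr d)) : G)⁻¹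
  have haA : IsA S a := ⟨hmem, by rw [conj_mul, D.E_sq e0 he0, mul_one, mul_inv_cancel]⟩
  have hau : D.toL hdc hG hci ⟨a, hmem⟩ = u := by
    rw [← hn]
    show D.K.π _ = D.K.π g * D.K.π _ * (D.K.π g)⁻¹
    rw [← map_inv, ← map_mul, ← map_mul]
    exact congrArg D.K.π (Subtype.ext (Subtype.ext rfl))
  rcases D.mem_or hdc haA with h | h
  · exact ⟨a, h, hau⟩
  · refine ⟨d * a, h, ?_⟩
    rw [show (⟨d * a, D.E_le h⟩ : ↥(S : Subgroup G)) = ⟨d, D.mem⟩ * ⟨a, hmem⟩ from rfl, map_mul, hau,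
      show D.toL hdc hG hci ⟨d, D.mem⟩ = 1 from D.toL_V hdc hG hci D.K.d_mem, one_mul]

theorem card_inv_img :
    Nat.card {u : D.K.L // u ∈ (D.K.img (centSylow hG hci D.mem) : Subgroup D.K.L) ∧ u * u = 1} = 4 := by
  rw [← D.card_E hdc hG hci]
  symm
  refine Nat.card_congr (Equiv.ofBijective (fun e : D.E => ⟨D.toL hdc hG hci ⟨e, D.E_le e.2⟩,
    D.toL_mem hdc hG hci _, D.toL_sq hdc hG hci (D.isA_E hdc e.2)⟩) ⟨fun a b h => ?_, fun u => ?_⟩)
  · by_contra hne
    refine D.toL_E_ne hdc hG hci (mul_mem (InvMemClass.inv_mem a.2) b.2) (fun h' => hne (Subtype.ext (inv_mul_eq_one.mp h'))) ?_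
    rw [show (⟨(a : G)⁻¹ * b, D.E_le (mul_mem (InvMemClass.inv_mem a.2) b.2)⟩ : ↥(S : Subgroup G)) =
      ⟨a, D.E_le a.2⟩⁻¹ * ⟨b, D.E_le b.2⟩ from rfl, map_mul, map_inv]
    rw [show D.toL hdc hG hci ⟨a, D.E_le a.2⟩ = D.toL hdc hG hci ⟨b, D.E_le b.2⟩ from congrArg Subtype.val h,
      inv_mul_cancel]
  · obtain ⟨e, he, h⟩ := D.inv_img hdc hG hci hB u.2.1 u.2.2
    exact ⟨⟨e, he⟩, Subtype.ext h⟩

/-- An element whose image squares to one lies in `VE`. -/
theorem exists_VE {s : ↥(S : Subgroup G)} (h : D.toL hdc hG hci s * D.toL hdc hG hci s = 1) :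
    ∃ v : ↥(ctr d), v ∈ D.K.V ∧ ∃ e ∈ D.E, (s : G) = (v : G) * e := by
  obtain ⟨e, he, hes⟩ := D.inv_img hdc hG hci hB (D.toL_mem hdc hG hci s) h
  have h1 : D.toL hdc hG hci (s * ⟨e, D.E_le he⟩⁻¹) = 1 := by rw [map_mul, map_inv, hes, mul_inv_cancel]
  exact ⟨_, D.ker_V hdc hG hci h1, e, he, by simp⟩

theorem cen_VE {s : ↥(S : Subgroup G)} (h : D.toL hdc hG hci s * D.toL hdc hG hci s = 1) {t : G}
    (ht : t ∈ (S : Subgroup G)) : t * s = s * t := by
  obtain ⟨v, hv, e, he, hse⟩ := D.exists_VE hdc hG hci hB h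
  have h2 : t * (v : G) = v * t :=
    congrArg Subtype.val (Subgroup.mem_center_iff.mp (D.K.V_center hv) ⟨t, D.mem_ctr hdc ht⟩)
  rw [hse]
  exact (Commute.mul_right h2 (D.cen_E hdc he ht)).eq

/-- Roots of `a ∈ S`. -/
theorem root_transfer {a b : G} (ha : IsA S a) (ha1 : a ≠ 1) (hb : IsA S b) (hb1 : b ≠ 1)
    (h : ∃ s ∈ (S : Subgroup G), s * s = a) : ∃ s ∈ (S : Subgroup G), s * s = b := by
  obtain ⟨n, hn, rfl⟩ := D.conj_all hdc hG hci ha ha1
  obtain ⟨m, hm, rfl⟩ := D.conj_all hdc hG hci hb hb1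
  obtain ⟨s, hs, hss⟩ := h
  refine ⟨(m * n⁻¹) * s * (m * n⁻¹)⁻¹, (Subgroup.mem_normalizer_iff.mp (mul_mem hm (InvMemClass.inv_mem hn)) s).mp hs, ?_⟩
  rw [conj_mul, hss]
  group

theorem elementary_of_no_root (h : ¬ ∃ s ∈ (S : Subgroup G), s * s = d) {x : G} (hx : x ∈ (S : Subgroup G)) :
    x * x = 1 := by
  haveI : Fact (Nat.Prime 2) := ⟨Nat.prime_two⟩
  by_contra hne
  obtain ⟨k, hk⟩ := two_of_mem hx
  obtain ⟨j, -, hj⟩ := (Nat.dvd_prime_pow Nat.prime_two).mp (orderOf_dvd_of_pow_eq_one hk)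
  rcases Nat.lt_or_ge j 2 with hj2 | hj2
  · refine hne ?_
    rw [← pow_two]
    exact orderOf_dvd_iff_pow_eq_one.mp (hj ▸ (pow_dvd_pow 2 (show j ≤ 1 by omega)).trans (by norm_num))
  · have hy : Inv2 (x ^ 2 ^ (j - 1)) := inv2_iff.mpr (by
      rw [orderOf_pow_of_dvd (pow_ne_zero _ two_ne_zero) (hj ▸ pow_dvd_pow 2 (by omega)), hj,
        Nat.pow_div (by omega) two_pos, show j - (j - 1) = 1 by omega, pow_one])
    refine h (D.root_transfer hdc hG hci hB ⟨pow_mem hx _, hy.2⟩ hy.1 ⟨D.mem, D.inv.2⟩ D.inv.1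
      ⟨x ^ 2 ^ (j - 2), pow_mem hx _, ?_⟩)
    rw [← pow_add, show j - 1 = (j - 2) + 1 by omega, pow_succ, mul_two]

theorem img_elementary {u : D.K.L} (hu : u ∈ (D.K.img (centSylow hG hci D.mem) : Subgroup D.K.L)) :
    u * u = 1 := by
  classical
  haveI : Fact (Nat.Prime 2) := ⟨Nat.prime_two⟩
  haveI := faithful_sylow D.K.nonab
  set U := D.K.img (centSylow hG hci D.mem) with hU
  have hciL := D.ciL hG hci hB
  have hlift : ∀ {v : D.K.L}, v ∈ (U : Subgroup D.K.L) → ∃ s, D.toL hdc hG hci s = v := fun hv => D.toL_surj hdc hG hci hv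
  by_cases hab : ∀ x ∈ (U : Subgroup D.K.L), ∀ y ∈ (U : Subgroup D.K.L), x * y = y * x
  · exact ti_abelian hB D.K.nonab hciL D.K.ti U hab hu
  exfalso
  push Not at hab
  obtain ⟨x, hx, y, hy, hxy⟩ := hab
  have h4 := D.card_inv_img hdc hG hci hB
  obtain ⟨t, ht, hF, hT⟩ := exists_setup_ti hB D.K.nonab hciL D.K.ti U
  obtain ⟨-, hsh, -⟩ := hT
  have hqZ : CfsgLib.SuzukiRankOne.qZ D.K.L (U : Sylow 2 D.K.L) = 4 := by
    rw [← h4, CfsgLib.SuzukiRankOne.qZ]
    let e : Option {x : D.K.L // x ∈ Cfsg.involutionsIn (stabilizer D.K.L U : Set D.K.L)} ≃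
        {u : D.K.L // u ∈ (U : Subgroup D.K.L) ∧ u * u = 1} :=
      { toFun := fun o => o.elim ⟨1, one_mem _, one_mul 1⟩ fun x =>
          ⟨x.1, mem_sylow_of_smul_eq (show Inv2 x.1 from x.2.2).two (mem_stabilizer_iff.mp x.2.1), x.2.2.2⟩
        invFun := fun u => if h : u.1 = 1 then none else
          some ⟨u.1, mem_stabilizer_iff.mpr (smul_eq_of_mem u.2.1), h, u.2.2⟩
        left_inv := fun o => by
          rcases o with _ | x
          · simp
          · simp [x.2.2.1]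
        right_inv := fun u => by
          by_cases h : u.1 = 1
          · simp [h, Subtype.ext_iff]
          · simp [h] }
    rw [← Nat.card_congr e, Finite.card_option]
  rcases hsh with h | ⟨-, h⟩
  · refine hxy ?_
    have e1 := inv_eq_of_mul_eq_one_right (h _ (mul_mem hx hy))
    rw [mul_inv_rev, inv_eq_of_mul_eq_one_right (h _ hx), inv_eq_of_mul_eq_one_right (h _ hy)] at e1
    exact e1.symm
  have hcases : Nat.card (U : Subgroup D.K.L) = 64 ∨ Nat.card (U : Subgroup D.K.L) = 16 := by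
    rw [hqZ] at h
    exact h.imp (fun h => h.1) (fun h => h.1)
  have hsq : ∀ s : ↥(S : Subgroup G),
      D.toL hdc hG hci (s * s) * D.toL hdc hG hci (s * s) = 1 := fun s => by
    rw [map_mul]
    exact ti_sq hB D.K.nonab hciL D.K.ti U (D.toL_mem hdc hG hci s)
  rcases hcases with h64 | h16
  swap
  · obtain ⟨hci2, hcU, hfix⟩ := fixed_inv_sixteen h16
      (fun z hz hz2 v hv => by
        by_cases h1 : z = 1
        · rw [h1, mul_one, one_mul]
        · exact (ti_inv_central hB D.K.nonab hciL D.K.ti U ⟨h1, hz2⟩ hz).2.2 v hv)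
      (fun v hv => ti_sq hB D.K.nonab hciL D.K.ti U hv) h4 hx hy hxy
    obtain ⟨w, hw⟩ : ∃ w : {u : D.K.L // u ∈ (U : Subgroup D.K.L) ∧ u * u = 1},
        w.1 ≠ 1 ∧ w.1 ≠ x * y * x⁻¹ * y⁻¹ := by
      by_contra hcon
      have hall : ∀ w : {u : D.K.L // u ∈ (U : Subgroup D.K.L) ∧ u * u = 1},
          w.1 = 1 ∨ w.1 = x * y * x⁻¹ * y⁻¹ := fun w => by
        by_contra h'
        push Not at h'
        exact hcon ⟨w, h'⟩
      have := Nat.card_le_card_of_injective (fun w : {u : D.K.L // u ∈ (U : Subgroup D.K.L) ∧ u * u = 1} =>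
        (decide (w.1 = 1) : Bool)) (fun a b h => by
          rcases hall a with e | e <;> rcases hall b with e' | e' <;>
            first
              | exact Subtype.ext (e.trans e'.symm)
              | (exfalso; simp [e, e', hci2.1] at h))
      rw [h4, Nat.card_eq_fintype_card, Fintype.card_bool] at this
      omega
    obtain ⟨n, -, hnU, hn⟩ := ti_inv_trans hB D.K.nonab hciL D.K.ti U hci2 hcU
      (show Inv2 w.1 from ⟨hw.1, w.2.2⟩) w.2.1
    exact hw.2 (hn.symm.trans (hfix n (smul_eq_iff_normalizer.mp hnU)))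
  by_cases hroot : ∃ s ∈ (S : Subgroup G), s * s = d
  swap
  · obtain ⟨sx, rfl⟩ := hlift hx
    obtain ⟨sy, rfl⟩ := hlift hy
    refine hxy ?_
    have h' : (sx : G) * sy = sy * sx := D.cen_A hdc (a := (sy : G))
      ⟨sy.2, D.elementary_of_no_root hdc hG hci hB hroot sy.2⟩ sx.2
    rw [← map_mul, ← map_mul, show sx * sy = sy * sx from Subtype.ext h']
  -- a root of `d` in `V`
  obtain ⟨s0, hs0, hs0d⟩ := hroot
  obtain ⟨v0, hv0, e1, he1, hv0e⟩ := D.exists_VE hdc hG hci hB (s := ⟨s0, hs0⟩) (by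
    rw [← map_mul, show (⟨s0, hs0⟩ : ↥(S : Subgroup G)) * ⟨s0, hs0⟩ = ⟨d, D.mem⟩ from Subtype.ext hs0d]
    exact D.toL_V hdc hG hci D.K.d_mem)
  have hv0S := D.V_mem hdc hv0
  have hv0c : ∀ t ∈ (S : Subgroup G), t * (v0 : G) = v0 * t := fun t ht =>
    congrArg Subtype.val (Subgroup.mem_center_iff.mp (D.K.V_center hv0) ⟨t, D.mem_ctr hdc ht⟩)
  have hv0d : (v0 : G) * v0 = d := by
    refine Eq.trans ?_ hs0d
    rw [show s0 = (v0 : G) * e1 from hv0e, show (v0 : G) * e1 * (v0 * e1) = v0 * (e1 * v0) * e1 by group,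
      hv0c e1 (D.E_le he1), show (v0 : G) * (v0 * e1) * e1 = v0 * v0 * (e1 * e1) by group, D.E_sq e1 he1, mul_one]
  -- commutators lie in `A`
  have hcomm : ∀ s t : ↥(S : Subgroup G), IsA S ((s * t * s⁻¹ * t⁻¹ : ↥(S : Subgroup G)) : G) := by
    intro s t
    set c := s * t * s⁻¹ * t⁻¹ with hc
    refine ⟨c.2, ?_⟩
    have hfc : D.toL hdc hG hci c * D.toL hdc hG hci c = 1 := by
      have e : c = (s * s) * ((s⁻¹ * t) * (s⁻¹ * t)) * (t⁻¹ * t⁻¹) := by rw [hc]; group
      have hz : ∀ r : ↥(S : Subgroup G), ∀ w : ↥(S : Subgroup G), Commute (D.toL hdc hG hci w) (D.toL hdc hG hci (r * r)) :=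
        fun r w => by
          show _ * _ = _ * _
          rw [← map_mul, ← map_mul]
          exact congrArg _ (Subtype.ext (D.cen_VE hdc hG hci hB (hsq r) w.2))
      rw [e, map_mul, map_mul]
      set p := D.toL hdc hG hci (s * s)
      set q := D.toL hdc hG hci ((s⁻¹ * t) * (s⁻¹ * t))
      set r := D.toL hdc hG hci (t⁻¹ * t⁻¹)
      have hpq : Commute p q := (hz s ((s⁻¹ * t) * (s⁻¹ * t))).symm
      have hpr : Commute p r := (hz s (t⁻¹ * t⁻¹)).symm
      have hqr : Commute q r := (hz (s⁻¹ * t) (t⁻¹ * t⁻¹)).symm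
      rw [← pow_two, (Commute.mul_left hpr hqr).mul_pow, hpq.mul_pow, pow_two, pow_two, pow_two, hsq, hsq, hsq,
        one_mul, one_mul]
    have hcc : ∀ w : ↥(S : Subgroup G), w * c = c * w := fun w => Subtype.ext (D.cen_VE hdc hG hci hB hfc w.2)
    have hss : (s * s) * t = t * (s * s) := Subtype.ext (D.cen_VE hdc hG hci hB (hsq s) t.2).symm
    have e2 : s * t * s⁻¹ = c * t := by rw [hc]; group
    have e3 : t = c * c * t :=
      calc t = s * s * t * (s * s)⁻¹ := by rw [hss, mul_inv_cancel_right]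
        _ = s * (s * t * s⁻¹) * s⁻¹ := by group
        _ = s * c * (t * s⁻¹) := by rw [e2]; group
        _ = c * (s * t * s⁻¹) := by rw [hcc s]; group
        _ = c * c * t := by rw [e2]; group
    exact congrArg Subtype.val (mul_right_cancel (b := t) (a := c * c) (c := 1) (by rw [← e3, one_mul]))
  let T : Subgroup ↥(S : Subgroup G) :=
    { carrier := {s | IsA S ((s : G) * s)}
      one_mem' := ⟨by simp, by simp⟩
      mul_mem' := fun {s t} hs ht => by
        have h1 : ((s * t : ↥(S : Subgroup G)) : G) * (s * t : ↥(S : Subgroup G)) =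
            ((s : G) * s) * (((s⁻¹ * t * s⁻¹⁻¹ * t⁻¹ : ↥(S : Subgroup G)) : G) * ((t : G) * t)) := by
          simp [mul_assoc]
        show IsA S _
        rw [h1]
        exact D.isA_mul hdc hs (D.isA_mul hdc (hcomm s⁻¹ t) ht)
      inv_mem' := fun {s} hs => by
        show IsA S _
        rw [show ((s⁻¹ : ↥(S : Subgroup G)) : G) * (s⁻¹ : ↥(S : Subgroup G)) = ((s : G) * s)⁻¹ by simp]
        exact ⟨InvMemClass.inv_mem hs.1, by rw [← mul_inv_rev, hs.2, inv_one]⟩ }
  let w0 : ↥(S : Subgroup G) := ⟨v0, hv0S⟩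
  have hw0T : w0 ∈ T := show IsA S _ by
    show IsA S ((v0 : G) * v0)
    rw [hv0d]; exact ⟨D.mem, D.inv.2⟩
  -- upper bound
  have hT64 : Nat.card T ≤ 64 := by
    have hA8 : Nat.card {a : G // IsA S a} ≤ 8 := by
      have hE := D.card_E hdc hG hci
      have := Nat.card_le_card_of_injective (fun a : {a : G // IsA S a} =>
        (if h : a.1 ∈ D.E then ((true, ⟨a.1, h⟩) : Bool × D.E)
          else (false, ⟨d * a.1, (D.mem_or hdc a.2).resolve_left h⟩))) (fun a b h => by
            refine Subtype.ext ?_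
            by_cases ha : a.1 ∈ D.E <;> by_cases hb : b.1 ∈ D.E <;> simp [ha, hb] at h
            · exact h
            · exact h)
      rw [Nat.card_prod, hE, Nat.card_eq_fintype_card (α := Bool), Fintype.card_bool] at this
      omega
    let n : {a : G // IsA S a} → G := fun a =>
      if h : a.1 = 1 then 1 else (D.conj_all hdc hG hci a.2 h).choose
    have hn : ∀ a : {a : G // IsA S a}, n a ∈ Subgroup.normalizer ((S : Subgroup G) : Set G) ∧
        (a.1 ≠ 1 → n a * d * (n a)⁻¹ = a.1) := fun a => by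
      by_cases h : a.1 = 1
      · simp only [n, h, dite_true]; exact ⟨one_mem _, fun h' => absurd rfl h'⟩
      · simp only [n, h, dite_false]
        exact ⟨(D.conj_all hdc hG hci a.2 h).choose_spec.1, fun _ => (D.conj_all hdc hG hci a.2 h).choose_spec.2⟩
    let φ : T → {a : G // IsA S a} × {a : G // IsA S a} := fun s =>
      (⟨(s : G) * s, s.2⟩,
        if h : ((s : G) * s) = 1 then ⟨s, s.1.2, h⟩ else
        ⟨(n ⟨_, s.2⟩)⁻¹ * s * (n ⟨_, s.2⟩) * (v0 : G)⁻¹, by
          obtain ⟨hnN, hne⟩ := hn ⟨_, s.2⟩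
          have hne' : n ⟨_, s.2⟩ * d * (n ⟨_, s.2⟩)⁻¹ = (s : G) * s := hne h
          set m := n ⟨_, s.2⟩
          have hs1 : m⁻¹ * s * m ∈ (S : Subgroup G) := by
            have := (Subgroup.mem_normalizer_iff.mp (InvMemClass.inv_mem hnN) _).mp s.1.2
            rwa [inv_inv] at this
          refine ⟨mul_mem hs1 (InvMemClass.inv_mem hv0S), ?_⟩
          have hss2 : m⁻¹ * s * m * (m⁻¹ * s * m) = d := by
            rw [show m⁻¹ * (s : G) * m * (m⁻¹ * s * m) = m⁻¹ * ((s : G) * s) * m by group, ← hne']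
            group
          have hc : Commute (m⁻¹ * (s : G) * m) (v0 : G)⁻¹ := Commute.inv_right (hv0c _ hs1)
          rw [← pow_two, hc.mul_pow, pow_two, pow_two, hss2, ← mul_inv_rev, hv0d, mul_inv_cancel]⟩)
    have hφ : Function.Injective φ := fun s t h => by
      have h1 := congrArg (fun p => p.1.1) h
      have h2 := congrArg (fun p => p.2.1) h
      simp only [φ] at h1 h2
      refine Subtype.ext (Subtype.ext ?_)
      by_cases hs : (s : G) * s = 1
      · rw [dif_pos hs, dif_pos (h1 ▸ hs)] at h2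
        exact h2
      · rw [dif_neg hs, dif_neg (h1 ▸ hs)] at h2
        have hnn : n ⟨_, s.2⟩ = n ⟨_, t.2⟩ := congrArg n (Subtype.ext h1)
        replace h2 : (n ⟨_, s.2⟩)⁻¹ * (s : G) * n ⟨_, s.2⟩ * (v0 : G)⁻¹ =
          (n ⟨_, t.2⟩)⁻¹ * (t : G) * n ⟨_, t.2⟩ * (v0 : G)⁻¹ := h2
        rw [hnn] at h2
        exact mul_left_cancel (mul_right_cancel (mul_right_cancel h2))
    have := Nat.card_le_card_of_injective φ hφ
    rw [Nat.card_prod] at this
    exact this.trans (Nat.mul_le_mul hA8 hA8)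
  -- lower bound
  let f := (D.toL hdc hG hci).comp T.subtype
  have hk : 4 ≤ Nat.card f.ker := by
    have hd1 : D.toL hdc hG hci ⟨d, D.mem⟩ = 1 := D.toL_V hdc hG hci D.K.d_mem
    have hw1 : D.toL hdc hG hci w0 = 1 := D.toL_V hdc hG hci hv0
    let d1 : ↥(S : Subgroup G) := ⟨d, D.mem⟩
    have hdT : d1 ∈ T := show IsA S (d * d) by rw [D.inv.2]; exact ⟨one_mem _, one_mul 1⟩
    let k : Fin 4 → f.ker := ![1, ⟨⟨d1, hdT⟩, hd1⟩, ⟨⟨w0, hw0T⟩, hw1⟩,
      ⟨⟨w0 * d1, mul_mem hw0T hdT⟩, show D.toL hdc hG hci (w0 * d1) = 1 by rw [map_mul, hd1, hw1, one_mul]⟩]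
    have h0 : (v0 : G) ≠ 1 := fun h => D.inv.1 (by rw [← hv0d, h, one_mul])
    have h1 : (v0 : G) ≠ d := fun h => D.inv.1 (by rw [← hv0d, h]; exact D.inv.2)
    have h2 : (v0 : G) * d ≠ 1 := fun h => h1 ((eq_inv_of_mul_eq_one_left h).trans D.inv.inv)
    have h3 : (v0 : G) * d ≠ d := fun h => h0 (mul_eq_right.mp h)
    have hki : Function.Injective k := by
      intro i j h
      have h' := congrArg (fun z : f.ker => (((z : T) : ↥(S : Subgroup G)) : G)) h
      fin_cases i <;> fin_cases j <;> first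
        | rfl
        | (exfalso; simp [k, d1, w0, D.inv.1, Ne.symm D.inv.1, h0, Ne.symm h0, h1, Ne.symm h1, h2, Ne.symm h2, h3,
            Ne.symm h3] at h')
    have := Nat.card_le_card_of_injective k hki
    rwa [Nat.card_fin] at this
  have hrange : Nat.card (U : Subgroup D.K.L) ≤ 2 * Nat.card f.range := by
    have hdiv : ∀ s : ↥(S : Subgroup G), D.toL hdc hG hci s ∈ f.range ∨
        ∃ v e : G, (∃ v' : ↥(ctr d), v' ∈ D.K.V ∧ (v' : G) = v) ∧ e ∈ D.E ∧ (s : G) * s = v * e ∧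
          ¬ ∃ w ∈ D.K.V, (w : G) * w = v ∨ (w : G) * w = v * d := by
      intro s
      obtain ⟨v, hv, e, he, hse⟩ := D.exists_VE hdc hG hci hB (s := s * s) (hsq s)
      by_cases hw : ∃ w ∈ D.K.V, (w : G) * w = v ∨ (w : G) * w = (v : G) * d
      · obtain ⟨w, hwV, hwv⟩ := hw
        left
        have hwS := D.V_mem hdc hwV
        have hwc : ∀ t ∈ (S : Subgroup G), t * (w : G) = w * t := fun t ht =>
          congrArg Subtype.val (Subgroup.mem_center_iff.mp (D.K.V_center hwV) ⟨t, D.mem_ctr hdc ht⟩)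
        have hmem : s * ⟨w, hwS⟩⁻¹ ∈ T := by
          show IsA S _
          have h1 : ((s : G) * (w : G)⁻¹) * ((s : G) * (w : G)⁻¹) = (s : G) * s * ((w : G) * w)⁻¹ := by
            have hc : Commute (s : G) (w : G)⁻¹ := Commute.inv_right (hwc s s.2)
            rw [← pow_two, hc.mul_pow, pow_two, pow_two, mul_inv_rev]
          have hve : (v : G) * e = e * v := (congrArg Subtype.val
            (Subgroup.mem_center_iff.mp (D.K.V_center hv) ⟨e, D.mem_ctr hdc (D.E_le he)⟩)).symm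
          show IsA S (((s : G) * (w : G)⁻¹) * ((s : G) * (w : G)⁻¹))
          rw [h1, show (s : G) * s = v * e from hse, hve]
          rcases hwv with h' | h' <;> rw [h']
          · rw [mul_inv_cancel_right]; exact D.isA_E hdc he
          · have hvd : (v : G) * d = d * v := hdc.2.2 _ (D.V_mem hdc hv)
            rw [hvd, mul_inv_rev, D.inv.inv, show e * (v : G) * ((v : G)⁻¹ * d) = e * d by group, D.E_comm e he]
            exact D.isA_dE hdc he
        refine ⟨⟨_, hmem⟩, ?_⟩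
        show D.toL hdc hG hci (s * ⟨w, hwS⟩⁻¹) = _
        rw [map_mul, map_inv, D.toL_V hdc hG hci hwV, inv_one, mul_one]
      · exact Or.inr ⟨v, e, ⟨v, hv, rfl⟩, he, hse, hw⟩
    by_cases hall : ∀ s, D.toL hdc hG hci s ∈ f.range
    · have hle : (U : Subgroup D.K.L) ≤ f.range := fun v hv => by
        obtain ⟨s, rfl⟩ := hlift hv
        exact hall s
      have := Subgroup.card_le_of_le hle
      omega
    push Not at hall
    obtain ⟨s1, hs1⟩ := hall
    have hprod : ∀ s t, D.toL hdc hG hci s ∉ f.range → D.toL hdc hG hci t ∉ f.range →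
        D.toL hdc hG hci (s * t) ∈ f.range := by
      intro s t hs ht
      obtain ⟨v, e, ⟨v', hv', rfl⟩, he, hse, hvns⟩ := (hdiv s).resolve_left hs
      obtain ⟨w, e', ⟨w', hw', rfl⟩, he', hte, hwns⟩ := (hdiv t).resolve_left ht
      by_contra hst
      obtain ⟨z, e'', ⟨z', hz', rfl⟩, he'', hze, hzns⟩ := (hdiv (s * t)).resolve_left hst
      -- the product of two non-squares in a cyclic group is a square
      haveI := D.K.V_cyclic
      obtain ⟨g, hg⟩ := IsCyclic.exists_generator (α := D.K.V)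
      have hpar : ∀ x : ↥(ctr d), x ∈ D.K.V → (¬ ∃ r ∈ D.K.V, r * r = x) → ∃ i : ℤ, x = (g : ↥(ctr d)) ^ (2 * i + 1) := by
        intro x hx hns
        obtain ⟨i, hi⟩ := hg ⟨x, hx⟩
        have hi' : (g : ↥(ctr d)) ^ i = x := congrArg Subtype.val hi
        rcases Int.even_or_odd i with ⟨j, hj⟩ | ⟨j, hj⟩
        · exact absurd ⟨(g : ↥(ctr d)) ^ j, zpow_mem g.2 _, by rw [← zpow_add, ← hj, hi']⟩ hns
        · exact ⟨j, by rw [← hi', hj]⟩
      obtain ⟨i, hi⟩ := hpar v' hv' fun ⟨r, hr, e1⟩ => hvns ⟨r, hr, Or.inl (congrArg Subtype.val e1)⟩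
      obtain ⟨j, hj⟩ := hpar w' hw' fun ⟨r, hr, e1⟩ => hwns ⟨r, hr, Or.inl (congrArg Subtype.val e1)⟩
      obtain ⟨k, hk⟩ : ∃ k : ↥(ctr d), k ∈ D.K.V ∧ k * k = v' * w' :=
        ⟨(g : ↥(ctr d)) ^ (i + j + 1), zpow_mem g.2 _, by rw [hi, hj, ← zpow_add, ← zpow_add]; congr 1; omega⟩
      -- `(s t)²` is `s² t²` times an element of `A`
      have hc' := hcomm s⁻¹ t
      have h1 : ((s : G) * t) * ((s : G) * t) =
          ((s : G) * s) * (((s⁻¹ * t * s⁻¹⁻¹ * t⁻¹ : ↥(S : Subgroup G)) : G) * ((t : G) * t)) := by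
        simp [mul_assoc]
      set a := ((s⁻¹ * t * s⁻¹⁻¹ * t⁻¹ : ↥(S : Subgroup G)) : G)
      have hvS := D.V_mem hdc hv'
      have hwS := D.V_mem hdc hw'
      have hzS := D.V_mem hdc hz'
      have cv : ∀ x ∈ (S : Subgroup G), Commute x (v' : G) := fun x hx =>
        congrArg Subtype.val (Subgroup.mem_center_iff.mp (D.K.V_center hv') ⟨x, D.mem_ctr hdc hx⟩)
      have cw : ∀ x ∈ (S : Subgroup G), Commute x (w' : G) := fun x hx =>
        congrArg Subtype.val (Subgroup.mem_center_iff.mp (D.K.V_center hw') ⟨x, D.mem_ctr hdc hx⟩)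
      have cz : ∀ x ∈ (S : Subgroup G), Commute x (z' : G) := fun x hx =>
        congrArg Subtype.val (Subgroup.mem_center_iff.mp (D.K.V_center hz') ⟨x, D.mem_ctr hdc hx⟩)
      set b := e * (a * e') * e''⁻¹ with hb
      have hbA : IsA S b := D.isA_mul hdc (D.isA_mul hdc (D.isA_E hdc he) (D.isA_mul hdc hc' (D.isA_E hdc he')))
        (D.isA_E hdc (InvMemClass.inv_mem he''))
      have hveq : (z' : G) = (v' : G) * w' * b := by
        have h2 : (z' : G) * e'' = (v' * e) * (a * (w' * e')) := by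
          rw [← hze]
          change ((s : G) * t) * ((s : G) * t) = _
          rw [h1, hse, hte]
        rw [hb]
        calc (z' : G) = (z' * e'') * e''⁻¹ := by group
          _ = (v' : G) * e * (a * w') * e' * e''⁻¹ := by rw [h2]; group
          _ = (v' : G) * (e * w') * (a * e') * e''⁻¹ := by rw [(cw a hc'.1).eq]; group
          _ = (v' : G) * w' * (e * (a * e') * e''⁻¹) := by rw [(cw e (D.E_le he)).eq]; group
      -- `b` lies in `V`, so it is `1` or `d`
      have hbV : (⟨b, D.mem_ctr hdc hbA.1⟩ : ↥(ctr d)) = (v' * w')⁻¹ * z' := Subtype.ext (by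
        show b = ((v' : G) * w')⁻¹ * z'
        rw [hveq, inv_mul_cancel_left])
      rcases D.V_sq hci (hbV ▸ mul_mem (InvMemClass.inv_mem (mul_mem hv' hw')) hz') (Subtype.ext hbA.2) with hb1 | hb1
      · exact hzns ⟨k, hk.1, Or.inl (by
          rw [hveq, show b = 1 from congrArg Subtype.val hb1, mul_one]; exact congrArg Subtype.val hk.2)⟩
      · exact hzns ⟨k, hk.1, Or.inr (by
          rw [hveq, show b = d from hb1, mul_assoc ((v' : G) * w'), D.inv.2, mul_one]; exact congrArg Subtype.val hk.2)⟩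
    let g : ↥(U : Subgroup D.K.L) → Bool × f.range := fun v =>
      if h : (v : D.K.L) ∈ f.range then (true, ⟨v, h⟩)
      else (false, ⟨D.toL hdc hG hci s1 * v, by
        obtain ⟨t, ht⟩ := hlift v.2
        rw [← ht, ← map_mul]
        exact hprod s1 t hs1 (ht ▸ h)⟩)
    have hg : Function.Injective g := fun a b h => by
      refine Subtype.ext ?_
      simp only [g] at h
      by_cases ha : (a : D.K.L) ∈ f.range
      · by_cases hb : (b : D.K.L) ∈ f.range
        · rw [dif_pos ha, dif_pos hb] at h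
          exact congrArg (fun p : Bool × f.range => (p.2 : D.K.L)) h
        · rw [dif_pos ha, dif_neg hb] at h
          exact absurd (congrArg Prod.fst h) Bool.noConfusion
      · by_cases hb : (b : D.K.L) ∈ f.range
        · rw [dif_neg ha, dif_pos hb] at h
          exact absurd (congrArg Prod.fst h) Bool.noConfusion
        · rw [dif_neg ha, dif_neg hb] at h
          exact mul_left_cancel (congrArg (fun p : Bool × f.range => (p.2 : D.K.L)) h)
    have := Nat.card_le_card_of_injective g hg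
    rwa [Nat.card_prod, Nat.card_eq_fintype_card (α := Bool), Fintype.card_bool] at this
  have hTcard : Nat.card T = Nat.card f.range * Nat.card f.ker := by
    rw [← Subgroup.index_ker, mul_comm, Subgroup.card_mul_index]
  have h128 : 128 ≤ Nat.card T := by
    rw [hTcard]
    calc 128 = 32 * 4 := rfl
      _ ≤ _ := Nat.mul_le_mul (by omega) hk
  omega

theorem S_elementary {x : G} (hx : x ∈ (S : Subgroup G)) : x * x = 1 := by
  refine D.elementary_of_no_root hdc hG hci hB (fun h => ?_) hx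
  obtain ⟨e, he, -, -, he1, -, -⟩ := D.E_four
  obtain ⟨s, hs, hse⟩ := D.root_transfer hdc hG hci hB ⟨D.mem, D.inv.2⟩ D.inv.1 (D.isA_E hdc he) he1 h
  refine D.toL_E_ne hdc hG hci he he1 ?_
  rw [show (⟨e, D.E_le he⟩ : ↥(S : Subgroup G)) = ⟨s, hs⟩ * ⟨s, hs⟩ from Subtype.ext hse.symm, map_mul]
  exact D.img_elementary hdc hG hci hB (D.toL_mem hdc hG hci _)

theorem inv_conj_d {x : G} (hx : Inv2 x) : ∃ g : G, g * d * g⁻¹ = x := by
  haveI : Fact (Nat.Prime 2) := ⟨Nat.prime_two⟩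
  obtain ⟨T, hT⟩ := hx.two.exists_sylow
  obtain ⟨g, rfl⟩ := MulAction.exists_smul_eq G S T
  rw [mem_smul_sylow] at hT
  obtain ⟨n, -, hn⟩ := D.conj_all hdc hG hci (a := g⁻¹ * x * g)
    ⟨hT, by rw [show g⁻¹ * x * g * (g⁻¹ * x * g) = g⁻¹ * (x * x) * g by group, hx.2]; group⟩
    (fun h => hx.1 (by
      calc x = g * (g⁻¹ * x * g) * g⁻¹ := by group
        _ = 1 := by rw [h]; group))
  refine ⟨g * n, ?_⟩
  calc g * n * d * (g * n)⁻¹ = g * (n * d * n⁻¹) * g⁻¹ := by group
    _ = x := by rw [hn]; group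

theorem L_alt : Nonempty (D.K.L ≃* alternatingGroup (Fin 5)) := by
  haveI : Fact (Nat.Prime 2) := ⟨Nat.prime_two⟩
  haveI := faithful_sylow D.K.nonab
  set U := D.K.img (centSylow hG hci D.mem) with hU
  have hcard : Nat.card (U : Subgroup D.K.L) = 4 := by
    rw [← D.card_inv_img hdc hG hci hB]
    exact Nat.card_congr ⟨fun u => ⟨u, u.2, D.img_elementary hdc hG hci hB u.2⟩, fun u => ⟨u.1, u.2.1⟩,
      fun _ => rfl, fun _ => rfl⟩
  refine iso_alt_five D.K.nonab ?_ ?_
  · rw [ti_card_sylow hB D.K.nonab (D.ciL hG hci hB) D.K.ti U, hcard]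
  · rw [← hcard]; exact Subgroup.card_subgroup_dvd_card _

/-- The group is simple of the order of the first Janko group. -/
theorem isJ1 : Cfsg.IsJ1 G := by
  classical
  haveI : Fact (Nat.Prime 2) := ⟨Nat.prime_two⟩
  set Wset : Set G := {x : G | ∃ g : G, x = g * d * g⁻¹ ∧ x * d = d * x} with hWset
  set W := Subgroup.closure Wset with hW
  obtain ⟨ψ⟩ := D.L_alt hdc hG hci hB
  have hWX : W ≤ ctr d := (Subgroup.closure_le _).mpr fun x ⟨g, _, hx⟩ => Subgroup.mem_centralizer_singleton_iff.mpr hx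
  have hgenmem : ∀ x : G, Inv2 x → x * d = d * x → x ∈ W := fun x hx hxd => by
    obtain ⟨g, hg⟩ := D.inv_conj_d hdc hG hci hB hx
    exact Subgroup.subset_closure ⟨g, hg.symm, hxd⟩
  let ι : W →* ↥(ctr d) := Subgroup.inclusion hWX
  have hG1 : ∀ w : W, ι w ∈ D.K.G1 := by
    have h : W ≤ D.K.G1.map (ctr d).subtype := by
      refine (Subgroup.closure_le _).mpr fun x hxw => ?_
      obtain ⟨g, hg, hxd⟩ := hxw
      refine ⟨⟨x, Subgroup.mem_centralizer_singleton_iff.mpr hxd⟩, D.K.two_mem ⟨1, Subtype.ext ?_⟩, rfl⟩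
      show x ^ 2 ^ 1 = 1
      rw [pow_one, pow_two, hg]
      exact (D.inv.conj g).2
    intro w
    obtain ⟨y, hy, e⟩ := h w.2
    rwa [show ι w = y from Subtype.ext e.symm]
  let π : W →* alternatingGroup (Fin 5) := ψ.toMonoidHom.comp (D.K.π.comp (ι.codRestrict D.K.G1 hG1))
  have hgen : Subgroup.closure {x : W | x * x = 1} = ⊤ := by
    rw [eq_top_iff, ← Subgroup.closure_closure_coe_preimage (k := Wset)]
    refine Subgroup.closure_mono fun x hx => ?_
    obtain ⟨g, hg, -⟩ := hx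
    exact Subtype.ext (show (x : G) * x = 1 by rw [hg]; exact (D.inv.conj g).2)
  have hdW : d ∈ W := hgenmem d D.inv rfl
  have hcomm2 : ∀ k : W, π k = 1 → ∀ w : W, w * k = k * w := by
    intro k hk w
    have hk' : D.K.π ⟨ι k, hG1 k⟩ = 1 := (map_eq_one_iff ψ ψ.injective).mp hk
    have hw : w ∈ Subgroup.closure {x : W | x * x = 1} := hgen ▸ Subgroup.mem_top w
    induction hw using Subgroup.closure_induction with
    | mem x hx =>
      have h := D.K.ker_cen _ hk' (ι x) ⟨1, by rw [pow_one, pow_two, ← map_mul, hx, map_one]⟩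
      exact Subgroup.inclusion_injective hWX (by rw [map_mul, map_mul]; exact h.eq.symm)
    | one => rw [one_mul, mul_one]
    | mul a b _ _ iha ihb => exact (Commute.mul_left iha ihb : Commute (a * b) k)
    | inv a _ iha => exact (Commute.inv_left iha : Commute a⁻¹ k)
  have hsurj : Function.Surjective π := by
    let R : Subgroup D.K.L := (D.K.π.comp (ι.codRestrict D.K.G1 hG1)).range
    suffices hR : R = ⊤ by
      intro a
      obtain ⟨w, hw⟩ := (hR ▸ Subgroup.mem_top (ψ.symm a) : ψ.symm a ∈ R)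
      exact ⟨w, by show ψ _ = a; rw [hw, MulEquiv.apply_symm_apply]⟩
    have hinvR : ∀ u : D.K.L, Inv2 u → u ∈ R := by
      intro u hu
      obtain ⟨U', hU'⟩ := hu.two.exists_sylow
      obtain ⟨P', rfl⟩ := D.K.img_surj U'
      obtain ⟨x, hx, rfl⟩ := D.K.mem_img.mp hU'
      obtain ⟨g, rfl⟩ := MulAction.exists_smul_eq ↥(ctr d) (centSylow hG hci D.mem) P'
      rw [mem_smul_sylow] at hx
      set xv : G := ((x : ↥(ctr d)) : G)
      have hsq' : (g : G)⁻¹ * xv * g * ((g : G)⁻¹ * xv * g) = 1 :=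
        D.S_elementary hdc hG hci hB (mem_centSylow hG hci D.mem |>.mp hx)
      have hx2 : xv * xv = 1 := by
        calc xv * xv = (g : G) * ((g : G)⁻¹ * xv * g * ((g : G)⁻¹ * xv * g)) * (g : G)⁻¹ := by group
          _ = 1 := by rw [hsq']; group
      have hx1 : xv ≠ 1 := fun h => hu.1 (by rw [show x = 1 from Subtype.ext (Subtype.ext h), map_one])
      exact ⟨⟨xv, hgenmem xv ⟨hx1, hx2⟩ (Subgroup.mem_centralizer_singleton_iff.mp (x : ↥(ctr d)).2)⟩, rfl⟩
    have hN : (Subgroup.normalClosure {u : D.K.L | Inv2 u}) ≤ R := by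
      rw [Subgroup.normalClosure]
      refine (Subgroup.closure_le _).mpr fun u hu => ?_
      obtain ⟨v, hv, hvu⟩ := Group.mem_conjugatesOfSet_iff.mp hu
      obtain ⟨g, rfl⟩ := isConj_iff.mp hvu
      exact hinvR _ (Inv2.conj hv g)
    rcases IsSimpleGroup.eq_bot_or_eq_top_of_normal (Subgroup.normalClosure {u : D.K.L | Inv2 u})
      inferInstance with h | h
    · exfalso
      obtain ⟨e, he, -, -, he1, -, -⟩ := D.E_four
      exact D.toL_E_ne hdc hG hci he he1 (Subgroup.mem_bot.mp (h ▸ Subgroup.subset_normalClosure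
        (show Inv2 _ from ⟨D.toL_E_ne hdc hG hci he he1, D.toL_sq hdc hG hci (D.isA_E hdc he)⟩)))
    · exact top_le_iff.mp (h ▸ hN)
  have hSW : (S : Subgroup G) ≤ W := fun x hx => by
    by_cases h : x = 1
    · exact h ▸ one_mem W
    · exact hgenmem x ⟨h, D.S_elementary hdc hG hci hB hx⟩ (D.comm_d hdc hx)
  have hker2 : ∀ k : W, π k = 1 → Two k → k = 1 ∨ k = ⟨d, hdW⟩ := by
    intro k hk ⟨j, hj⟩
    have hk' : D.K.π ⟨ι k, hG1 k⟩ = 1 := (map_eq_one_iff ψ ψ.injective).mp hk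
    have hV := D.K.two_ker _ hk' ⟨j, by rw [← map_pow, hj, map_one]⟩
    rcases D.V_sq hci hV (Subtype.ext (D.S_elementary hdc hG hci hB (D.V_mem hdc hV))) with h | h
    · exact Or.inl (Subgroup.inclusion_injective hWX (h.trans (map_one ι).symm))
    · exact Or.inr (Subtype.ext h)
  obtain ⟨Φ⟩ := prod_iso (M := alternatingGroup (Fin 5)) alt_five_card π hsurj
    (fun k hk => Subgroup.mem_center_iff.mpr (hcomm2 k hk)) hgen
    (d := ⟨d, hdW⟩) ⟨fun h => D.inv.1 (congrArg Subtype.val h), Subtype.ext D.inv.2⟩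
    (by
      show ψ (D.K.π ⟨ι ⟨d, hdW⟩, _⟩) = 1
      rw [D.K.V_ker ⟨ι ⟨d, hdW⟩, _⟩ D.K.d_mem, map_one])
    (S.subtype hSW : Sylow 2 W) (fun x hx => Subtype.ext (D.S_elementary hdc hG hci hB hx))
    (Nat.not_even_iff_odd.mp fun he => (S.subtype hSW).not_dvd_index he.two_dvd) D.mem hker2
  obtain ⟨e⟩ := Cfsg.Agent.S3239.result d (inv2_iff.mp D.inv) S D.mem (fun s hs => D.comm_d hdc hs) ⟨Φ⟩
  have htop : Subgroup.normalClosure ({d} : Set G) = ⊤ :=
    (IsSimpleGroup.eq_bot_or_eq_top_of_normal _ inferInstance).resolve_left fun h =>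
      D.inv.1 ((Subgroup.eq_bot_iff_forall _).mp h d (Subgroup.subset_normalClosure rfl))
  exact ⟨inferInstance, CfsgLib.J1WeakClosure.like_card
    (((MulEquiv.subgroupCongr htop).trans Subgroup.topEquiv).symm.trans e)⟩

theorem kind2 (hTI : ¬ TI G) : Kind2 G := by
  haveI : Fact (Nat.Prime 2) := ⟨Nat.prime_two⟩
  refine ⟨hTI, fun x y hx hy => ?_, fun T t ht => ?_⟩
  · obtain ⟨g, hg⟩ := D.inv_conj_d hdc hG hci hB hx
    obtain ⟨h, hh⟩ := D.inv_conj_d hdc hG hci hB hy
    exact ⟨h * g⁻¹, by rw [← hg, ← hh]; group⟩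
  · obtain ⟨g, rfl⟩ := MulAction.exists_smul_eq G S T
    rw [mem_smul_sylow] at ht
    have h := D.S_elementary hdc hG hci hB ht
    calc t * t = g * (g⁻¹ * t * g * (g⁻¹ * t * g)) * g⁻¹ := by group
      _ = 1 := by rw [h]; group

end Dat

end CfsgLib.CyclicInt
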