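import Cfsg.Agent.Lib.CyclicInt.Component
import Mathlib.LinearAlgebra.Dual.Lemmas

/-!
Small tools: pairs of involutions, functionals on elementary abelian 2-groups, averaged homomorphisms.

Blueprint: `blueprint/bender/S3308.md`, case b.
-/

set_option autoImplicit false
set_option linter.unusedSectionVars false
set_option linter.style.haveILetI false

namespace CfsgLib.CyclicInt

open Subgroup MulAction
open scoped Pointwise

universe u v

variable {G : Type u} [Group G]

theorem Inv2.mul_mul_self {a : G} (h : Inv2 a) (x : G) : a * (a * x) = x := by rw [← mul_assoc, h.2, one_mul]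

/-- The involution of the dihedral group commuting with both generators. -/
theorem Inv2.central [Finite G] {a b : G} (ha : Inv2 a) (hb : Inv2 b) (he : Even (orderOf (a * b))) :
    ∃ m : ℕ, Inv2 ((a * b) ^ m) ∧ a * (a * b) ^ m = (a * b) ^ m * a ∧ b * (a * b) ^ m = (a * b) ^ m * b := by
  obtain ⟨h1, h2⟩ := CfsgLib.Involutions.central_half ha.2 hb.2 he
  exact ⟨_, inv2_iff.mpr (CfsgLib.Involutions.orderOf_half he), h1.eq.symm, h2.eq.symm⟩

/-- The reflections of a dihedral group are conjugates of the two generators. -/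
theorem Inv2.reflection {a b : G} (ha : Inv2 a) (hb : Inv2 b) (k : ℤ) :
    ∃ g : G, g * a * g⁻¹ = a * (a * b) ^ k ∨ g * b * g⁻¹ = a * (a * b) ^ k := by
  obtain ⟨i, rfl | rfl⟩ := Int.even_or_odd' k
  · refine ⟨(a * b) ^ (-i), Or.inl ?_⟩
    rw [CfsgLib.Involutions.zpow_mul_eq ha.2 hb.2, neg_neg, ← zpow_neg, neg_neg, mul_assoc, ← zpow_add, ← two_mul]
  · refine ⟨(a * b) ^ (-i), Or.inr ?_⟩
    have h1 := CfsgLib.Involutions.zpow_mul_eq ha.2 hb.2 (-i)
    rw [neg_neg] at h1
    calc (a * b) ^ (-i) * b * ((a * b) ^ (-i))⁻¹ = (a * b) ^ (-i) * (a * (a * b)) * ((a * b) ^ (-i))⁻¹ := by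
          rw [ha.mul_mul_self]
      _ = (a * b) ^ (-i) * a * ((a * b) * (a * b) ^ i) := by rw [zpow_neg, inv_inv]; simp [mul_assoc]
      _ = a * (a * b) ^ (2 * i + 1) := by
          rw [h1, mul_assoc]
          congr 1
          rw [← zpow_one_add, ← zpow_add]
          ring_nf

theorem Inv2.eq_inv_of_pgroup {a : G} (ha : Inv2 a) {p : ℕ} {R : Subgroup G} (hR : IsPGroup p R) (hp : Odd p)
    (h : a ∈ R) : False := by
  obtain ⟨k, hk⟩ := hR ⟨a, h⟩
  have h1 := orderOf_dvd_of_pow_eq_one (congrArg Subtype.val hk : a ^ p ^ k = 1)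
  rw [inv2_iff.mp ha] at h1
  exact Nat.not_even_iff_odd.mpr (hp.pow) (even_iff_two_dvd.mpr h1)

/-- A functional separating an element from the identity. -/
theorem exists_functional {A : Subgroup G} (h2 : ∀ a ∈ A, a * a = 1) {x : G} (hx : x ∈ A) (hx1 : x ≠ 1) :
    ∃ μ : A →* Multiplicative (ZMod 2), μ ⟨x, hx⟩ ≠ 1 := by
  haveI hc : IsMulCommutative A := ⟨⟨fun a b => Subtype.ext (by
    have e1 := h2 _ (mul_mem a.2 b.2)
    have ea : (a : G)⁻¹ = a := inv_eq_of_mul_eq_one_right (h2 _ a.2)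
    have eb : (b : G)⁻¹ = b := inv_eq_of_mul_eq_one_right (h2 _ b.2)
    show (a : G) * b = b * a
    conv_lhs => rw [← inv_eq_of_mul_eq_one_right e1, mul_inv_rev, ea, eb])⟩⟩
  letI : CommGroup A := { (inferInstance : Group A) with mul_comm := hc.is_comm.comm }
  letI : Module (ZMod 2) (Additive A) := AddCommGroup.zmodModule (n := 2) fun v => by
    rw [two_nsmul]
    exact Additive.toMul.injective (Subtype.ext (h2 _ (Additive.toMul v).2))
  obtain ⟨χ, hχ⟩ : ∃ χ : Additive A →ₗ[ZMod 2] ZMod 2, χ (Additive.ofMul ⟨x, hx⟩) ≠ 0 := by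
    by_contra hcon
    push Not at hcon
    have := (Module.forall_dual_apply_eq_zero_iff (ZMod 2) (Additive.ofMul (⟨x, hx⟩ : A))).mp hcon
    exact hx1 (congrArg Subtype.val (Additive.ofMul.injective this))
  exact ⟨AddMonoidHom.toMultiplicativeRight χ.toAddMonoidHom, fun h => hχ (Multiplicative.ofAdd.injective h)⟩

theorem zmod_two_facts :
    (Multiplicative.ofAdd (1 : ZMod 2)) ^ 2 = 1 ∧ (1 : Multiplicative (ZMod 2)) ≠ Multiplicative.ofAdd 1 := by decide

theorem zmod_two_ne_one : ∀ a : Multiplicative (ZMod 2), a ≠ 1 → a = Multiplicative.ofAdd 1 := by decide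

/-- The transfer obstruction: a character of `S` not vanishing on all conjugates of `d`. -/
theorem false_of_char [Finite G] [IsSimpleGroup G] (hG : ¬ IsMulCommutative G) {S : Sylow 2 G}
    (hfus : ∀ x ∈ (S : Subgroup G), ∀ g : G, g * x * g⁻¹ ∈ (S : Subgroup G) →
      ∃ n ∈ Subgroup.normalizer ((S : Subgroup G) : Set G), n * x * n⁻¹ = g * x * g⁻¹)
    (χ₀ : ↥(S : Subgroup G) →* Multiplicative (ZMod 2)) (d : ↥(S : Subgroup G))
    (hd : ∀ n : Subgroup.normalizer ((S : Subgroup G) : Set G),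
      χ₀ ((S : Subgroup G).normalizerMonoidHom n d) ≠ 1) : False := by
  classical
  haveI : Fact (Nat.Prime 2) := ⟨Nat.prime_two⟩
  set N := Subgroup.normalizer ((S : Subgroup G) : Set G)
  set SN : Subgroup N := (S : Subgroup G).subgroupOf N with hSN
  haveI : SN.Normal := Subgroup.normal_in_normalizer
  haveI : Fintype (N ⧸ SN) := Fintype.ofFinite _
  set c := (S : Subgroup G).normalizerMonoidHom
  have hinner : ∀ σ : N, σ ∈ SN → ∀ x, χ₀ (c σ x) = χ₀ x := fun σ hσ x => by
    have e : c σ x = ⟨(σ : G), hσ⟩ * x * (⟨(σ : G), hσ⟩ : ↥(S : Subgroup G))⁻¹ := Subtype.ext rfl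
    rw [e, map_mul, map_mul, map_inv, mul_comm (χ₀ _) (χ₀ x), mul_inv_cancel_right]
  have hwd : ∀ r r' : N, (r : N ⧸ SN) = r' → ∀ x, χ₀ (c r x) = χ₀ (c r' x) := by
    intro r r' h x
    have hm : r * r'⁻¹ ∈ SN := by
      rw [← QuotientGroup.eq_one_iff, QuotientGroup.mk_mul, QuotientGroup.mk_inv, h, mul_inv_cancel]
    calc χ₀ (c r x) = χ₀ (c ((r * r'⁻¹) * r') x) := by rw [inv_mul_cancel_right]
      _ = χ₀ (c r' x) := by rw [map_mul, MulAut.mul_apply, hinner _ hm]
  let χ : ↥(S : Subgroup G) →* Multiplicative (ZMod 2) :=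
    { toFun := fun x => ∏ k : N ⧸ SN, χ₀ (c k.out x)
      map_one' := by simp
      map_mul' := fun x y => by simp [Finset.prod_mul_distrib] }
  have hinv : ∀ n ∈ N, ∀ s t : ↥(S : Subgroup G), (t : G) = n * s * n⁻¹ → χ t = χ s := by
    intro n hn s t e
    have ht : t = c ⟨n, hn⟩ s := Subtype.ext e
    show ∏ k : N ⧸ SN, χ₀ (c k.out t) = ∏ k : N ⧸ SN, χ₀ (c k.out s)
    refine Fintype.prod_equiv (Equiv.mulRight ((⟨n, hn⟩ : N) : N ⧸ SN)) _ _ fun k => ?_
    rw [ht, ← MulAut.mul_apply, ← map_mul]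
    refine hwd _ _ ?_ s
    rw [QuotientGroup.mk_mul, QuotientGroup.out_eq', QuotientGroup.out_eq']
    rfl
  have h1 := transfer_trivial hG hfus χ hinv
  have h2 : χ d = 1 := by rw [h1]; rfl
  have h3 : χ d = Multiplicative.ofAdd 1 ^ Fintype.card (N ⧸ SN) := by
    show ∏ k : N ⧸ SN, χ₀ (c k.out d) = _
    rw [Finset.prod_congr rfl fun k _ => zmod_two_ne_one _ (hd k.out), Finset.prod_const, Finset.card_univ]
  have hodd : Odd (Fintype.card (N ⧸ SN)) := by
    rw [← Nat.card_eq_fintype_card, ← Subgroup.index_eq_card]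
    exact Nat.not_even_iff_odd.mp fun he => (S.subtype (Subgroup.le_normalizer (H := (S : Subgroup G)))).not_dvd_index
      he.two_dvd
  obtain ⟨j, hj⟩ := hodd
  rw [h2, hj, pow_succ, pow_mul, zmod_two_facts.1, one_pow, one_mul] at h3
  exact zmod_two_facts.2 h3

end CfsgLib.CyclicInt
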