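import Cfsg.Agent.Lib.CyclicInt.NonTI
import Cfsg.Agent.Lib.CyclicInt.Tools

/-!
No involution of an intersection is central in a Sylow 2-subgroup: two types of involutions.

Blueprint: `blueprint/bender/S3308.md`, case b.
-/

set_option autoImplicit false
set_option linter.unusedSectionVars false
set_option linter.style.haveILetI false

namespace CfsgLib.CyclicInt

open Subgroup MulAction
open scoped Pointwise

universe u

/-- The standing hypotheses of case b. -/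
structure HypB (G : Type u) [Group G] [Finite G] : Prop where
  noncomm : ¬ IsMulCommutative G
  ci : CI G
  ih : Below.{u} (Nat.card G)
  eight : ∀ S : Sylow 2 G, Eight S
  partB : CfsgLib.Bender.TwoClosed.PartB.{u, u}
  notcen : ∀ (d : G) (S : Sylow 2 G), Meet d → d ∈ (S : Subgroup G) → ¬ Cen S d
  nti : ¬ TI G

variable {G : Type u} [Group G] [Finite G]

/-- The central elements of square one of `S`. -/
def ZS (S : Sylow 2 G) : Subgroup G where
  carrier := {z | z ∈ (S : Subgroup G) ∧ z * z = 1 ∧ ∀ s ∈ (S : Subgroup G), s * z = z * s}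
  one_mem' := ⟨one_mem _, one_mul 1, fun s _ => by rw [mul_one, one_mul]⟩
  mul_mem' := fun {a b} ha hb => ⟨mul_mem ha.1 hb.1, by
      rw [show a * b * (a * b) = a * (b * a) * b by group, ← hb.2.2 a ha.1,
        show a * (a * b) * b = (a * a) * (b * b) by group, ha.2.1, hb.2.1, one_mul],
    fun s hs => (Commute.mul_right (ha.2.2 s hs) (hb.2.2 s hs)).eq⟩
  inv_mem' := fun {a} ha => ⟨inv_mem ha.1, by rw [← mul_inv_rev, ha.2.1, inv_one],
    fun s hs => (Commute.inv_right (ha.2.2 s hs)).eq⟩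

theorem mem_ZS {S : Sylow 2 G} {z : G} :
    z ∈ ZS S ↔ z ∈ (S : Subgroup G) ∧ z * z = 1 ∧ ∀ s ∈ (S : Subgroup G), s * z = z * s := Iff.rfl

theorem cen_iff {S : Sylow 2 G} {z : G} : Cen S z ↔ z ∈ ZS S ∧ z ≠ 1 :=
  ⟨fun h => ⟨⟨h.2.1, h.1.2, h.2.2⟩, h.1.1⟩, fun h => ⟨⟨h.2, h.1.2.1⟩, h.1.1, h.1.2.2⟩⟩

theorem Cen.smul {S : Sylow 2 G} {z : G} (h : Cen S z) (g : G) : Cen (g • S) (g * z * g⁻¹) := by
  refine ⟨h.1.conj g, conj_mem_smul_sylow h.2.1, fun s hs => ?_⟩
  have hh := h.2.2 _ (mem_smul_sylow.mp hs)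
  calc s * (g * z * g⁻¹) = g * (g⁻¹ * s * g * z) * g⁻¹ := by group
    _ = g * (z * (g⁻¹ * s * g)) * g⁻¹ := by rw [hh]
    _ = g * z * g⁻¹ * s := by group

theorem ZS.conj {S : Sylow 2 G} {z n : G} (h : z ∈ ZS S)
    (hn : n ∈ Subgroup.normalizer ((S : Subgroup G) : Set G)) : n * z * n⁻¹ ∈ ZS S := by
  by_cases h1 : z = 1
  · rw [h1, mul_one, mul_inv_cancel]; exact one_mem _
  · exact (cen_iff.mp ((cen_iff.mpr ⟨h, h1⟩).conj hn)).1

/-- The number of Sylow subgroups through an element. -/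
noncomputable def fixCard (d : G) : ℕ := Nat.card {S : Sylow 2 G // d ∈ (S : Subgroup G)}

theorem smul_eq_self_iff {S : Sylow 2 G} {x : G} (hx : Two x) : x • S = S ↔ x ∈ (S : Subgroup G) :=
  ⟨fun h => hx.mem_of_normalizer S (smul_eq_iff_normalizer.mp h),
    fun h => smul_eq_iff_normalizer.mpr (Subgroup.le_normalizer h)⟩

/-- Commuting with an element fixing exactly one point. -/
theorem mem_smul_of_comm {S : Sylow 2 G} {x w : G} (hx : x ∈ (S : Subgroup G)) (h : w * x = x * w) :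
    x ∈ ((w • S : Sylow 2 G) : Subgroup G) := by
  rw [mem_smul_sylow, mul_assoc, ← h, inv_mul_cancel_left]
  exact hx

theorem fixCard_conj (g d : G) : fixCard (g * d * g⁻¹) = fixCard d := by
  refine (Nat.card_congr ((MulAction.toPerm g).subtypeEquiv fun S => ?_)).symm
  show d ∈ (S : Subgroup G) ↔ g * d * g⁻¹ ∈ ((g • S : Sylow 2 G) : Subgroup G)
  rw [mem_smul_sylow, show g⁻¹ * (g * d * g⁻¹) * g = d by group]

theorem card_ZS_conj (g : G) (S : Sylow 2 G) : Nat.card (ZS (g • S)) = Nat.card (ZS S) := by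
  have key : ∀ (g : G) (S : Sylow 2 G) (z : G), z ∈ ZS S → g * z * g⁻¹ ∈ ZS (g • S) := fun g S z hz => by
    by_cases h1 : z = 1
    · rw [h1, mul_one, mul_inv_cancel]; exact one_mem _
    · exact (cen_iff.mp ((cen_iff.mpr ⟨hz, h1⟩).smul g)).1
  exact Nat.card_congr
    { toFun := fun z => ⟨g⁻¹ * z * g⁻¹⁻¹, by
        have := key g⁻¹ _ _ z.2
        rwa [inv_smul_smul] at this⟩
      invFun := fun z => ⟨g * z * g⁻¹, key g S _ z.2⟩
      left_inv := fun z => Subtype.ext (by simp [mul_assoc])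
      right_inv := fun z => Subtype.ext (by simp [mul_assoc]) }

/-- Every group `ZS` has the same order. -/
theorem card_ZS_eq (S T : Sylow 2 G) : Nat.card (ZS S) = Nat.card (ZS T) := by
  haveI : Fact (Nat.Prime 2) := ⟨Nat.prime_two⟩
  obtain ⟨g, rfl⟩ := MulAction.exists_smul_eq G S T
  exact (card_ZS_conj g S).symm

variable [IsSimpleGroup G] (H : HypB G)
include H

namespace HypB

theorem cen_unique {S T : Sylow 2 G} {z : G} (h : Cen S z) (hT : z ∈ (T : Subgroup G)) : T = S :=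
  by_contra fun hne => H.notcen z S ⟨h.1, T, S, hne, hT, h.2.1⟩ h.2.1 h

theorem not_meet {S : Sylow 2 G} {z : G} (h : Cen S z) : ¬ Meet z := fun hm => H.notcen z S hm h.2.1 h

theorem cen_centre {S T : Sylow 2 G} {z : G} (h : Cen S z) (h' : Cen T z) : T = S := H.cen_unique h h'.2.1

theorem conj_not_meet {S : Sylow 2 G} {z x g : G} (h : Cen S z) (e : g * z * g⁻¹ = x) : ¬ Meet x :=
  e ▸ H.not_meet (h.smul g)

theorem dat_exists {d : G} (hd : Meet d) {S : Sylow 2 G} (hS : d ∈ (S : Subgroup G)) : Nonempty (Dat d S) := by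
  obtain ⟨K⟩ := exists_comp_ctr H.noncomm H.ci H.ih hd H.eight
  exact exists_dat H.noncomm H.ci H.partB hd.1 hS K

theorem E_eq {d : G} {S : Sylow 2 G} (hd : Meet d) (D : Dat d S) : D.E = ZS S := by
  obtain ⟨z, w, hz, -, -⟩ := exists_two_cen H.noncomm H.ci S
  have hnd : ¬ Cen S d := H.notcen d S hd D.mem
  have hcd : ∀ {x : G}, Cen S x → x * d = d * x := fun hx => (hx.2.2 d D.mem).symm
  obtain ⟨e1, he1, f1, hf1, he11, hf11, hef⟩ := D.E_four
  have hkey : ∀ x : G, Cen S x → x ∈ D.E := by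
    intro x hx
    refine (D.inv_mem x hx.2.1 hx.1.2 (hcd hx)).resolve_right fun he => ?_
    have hxd : d * x ≠ 1 := fun h => hnd (by
      rw [show d = x by rw [← D.inv.inv]; exact inv_eq_of_mul_eq_one_right h]; exact hx)
    have hall : ∀ e' ∈ D.E, e' ≠ 1 → Cen S (d * e') := by
      intro e' he' he1'
      obtain ⟨n, hn, -, hnd', hne⟩ := D.E_trans _ he e' he' hxd he1'
      have := hx.conj hn
      rwa [show n * x * n⁻¹ = d * e' by
        rw [← hne]
        calc n * x * n⁻¹ = n * (d * (d * x)) * n⁻¹ := by rw [D.inv.mul_mul_self]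
          _ = (n * d) * (d * x) * n⁻¹ := by group
          _ = d * (n * (d * x) * n⁻¹) := by rw [hnd']; group] at this
    obtain ⟨e', he', he1', hne'⟩ : ∃ e' ∈ D.E, e' ≠ 1 ∧ e' ≠ d * x := by
      by_cases h : e1 = d * x
      · exact ⟨f1, hf1, hf11, fun h' => hef (h.trans h'.symm)⟩
      · exact ⟨e1, he1, he11, h⟩
    have hcx := hall _ he hxd
    rw [D.inv.mul_mul_self] at hcx
    have hprod : (d * x) * e' ∈ ZS S := by
      have := mul_mem (cen_iff.mp hcx).1 (cen_iff.mp (hall e' he' he1')).1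
      rwa [show x * (d * e') = d * x * e' by rw [← mul_assoc, hcd hx]] at this
    have hg1 : d * x * e' ≠ 1 := fun h => hne' ((eq_inv_of_mul_eq_one_right h).trans (Inv2.inv ⟨hxd, D.E_sq _ he⟩))
    have hg : Cen S (d * x * e') := cen_iff.mpr ⟨hprod, hg1⟩
    obtain ⟨n, hn, -, -, hne⟩ := D.E_trans _ (mul_mem he he') _ he hg1 hxd
    have hdx := (cen_iff.mp (hg.conj hn)).1
    rw [hne] at hdx
    have hd' := mul_mem hdx (cen_iff.mp hx).1
    rw [mul_assoc, hx.1.2, mul_one] at hd'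
    exact hnd (cen_iff.mpr ⟨hd', D.inv.1⟩)
  ext e
  constructor
  · intro he
    by_cases h1 : e = 1
    · exact h1 ▸ one_mem _
    obtain ⟨n, hn, -, -, hne⟩ := D.E_trans z (hkey z hz) e he hz.1.1 h1
    exact hne ▸ (cen_iff.mp (hz.conj hn)).1
  · intro he
    by_cases h1 : e = 1
    · exact h1 ▸ one_mem _
    exact hkey e (cen_iff.mpr ⟨he, h1⟩)

theorem four_le_q (S : Sylow 2 G) : 4 ≤ Nat.card (ZS S) ∧ 2 ∣ Nat.card (ZS S) := by
  obtain ⟨z, w, hz, hw, hne⟩ := exists_two_cen H.noncomm H.ci S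
  have h2 : 2 ∣ Nat.card (ZS S) := by
    have := Subgroup.orderOf_dvd_natCard _ (cen_iff.mp hz).1
    rwa [inv2_iff.mp hz.1] at this
  refine ⟨?_, h2⟩
  have h3 : Nat.card (Fin 3) ≤ Nat.card (ZS S) :=
    Nat.card_le_card_of_injective
      (![⟨1, one_mem _⟩, ⟨z, (cen_iff.mp hz).1⟩, ⟨w, (cen_iff.mp hw).1⟩] : Fin 3 → ZS S) (by
      intro i j h
      have := hz.1.1
      have := hw.1.1
      fin_cases i <;> fin_cases j <;> simp_all [Subtype.ext_iff, eq_comm])
  rw [Nat.card_fin] at h3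
  omega

theorem coset_cases {d : G} {S : Sylow 2 G} (hd : Meet d) (hS : d ∈ (S : Subgroup G)) {x : G}
    (hx : x ∈ (S : Subgroup G)) (hx2 : x * x = 1) (hc : x * d = d * x) : x ∈ ZS S ∨ d * x ∈ ZS S := by
  obtain ⟨D⟩ := H.dat_exists hd hS
  rw [← H.E_eq hd D]
  exact D.inv_mem x hx hx2 hc

/-- The odd order normaliser of `C_S(d)` is transitive on the central involutions. -/
theorem trans_cd {d : G} {S : Sylow 2 G} (hd : Meet d) (hS : d ∈ (S : Subgroup G)) {e e' : G} (he : Cen S e)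
    (he' : Cen S e') :
    ∃ n ∈ Subgroup.normalizer ((S : Subgroup G) : Set G), n * d = d * n ∧ n * e * n⁻¹ = e' := by
  obtain ⟨D⟩ := H.dat_exists hd hS
  have hE := H.E_eq hd D
  obtain ⟨n, hn, -, h1, h2⟩ := D.E_trans e (hE ▸ (cen_iff.mp he).1) e' (hE ▸ (cen_iff.mp he').1) he.1.1 he'.1.1
  exact ⟨n, hn, h1, h2⟩

theorem dZ_ne_one {d : G} {S : Sylow 2 G} (hd : Meet d) (hS : d ∈ (S : Subgroup G)) : d ∉ ZS S :=
  fun h => H.notcen d S hd hS (cen_iff.mpr ⟨h, hd.1.1⟩)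

/-- The conjugates of `d` under `S` contain the whole coset of `d`. -/
theorem coset_orbit {d : G} {S : Sylow 2 G} (hd : Meet d) (hS : d ∈ (S : Subgroup G)) {z : G} (hz : z ∈ ZS S) :
    ∃ s ∈ (S : Subgroup G), s * d * s⁻¹ = d * z := by
  by_cases hz1 : z = 1
  · exact ⟨1, one_mem _, by rw [hz1]; simp⟩
  haveI : Fact (Nat.Prime 2) := ⟨Nat.prime_two⟩
  haveI := S.2.isNilpotent
  let P : Subgroup ↥(S : Subgroup G) := Subgroup.centralizer ({⟨d, hS⟩} : Set ↥(S : Subgroup G))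
  have hPtop : P < ⊤ := by
    refine lt_top_iff_ne_top.mpr fun h => H.notcen d S hd hS ⟨hd.1, hS, fun s hs => ?_⟩
    have hm : (⟨s, hs⟩ : ↥(S : Subgroup G)) ∈ P := h ▸ Subgroup.mem_top _
    exact congrArg (fun v : ↥(S : Subgroup G) => (v : G)) (Subgroup.mem_centralizer_singleton_iff.mp hm)
  obtain ⟨s, hsN, hsP⟩ := SetLike.exists_of_lt (Group.normalizerCondition_of_isNilpotent P hPtop)
  have hdP : (⟨d, hS⟩ : ↥(S : Subgroup G)) ∈ P := Subgroup.mem_centralizer_singleton_iff.mpr rfl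
  set d1 := (s : G) * d * (s : G)⁻¹ with hd1
  have hsd : s * ⟨d, hS⟩ * s⁻¹ ∈ P := (Subgroup.mem_normalizer_iff.mp hsN _).mp hdP
  have hd1c : d1 * d = d * d1 := congrArg (fun v : ↥(S : Subgroup G) => (v : G))
    (Subgroup.mem_centralizer_singleton_iff.mp hsd)
  have hd1S : d1 ∈ (S : Subgroup G) := mul_mem (mul_mem s.2 hS) (inv_mem s.2)
  have hd1ne : d1 ≠ d := fun h => hsP (Subgroup.mem_centralizer_singleton_iff.mpr (Subtype.ext
    (mul_inv_eq_iff_eq_mul.mp (h : (s : G) * d * (s : G)⁻¹ = d))))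
  rcases H.coset_cases hd hS hd1S (hd.1.conj _).2 hd1c with h | h
  · exfalso
    refine H.dZ_ne_one hd hS ?_
    have := ZS.conj h (Subgroup.le_normalizer (inv_mem s.2))
    rwa [show (s : G)⁻¹ * d1 * (s : G)⁻¹⁻¹ = d by rw [hd1]; group] at this
  · have hz0 : Cen S (d * d1) := cen_iff.mpr ⟨h, fun e => hd1ne (by
      rw [← hd.1.inv]; exact (inv_eq_of_mul_eq_one_right e).symm)⟩
    obtain ⟨n, hn, hnd, hnz⟩ := H.trans_cd hd hS hz0 (cen_iff.mpr ⟨hz, hz1⟩)
    refine ⟨n * s * n⁻¹, (Subgroup.mem_normalizer_iff.mp hn s).mp s.2, ?_⟩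
    have e1 : n⁻¹ * d * n = d := by rw [mul_assoc, ← hnd, inv_mul_cancel_left]
    calc n * (s : G) * n⁻¹ * d * (n * s * n⁻¹)⁻¹ = n * (s * (n⁻¹ * d * n) * (s : G)⁻¹) * n⁻¹ := by group
      _ = n * (d * (d * d1)) * n⁻¹ := by rw [e1, hd.1.mul_mul_self]
      _ = n * d * n⁻¹ * (n * (d * d1) * n⁻¹) := by group
      _ = d * z := by rw [hnz, hnd, mul_inv_cancel_right]

theorem meet_coset {d : G} {S : Sylow 2 G} (hd : Meet d) (hS : d ∈ (S : Subgroup G)) {z : G} (hz : z ∈ ZS S) :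
    Meet (d * z) := by
  obtain ⟨s, -, e⟩ := H.coset_orbit hd hS hz
  exact e ▸ hd.conj s

theorem fixCard_coset {d : G} {S : Sylow 2 G} (hd : Meet d) (hS : d ∈ (S : Subgroup G)) {z : G} (hz : z ∈ ZS S) :
    fixCard (d * z) = fixCard d := by
  obtain ⟨s, -, e⟩ := H.coset_orbit hd hS hz
  rw [← e, fixCard_conj]

/-- An involution commuting with `d` shares a Sylow subgroup with it. -/
theorem exists_common {d x : G} (hd : Inv2 d) (hx : Two x) (hc : x * d = d * x) :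
    ∃ S : Sylow 2 G, d ∈ (S : Subgroup G) ∧ x ∈ (S : Subgroup G) := by
  haveI : Fact (Nat.Prime 2) := ⟨Nat.prime_two⟩
  obtain ⟨k, hk⟩ := hx
  obtain ⟨P, hP⟩ := Two.exists_sylow (x := (⟨x, Subgroup.mem_centralizer_singleton_iff.mpr hc⟩ : ↥(ctr d)))
    ⟨k, Subtype.ext hk⟩
  obtain ⟨S, hS, rfl⟩ := centSylow_surj H.noncomm H.ci hd P
  exact ⟨S, hS, hP⟩

/-- An involution is either central in a Sylow subgroup or lies in two of them. -/
theorem trichotomy {x : G} (hx : Inv2 x) : Meet x ∨ ∃ S, Cen S x := by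
  haveI : Fact (Nat.Prime 2) := ⟨Nat.prime_two⟩
  by_contra hcon
  push Not at hcon
  obtain ⟨hnm, hnc⟩ := hcon
  obtain ⟨S, hS⟩ := hx.two.exists_sylow
  have huniq : ∀ T : Sylow 2 G, x ∈ (T : Subgroup G) → T = S := fun T hT =>
    by_contra fun hne => hnm ⟨hx, T, S, hne, hT, hS⟩
  obtain ⟨T, hne⟩ : ∃ T : Sylow 2 G, T ≠ S := by
    by_contra h
    push Not at h
    haveI : Subsingleton (Sylow 2 G) := ⟨fun a b => (h a).trans (h b).symm⟩
    rcases IsSimpleGroup.eq_bot_or_eq_top_of_normal (S : Subgroup G) (Sylow.normal_of_subsingleton S) with e | e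
    · exact hx.1 ((Subgroup.eq_bot_iff_forall _).mp e x hS)
    · haveI := (S.2.of_surjective ((MulEquiv.subgroupCongr e).trans Subgroup.topEquiv).toMonoidHom
        (MulEquiv.surjective _)).isNilpotent
      exact not_solvable H.noncomm inferInstance
  obtain ⟨z, -, hz, -, -⟩ := exists_two_cen H.noncomm H.ci T
  rcases Nat.even_or_odd (orderOf (x * z)) with he | ho
  · obtain ⟨m, hw, hxw, hzw⟩ := Inv2.central hx hz.1 he
    set w := (x * z) ^ m
    have hwT : w ∈ (T : Subgroup G) :=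
      (smul_eq_self_iff hw.two).mp (H.cen_unique hz (mem_smul_of_comm hz.2.1 hzw.symm))
    have hwS : w ∈ (S : Subgroup G) :=
      (smul_eq_self_iff hw.two).mp (huniq _ (mem_smul_of_comm hS hxw.symm))
    have hwm : Meet w := ⟨hw, T, S, hne, hwT, hwS⟩
    rcases H.coset_cases hwm hwS hS hx.2 hxw with h | h
    · exact hnc S (cen_iff.mpr ⟨h, hx.1⟩)
    · have := H.meet_coset hwm hwS h
      rw [hw.mul_mul_self] at this
      exact hnm this
  · obtain ⟨g, -, hg⟩ := CfsgLib.Involutions.exists_conj_eq_of_odd hz.1.2 hx.2 (by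
      rw [show z * x = (x * z)⁻¹ by rw [mul_inv_rev, hx.inv, hz.1.inv], orderOf_inv]; exact ho)
    exact hnc _ (hg ▸ hz.smul g)

theorem cen_of_not_meet {x : G} (hx : Inv2 x) (h : ¬ Meet x) : ∃ S, Cen S x := (H.trichotomy hx).resolve_left h

/-- Central involutions with different centres have product of odd order. -/
theorem odd_product {S T : Sylow 2 G} {t u : G} (ht : Cen S t) (hu : Cen T u) (hne : S ≠ T) :
    Odd (orderOf (t * u)) := by
  rw [← Nat.not_even_iff_odd]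
  intro he
  obtain ⟨m, hw, htw, huw⟩ := Inv2.central ht.1 hu.1 he
  set w := (t * u) ^ m with hwdef
  have hwS : w ∈ (S : Subgroup G) :=
    (smul_eq_self_iff hw.two).mp (H.cen_unique ht (mem_smul_of_comm ht.2.1 htw.symm))
  have hwT : w ∈ (T : Subgroup G) :=
    (smul_eq_self_iff hw.two).mp (H.cen_unique hu (mem_smul_of_comm hu.2.1 huw.symm))
  have hwm : Meet w := ⟨hw, S, T, hne, hwS, hwT⟩
  have htwS : t * w ∈ (S : Subgroup G) := mul_mem ht.2.1 hwS
  have hC : ∃ R, Cen R (t * w) := by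
    obtain ⟨g, hg | hg⟩ := Inv2.reflection ht.1 hu.1 (m : ℤ)
    · rw [zpow_natCast] at hg; exact ⟨_, hg ▸ ht.smul g⟩
    · rw [zpow_natCast] at hg; exact ⟨_, hg ▸ hu.smul g⟩
  obtain ⟨R, hR⟩ := hC
  obtain rfl : S = R := H.cen_unique hR htwS
  refine H.dZ_ne_one hwm hwS ?_
  have := mul_mem (cen_iff.mp ht).1 (cen_iff.mp hR).1
  rwa [ht.1.mul_mul_self] at this

theorem commute_centre {S T : Sylow 2 G} {t u : G} (ht : Cen S t) (hu : Cen T u) (hc : t * u = u * t) : S = T := by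
  by_contra hne
  have ho := H.odd_product ht hu hne
  have h1 : t * u * (t * u) = 1 := by
    rw [show t * u * (t * u) = t * (u * t) * u by group, ← hc, show t * (t * u) * u = (t * t) * (u * u) by group,
      ht.1.2, hu.1.2, one_mul]
  have h2 : t * u = 1 := eq_one_of_two_odd' ⟨1, by rw [pow_one, pow_two, h1]⟩ ho
  have htu : t = u := by rw [← hu.1.inv]; exact eq_inv_of_mul_eq_one_left h2
  exact hne (H.cen_centre (htu ▸ ht) hu).symm

/-- Two Sylow subgroups have at most one common involution. -/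
theorem pair_unique {S T : Sylow 2 G} (hne : S ≠ T) {x y : G} (hx : Inv2 x) (hy : Inv2 y)
    (hxS : x ∈ (S : Subgroup G)) (hyS : y ∈ (S : Subgroup G)) (hxT : x ∈ (T : Subgroup G))
    (hyT : y ∈ (T : Subgroup G)) : x = y :=
  by_contra fun h => hne (H.ci.eq_of_two hx hy h hxS hyS hxT hyT)

/-- A point not fixed by `d` is fixed by exactly one `d t`. -/
theorem exists_swap {d : G} (hd : Meet d) {h : Sylow 2 G} (hdh : d ∉ (h : Subgroup G)) :
    ∃ (S : Sylow 2 G) (t : G), d ∈ (S : Subgroup G) ∧ Cen S t ∧ d * t ∈ (h : Subgroup G) ∧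
      d * t ∈ ((d • h : Sylow 2 G) : Subgroup G) := by
  obtain ⟨z, -, hz, -, -⟩ := exists_two_cen H.noncomm H.ci h
  have he : Even (orderOf (d * z)) := by
    rw [← Nat.not_odd_iff_even]
    intro ho
    obtain ⟨g, -, hg⟩ := CfsgLib.Involutions.exists_conj_eq_of_odd hz.1.2 hd.1.2 (by
      rw [show z * d = (d * z)⁻¹ by rw [mul_inv_rev, hd.1.inv, hz.1.inv], orderOf_inv]; exact ho)
    exact H.conj_not_meet hz hg hd
  obtain ⟨m, hw, hdw, hzw⟩ := Inv2.central hd.1 hz.1 he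
  set w := (d * z) ^ m
  have hwh : w ∈ (h : Subgroup G) :=
    (smul_eq_self_iff hw.two).mp (H.cen_unique hz (mem_smul_of_comm hz.2.1 hzw.symm))
  obtain ⟨S, hS, hwS⟩ := H.exists_common hd.1 hw.two hdw.symm
  have hwdh : w ∈ ((d • h : Sylow 2 G) : Subgroup G) := mem_smul_of_comm hwh hdw
  rcases H.coset_cases hd hS hwS hw.2 hdw.symm with hc | hc
  · exact absurd ((H.cen_unique (cen_iff.mpr ⟨hc, hw.1⟩) hwh).symm ▸ hS) hdh
  · have h1 : d * w ≠ 1 := fun e => hdh (by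
      rw [show d = w by rw [← hw.inv]; exact eq_inv_of_mul_eq_one_left e]; exact hwh)
    exact ⟨S, d * w, hS, cen_iff.mpr ⟨hc, h1⟩, by rwa [hd.1.mul_mul_self], by rwa [hd.1.mul_mul_self]⟩

theorem swap_unique {d : G} (hd : Meet d) {h S S' : Sylow 2 G} {t t' : G} (hdh : d ∉ (h : Subgroup G))
    (hS : d ∈ (S : Subgroup G)) (ht : Cen S t) (hth : d * t ∈ (h : Subgroup G)) (hS' : d ∈ (S' : Subgroup G))
    (ht' : Cen S' t') (hth' : d * t' ∈ (h : Subgroup G)) : S = S' ∧ t = t' := by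
  have hne : h ≠ d • h := fun e => hdh ((smul_eq_self_iff hd.1.two).mp e.symm)
  have hcomm : ∀ {R : Sylow 2 G} {r : G}, d ∈ (R : Subgroup G) → Cen R r →
      Inv2 (d * r) ∧ d * (d * r) = (d * r) * d := fun {R r} hR hr => by
    refine ⟨(H.meet_coset hd hR (cen_iff.mp hr).1).1, ?_⟩
    rw [mul_assoc d r d, ← hr.2.2 d hR]
  obtain ⟨i1, c1⟩ := hcomm hS ht
  obtain ⟨i2, c2⟩ := hcomm hS' ht'
  have e : t = t' := mul_left_cancel (H.pair_unique hne i1 i2 hth hth' (mem_smul_of_comm hth c1)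
    (mem_smul_of_comm hth' c2))
  subst e
  exact ⟨(H.cen_centre ht ht').symm, rfl⟩

theorem fixCard_eq {d : G} (hd : Meet d) (K : Comp ↥(ctr d) (self d)) {S : Sylow 2 G}
    (hS : d ∈ (S : Subgroup G)) :
    fixCard d = Nat.card (K.img (centSylow H.noncomm H.ci hS) : Subgroup K.L) + 1 := by
  rw [← ti_card_sylow H.partB K.nonab (((H.ci.subgroup (ctr d)).subgroup K.G1).of_surjective K.π K.surj) K.ti]
  refine Nat.card_congr (Equiv.ofBijective (fun T => K.img (centSylow H.noncomm H.ci T.2))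
    ⟨fun a b h => Subtype.ext (centSylow_inj H.noncomm H.ci a.2 b.2 (K.img_inj h)), fun U => ?_⟩)
  obtain ⟨P, rfl⟩ := K.img_surj U
  obtain ⟨T, hT, rfl⟩ := centSylow_surj H.noncomm H.ci hd.1 P
  exact ⟨⟨T, hT⟩, rfl⟩

theorem two_le_fixCard {d : G} (hd : Meet d) : 2 ≤ fixCard d := by
  obtain ⟨-, S, T, hne, hS, hT⟩ := hd
  haveI : Nontrivial {S : Sylow 2 G // d ∈ (S : Subgroup G)} :=
    ⟨⟨⟨S, hS⟩, ⟨T, hT⟩, fun e => hne (congrArg Subtype.val e)⟩⟩
  exact Finite.one_lt_card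

/-- The number of points. -/
theorem card_points {d : G} (hd : Meet d) (S₀ : Sylow 2 G) :
    Nat.card (Sylow 2 G) = fixCard d + fixCard d * (Nat.card (ZS S₀) - 1) * (fixCard d - 1) := by
  classical
  haveI : Fintype (Sylow 2 G) := Fintype.ofFinite _
  haveI : Fintype G := Fintype.ofFinite G
  let I := Σ R : {S : Sylow 2 G // d ∈ (S : Subgroup G)}, {t : G // Cen R.1 t}
  let J := Σ i : I, {h : Sylow 2 G // d * i.2.1 ∈ (h : Subgroup G) ∧ h ≠ i.1.1}
  have hout : ∀ j : J, d ∉ (j.2.1 : Subgroup G) := by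
    rintro ⟨⟨⟨R, hR⟩, ⟨t, ht⟩⟩, ⟨h, hh, hne⟩⟩ hdh
    have hm := H.meet_coset hd hR (cen_iff.mp ht).1
    have := H.pair_unique hne hm.1 hd.1 hh hdh (mul_mem hR ht.2.1) hR
    exact ht.1.1 (mul_eq_left.mp this)
  let f : J → {h : Sylow 2 G // ¬ d ∈ (h : Subgroup G)} := fun j => ⟨j.2.1, hout j⟩
  have hf : Function.Bijective f := by
    constructor
    · intro a b e
      obtain ⟨⟨⟨R, hR⟩, ⟨t, ht⟩⟩, ⟨h, hh, hne⟩⟩ := a
      obtain ⟨⟨⟨R', hR'⟩, ⟨t', ht'⟩⟩, ⟨h', hh', hne'⟩⟩ := b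
      obtain rfl : h = h' := congrArg Subtype.val e
      obtain ⟨rfl, rfl⟩ := H.swap_unique hd (hout ⟨⟨⟨R, hR⟩, ⟨t, ht⟩⟩, ⟨h, hh, hne⟩⟩) hR ht hh hR' ht' hh'
      rfl
    · rintro ⟨h, hdh⟩
      obtain ⟨R, t, hR, ht, hth, -⟩ := H.exists_swap hd hdh
      exact ⟨⟨⟨⟨R, hR⟩, ⟨t, ht⟩⟩, ⟨h, hth, fun e => hdh (e ▸ hR)⟩⟩, rfl⟩
  have hin : ∀ i : I, Nat.card {h : Sylow 2 G // d * i.2.1 ∈ (h : Subgroup G) ∧ h ≠ i.1.1} = fixCard d - 1 := by
    rintro ⟨⟨R, hR⟩, ⟨t, ht⟩⟩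
    rw [← H.fixCard_coset hd hR (cen_iff.mp ht).1]
    simp only [fixCard, Nat.card_eq_fintype_card, Fintype.card_subtype]
    rw [show (Finset.univ.filter fun h : Sylow 2 G => d * t ∈ (h : Subgroup G) ∧ h ≠ R) =
      (Finset.univ.filter fun h : Sylow 2 G => d * t ∈ (h : Subgroup G)).erase R by ext; simp [and_comm],
      Finset.card_erase_of_mem (by simp [mul_mem hR ht.2.1])]
  have hcen : ∀ R : Sylow 2 G, Nat.card {t : G // Cen R t} = Nat.card (ZS S₀) - 1 := fun R => by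
    rw [← card_ZS_eq R S₀]
    haveI : Fintype (ZS R) := Fintype.ofFinite _
    rw [Nat.card_congr (show {t : G // Cen R t} ≃ {z : ZS R // ¬ z = 1} from
      { toFun := fun t => ⟨⟨t.1, (cen_iff.mp t.2).1⟩, fun e => t.2.1.1 (congrArg Subtype.val e)⟩
        invFun := fun z => ⟨z.1.1, cen_iff.mpr ⟨z.1.2, fun e => z.2 (Subtype.ext e)⟩⟩
        left_inv := fun _ => rfl
        right_inv := fun _ => rfl }), Nat.card_eq_fintype_card, Nat.card_eq_fintype_card, Fintype.card_subtype_compl,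
      Fintype.card_subtype_eq]
  have hJ : Nat.card {h : Sylow 2 G // ¬ d ∈ (h : Subgroup G)} =
      fixCard d * (Nat.card (ZS S₀) - 1) * (fixCard d - 1) := by
    rw [← Nat.card_congr (Equiv.ofBijective f hf)]
    show Nat.card J = _
    rw [Nat.card_sigma, Finset.sum_congr rfl fun i _ => hin i, Finset.sum_const, Finset.card_univ, smul_eq_mul,
      ← Nat.card_eq_fintype_card, show Nat.card I = fixCard d * (Nat.card (ZS S₀) - 1) from ?_]
    rw [Nat.card_sigma, Finset.sum_congr rfl fun R _ => hcen R.1, Finset.sum_const, Finset.card_univ, smul_eq_mul,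
      ← Nat.card_eq_fintype_card]
    rfl
  rw [← hJ]
  simp only [fixCard, Nat.card_eq_fintype_card]
  rw [← Fintype.card_sum]
  exact (Fintype.card_congr (Equiv.sumCompl _)).symm

theorem fixCard_const {d d' : G} (hd : Meet d) (hd' : Meet d') : fixCard d = fixCard d' := by
  obtain ⟨S₀⟩ : Nonempty (Sylow 2 G) := inferInstance
  have h1 := H.card_points hd S₀
  have h2 := H.card_points hd' S₀
  have a := H.two_le_fixCard hd
  have b := H.two_le_fixCard hd'
  have q := (H.four_le_q S₀).1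
  rcases lt_trichotomy (fixCard d) (fixCard d') with h | h | h
  · exfalso
    have := Nat.mul_le_mul (Nat.mul_le_mul_right (Nat.card (ZS S₀) - 1) h.le) (Nat.sub_le_sub_right h.le 1)
    omega
  · exact h
  · exfalso
    have := Nat.mul_le_mul (Nat.mul_le_mul_right (Nat.card (ZS S₀) - 1) h.le) (Nat.sub_le_sub_right h.le 1)
    omega

theorem exists_meet (S : Sylow 2 G) : ∃ d, Meet d ∧ d ∈ (S : Subgroup G) := by
  haveI : Fact (Nat.Prime 2) := ⟨Nat.prime_two⟩
  obtain ⟨d, hd⟩ := not_ti H.nti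
  obtain ⟨T, T', -, hT, -⟩ := hd.2
  obtain ⟨g, rfl⟩ := MulAction.exists_smul_eq G T S
  exact ⟨g * d * g⁻¹, hd.conj g, conj_mem_smul_sylow hT⟩

end HypB

end CfsgLib.CyclicInt
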