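import Cfsg.Agent.Lib.CyclicInt.CaseBFree

/-!
Case b: counting the involutions of the second type in a Sylow subgroup, and the contradiction.

Blueprint: `blueprint/bender/S3308.md`, case b.
-/

set_option autoImplicit false
set_option linter.unusedSectionVars false
set_option linter.style.haveILetI false

namespace CfsgLib.CyclicInt

open Subgroup MulAction
open scoped Pointwise

universe u

variable {G : Type u} [Group G]

/-- The square of the product of two elements. -/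
def br (a b : G) : G := a * b * (a * b)

theorem br_conj (g a b : G) : br (g * a * g⁻¹) (g * b * g⁻¹) = g * br a b * g⁻¹ := by
  unfold br; group

variable [Finite G] {S : Sylow 2 G} {a b z : G}

theorem br_swap (ha : Inv2 a) (hb : Inv2 b) (h : br a b ∈ ZS S) : b * a = a * b * br a b := by
  have hh : (br a b)⁻¹ = br a b := inv_eq_of_mul_eq_one_right h.2.1
  rw [← hh, br, mul_inv_rev, mul_inv_cancel_left, mul_inv_rev, ha.inv, hb.inv]

theorem br_symm (ha : Inv2 a) (haS : a ∈ (S : Subgroup G)) (h : br a b ∈ ZS S) : br b a = br a b := by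
  have hb : br b a = a * br a b * a := by
    rw [br, br]
    calc b * a * (b * a) = (a * a) * (b * a * (b * a)) := by rw [ha.2, one_mul]
      _ = a * (a * b * (a * b)) * a := by group
  rw [hb, h.2.2 a haS, mul_assoc, ha.2, mul_one]

theorem br_mul_right (haS : a ∈ (S : Subgroup G)) (hbS : b ∈ (S : Subgroup G)) (hz : z ∈ ZS S) :
    br a (b * z) = br a b := by
  have hc : Commute (a * b) z := hz.2.2 _ (mul_mem haS hbS)
  rw [br, br, ← mul_assoc a b z, ← pow_two, hc.mul_pow, pow_two, pow_two, hz.2.1, mul_one]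

theorem br_mul_left (haS : a ∈ (S : Subgroup G)) (hbS : b ∈ (S : Subgroup G)) (hz : z ∈ ZS S) :
    br (a * z) b = br a b := by
  rw [← br_mul_right haS hbS hz]
  unfold br
  rw [mul_assoc a z b, ← hz.2.2 b hbS]

variable [IsSimpleGroup G]

namespace HypB

variable (H : HypB G)
include H

/-- The size of the image of `C_S(d)` in the component, the same for all `d`. -/
theorem card_ys {d : G} (hd : Meet d) (hdS : d ∈ (S : Subgroup G)) :
    Nat.card {y : G // Meet y ∧ y ∈ (S : Subgroup G)} = 1 + fixCard d * (Nat.card (ZS S) - 1) := by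
  classical
  let J := Σ y : {y : G // Meet y ∧ y ∈ (S : Subgroup G)}, {k : Sylow 2 G // y.1 ∈ (k : Subgroup G) ∧ k ≠ S}
  let f : J → {k : Sylow 2 G // k ≠ S} := fun j => ⟨j.2.1, j.2.2.2⟩
  have hf : Function.Bijective f := by
    constructor
    · intro j j' e
      obtain ⟨⟨y, hy, hyS⟩, ⟨k, hk, hkS⟩⟩ := j
      obtain ⟨⟨y', hy', hyS'⟩, ⟨k', hk', hkS'⟩⟩ := j'
      obtain rfl : k = k' := congrArg Subtype.val e
      obtain rfl := H.pair_unique hkS hy.1 hy'.1 hk hk' hyS hyS'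
      rfl
    · rintro ⟨k, hk⟩
      obtain ⟨y, hy, hyk, hyS⟩ := H.no_free hk
      exact ⟨⟨⟨y, ⟨hy, k, S, hk, hyk, hyS⟩, hyS⟩, ⟨k, hyk, hk⟩⟩, rfl⟩
  haveI : Fintype (Sylow 2 G) := Fintype.ofFinite _
  haveI : Fintype G := Fintype.ofFinite G
  have hin : ∀ y : {y : G // Meet y ∧ y ∈ (S : Subgroup G)},
      Nat.card {k : Sylow 2 G // y.1 ∈ (k : Subgroup G) ∧ k ≠ S} = fixCard d - 1 := by
    rintro ⟨y, hy, hyS⟩
    rw [H.fixCard_const hd hy]
    simp only [fixCard, Nat.card_eq_fintype_card, Fintype.card_subtype]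
    rw [show (Finset.univ.filter fun k : Sylow 2 G => y ∈ (k : Subgroup G) ∧ k ≠ S) =
      (Finset.univ.filter fun k : Sylow 2 G => y ∈ (k : Subgroup G)).erase S by ext; simp [and_comm],
      Finset.card_erase_of_mem (by simp [hyS])]
  have h1 := Nat.card_congr (Equiv.ofBijective f hf)
  rw [show Nat.card J = _ from Nat.card_sigma, Finset.sum_congr rfl fun y _ => hin y, Finset.sum_const,
    Finset.card_univ, smul_eq_mul, ← Nat.card_eq_fintype_card, show Nat.card {k : Sylow 2 G // k ≠ S} =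
      Nat.card (Sylow 2 G) - 1 from by
      rw [Nat.card_eq_fintype_card, Nat.card_eq_fintype_card, Fintype.card_subtype_compl, Fintype.card_subtype_eq],
    H.card_points hd S] at h1
  have hA := H.two_le_fixCard hd
  refine mul_right_cancel₀ (show fixCard d - 1 ≠ 0 by omega) (h1.trans ?_)
  rw [Nat.add_mul, one_mul]
  omega

/-- `C_S(d)`. -/
abbrev cs (S : Sylow 2 G) (d : G) : Subgroup G := (S : Subgroup G) ⊓ ctr d

/-- The projection of `C_S(d)` into the component. -/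
noncomputable def proj {d : G} (hdS : d ∈ (S : Subgroup G)) (K : Comp ↥(ctr d) (self d)) : ↥(cs S d) →* K.L :=
  K.π.comp ((Subgroup.inclusion (inf_le_right : cs S d ≤ ctr d)).codRestrict K.G1
    fun s => K.sylow_le (centSylow H.noncomm H.ci hdS) ((mem_centSylow H.noncomm H.ci hdS).mpr s.2.1))

/-- The image of `C_S(d)`. -/
noncomputable abbrev pimg {d : G} (hdS : d ∈ (S : Subgroup G)) (K : Comp ↥(ctr d) (self d)) : Sylow 2 K.L :=
  K.img (centSylow H.noncomm H.ci hdS)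

variable {d : G} (hd : Meet d) (hdS : d ∈ (S : Subgroup G)) (K : Comp ↥(ctr d) (self d))
include hd

theorem proj_mem (x : ↥(cs S d)) : H.proj hdS K x ∈ (H.pimg hdS K : Subgroup K.L) :=
  K.mem_img.mpr ⟨⟨⟨(x : G), x.2.2⟩, K.sylow_le (centSylow H.noncomm H.ci hdS)
    ((mem_centSylow H.noncomm H.ci hdS).mpr x.2.1)⟩, (mem_centSylow H.noncomm H.ci hdS).mpr x.2.1, rfl⟩

theorem proj_surj {u : K.L} (hu : u ∈ (H.pimg hdS K : Subgroup K.L)) : ∃ x, H.proj hdS K x = u := by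
  obtain ⟨x, hx, rfl⟩ := K.mem_img.mp hu
  exact ⟨⟨((x : ↥(ctr d)) : G), (mem_centSylow H.noncomm H.ci hdS).mp hx, (x : ↥(ctr d)).2⟩, rfl⟩

theorem ker_mem {x : ↥(cs S d)} (h : H.proj hdS K x = 1) : (⟨(x : G), x.2.2⟩ : ↥(ctr d)) ∈ K.V :=
  K.two_ker _ h (two_of_mem (P := centSylow H.noncomm H.ci hdS) ((mem_centSylow H.noncomm H.ci hdS).mpr x.2.1))

theorem cs_central {x : ↥(cs S d)} (h : H.proj hdS K x = 1) {p : G} (hp : p ∈ cs S d) : p * x = x * p :=
  congrArg Subtype.val (Subgroup.mem_center_iff.mp (K.V_center (H.ker_mem hd hdS K h)) ⟨p, hp.2⟩)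

theorem ker_sq {x : ↥(cs S d)} (h : H.proj hdS K x = 1) (h2 : (x : G) * x = 1) : (x : G) = 1 ∨ (x : G) = d := by
  by_cases h1 : (x : G) = 1
  · exact Or.inl h1
  · haveI := K.V_cyclic
    exact Or.inr (congrArg Subtype.val (eq_of_inv_cyclic (B := K.V) (H.ker_mem hd hdS K h) K.d_mem
      ⟨fun e => h1 (congrArg Subtype.val e), Subtype.ext h2⟩
      ⟨fun e => hd.1.1 (congrArg Subtype.val e), Subtype.ext hd.1.2⟩))

omit hd in
theorem mem_cs_of_zs (hdS : d ∈ (S : Subgroup G)) {z : G} (hz : z ∈ ZS S) : z ∈ cs S d :=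
  ⟨hz.1, Subgroup.mem_centralizer_singleton_iff.mpr (hz.2.2 d hdS).symm⟩

theorem zs_eq_one {x : ↥(cs S d)} (hx : (x : G) ∈ ZS S) (h : H.proj hdS K x = 1) : (x : G) = 1 :=
  (H.ker_sq hd hdS K h hx.2.1).resolve_right fun e => H.dZ_ne_one hd hdS (e ▸ hx)

theorem ciL' : CI K.L := ((H.ci.subgroup (ctr d)).subgroup K.G1).of_surjective K.π K.surj

theorem proj_sq4 (x : ↥(cs S d)) : H.proj hdS K (x * x) * H.proj hdS K (x * x) = 1 := by
  rw [map_mul]
  exact ti_sq H.partB K.nonab (H.ciL' hd K) K.ti _ (H.proj_mem hd hdS K x)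

/-- The involutions of the image come from the central involutions. -/
theorem inv_img' {u : K.L} (hu : u ∈ (H.pimg hdS K : Subgroup K.L)) (h2 : u * u = 1) :
    ∃ x : ↥(cs S d), (x : G) ∈ ZS S ∧ H.proj hdS K x = u := by
  by_cases h1 : u = 1
  · exact ⟨1, one_mem (ZS S), h1.symm ▸ map_one _⟩
  obtain ⟨z0, -, hz0, -, -⟩ := exists_two_cen H.noncomm H.ci S
  set x0 : ↥(cs S d) := ⟨z0, H.mem_cs_of_zs hdS (cen_iff.mp hz0).1⟩
  have hx0 : Inv2 (H.proj hdS K x0) := by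
    refine ⟨fun e => hz0.1.1 (H.zs_eq_one hd hdS K (x := x0) (cen_iff.mp hz0).1 e), ?_⟩
    rw [← map_mul, show x0 * x0 = 1 from Subtype.ext hz0.1.2, map_one]
  obtain ⟨n, -, hnU, hn⟩ := ti_inv_trans H.partB K.nonab (H.ciL' hd K) K.ti _ hx0 (H.proj_mem hd hdS K x0)
    (show Inv2 u from ⟨h1, h2⟩) hu
  obtain ⟨g, rfl⟩ := K.surj n
  have hgP : ((g : ↥(ctr d)) • centSylow H.noncomm H.ci hdS : Sylow 2 ↥(ctr d)) = centSylow H.noncomm H.ci hdS :=
    K.img_inj (by rw [K.img_smul, hnU])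
  have hmem : ((g : ↥(ctr d)) : G) * z0 * ((g : ↥(ctr d)) : G)⁻¹ ∈ (S : Subgroup G) :=
    (Subgroup.mem_normalizer_iff.mp (smul_eq_iff_normalizer.mp hgP)
      ⟨z0, x0.2.2⟩).mp hz0.2.1
  set a := ((g : ↥(ctr d)) : G) * z0 * ((g : ↥(ctr d)) : G)⁻¹ with ha
  have hac : a ∈ ctr d := mul_mem (mul_mem (g : ↥(ctr d)).2 x0.2.2) (inv_mem (g : ↥(ctr d)).2)
  let xa : ↥(cs S d) := ⟨a, hmem, hac⟩
  have hau : H.proj hdS K xa = u := by
    rw [← hn]
    show K.π _ = K.π g * K.π _ * (K.π g)⁻¹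
    rw [← map_inv, ← map_mul, ← map_mul]
    exact congrArg K.π (Subtype.ext (Subtype.ext rfl))
  rcases H.coset_cases hd hdS hmem (by rw [ha, conj_mul, hz0.1.2, mul_one, mul_inv_cancel])
    (Subgroup.mem_centralizer_singleton_iff.mp hac) with h | h
  · exact ⟨xa, h, hau⟩
  · let xd : ↥(cs S d) := ⟨d, hdS, Subgroup.mem_centralizer_singleton_iff.mpr rfl⟩
    refine ⟨xd * xa, h, ?_⟩
    rw [map_mul, hau, show H.proj hdS K xd = 1 from K.V_ker _ K.d_mem, one_mul]

/-- `C_S(d)` decomposes modulo squares. -/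
theorem exists_split_sq {x : ↥(cs S d)} (h : H.proj hdS K x * H.proj hdS K x = 1) :
    ∃ v w : ↥(cs S d), H.proj hdS K v = 1 ∧ (w : G) ∈ ZS S ∧ x = v * w := by
  obtain ⟨w, hw, he⟩ := H.inv_img' hd hdS K (H.proj_mem hd hdS K x) h
  exact ⟨x * w⁻¹, w, by rw [map_mul, map_inv, he, mul_inv_cancel], hw, by rw [inv_mul_cancel_right]⟩

theorem ker_pow {v : ↥(cs S d)} (hv : H.proj hdS K v = 1) (h1 : (v : G) ≠ 1) : ∃ k : ℕ, (v : G) ^ k = d := by
  haveI : Fact (Nat.Prime 2) := ⟨Nat.prime_two⟩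
  obtain ⟨k, hk⟩ := two_of_mem v.2.1
  obtain ⟨j, -, hj⟩ := (Nat.dvd_prime_pow Nat.prime_two).mp (orderOf_dvd_of_pow_eq_one hk)
  have hj0 : j ≠ 0 := fun e => h1 (orderOf_eq_one_iff.mp (by rw [hj, e, pow_zero]))
  have hy : Inv2 ((v : G) ^ 2 ^ (j - 1)) := inv2_iff.mpr (by
    rw [orderOf_pow_of_dvd (pow_ne_zero _ two_ne_zero) (hj ▸ pow_dvd_pow 2 (by omega)), hj,
      Nat.pow_div (by omega) two_pos, show j - (j - 1) = 1 by omega, pow_one])
  exact ⟨_, (H.ker_sq hd hdS K (x := v ^ 2 ^ (j - 1)) (by rw [map_pow, hv, one_pow]) hy.2).resolve_left hy.1⟩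

theorem ker_flip {v : ↥(cs S d)} (hv : H.proj hdS K v = 1) {y : G} (hyd : y * d * y⁻¹ ≠ d)
    (h : y * v * y⁻¹ = v ∨ y * v * y⁻¹ = (v : G)⁻¹) : (v : G) = 1 := by
  by_contra h1
  obtain ⟨k, hk⟩ := H.ker_pow hd hdS K hv h1
  refine hyd ?_
  rw [← hk, ← conj_pow]
  rcases h with h | h
  · rw [h]
  · rw [h, inv_pow, hk, hd.1.inv]

theorem zs_le_img : Nat.card (ZS S) ≤ Nat.card (H.pimg hdS K : Subgroup K.L) := by
  let ι : ZS S →* ↥(cs S d) := Subgroup.inclusion fun z hz => H.mem_cs_of_zs hdS hz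
  refine Nat.card_le_card_of_injective
    (fun z => (⟨H.proj hdS K (ι z), H.proj_mem hd hdS K _⟩ : (H.pimg hdS K : Subgroup K.L))) fun a b h => ?_
  have h1 : H.proj hdS K (ι (a⁻¹ * b)) = 1 := by
    rw [map_mul ι, map_mul, map_inv ι, map_inv, show H.proj hdS K (ι a) = _ from congrArg Subtype.val h,
      inv_mul_cancel]
  have h2 : ((a⁻¹ * b : ZS S) : G) = 1 := H.zs_eq_one hd hdS K (x := ι (a⁻¹ * b)) (a⁻¹ * b).2 h1
  exact inv_mul_eq_one.mp (Subtype.ext h2)

theorem card_img_eq : Nat.card (H.pimg hdS K : Subgroup K.L) = fixCard d - 1 := by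
  rw [H.fixCard_eq hd K hdS, Nat.add_sub_cancel]

include hdS K in
/-- The key facts about the involutions `y` with `(dy)² = e`. -/
theorem fibre {e y y0 : G} (he : Cen S e) (hy : Inv2 y) (hyS : y ∈ (S : Subgroup G)) (hy0 : Inv2 y0)
    (hy0S : y0 ∈ (S : Subgroup G)) (hye : br d y = e) (hy0e : br d y0 = e) :
    ∃ p : ↥(cs S d), (p : G) = y * y0 ∧ y0 * p * y0⁻¹ = (p : G)⁻¹ ∧ (p : G) * p ∈ ZS S := by
  have hflip : ∀ w : G, Inv2 w → w ∈ (S : Subgroup G) → br d w = e → w * d * w⁻¹ = d * e := by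
    intro w hw hwS hwe
    rw [hw.inv, ← hwe, br, ← mul_assoc d, ← mul_assoc d, hd.1.2, one_mul, mul_assoc]
  have hyd := hflip y hy hyS hye
  have hy0d := hflip y0 hy0 hy0S hy0e
  have hmc : y * y0 ∈ ctr d := by
    rw [Subgroup.mem_centralizer_singleton_iff]
    refine mul_inv_eq_iff_eq_mul.mp ?_
    calc y * y0 * d * (y * y0)⁻¹ = y * (y0 * d * y0⁻¹) * y⁻¹ := by group
      _ = (y * d * y⁻¹) * (y * e * y⁻¹) := by rw [hy0d]; group
      _ = d := by
          rw [hyd, he.2.2 y hyS, mul_inv_cancel_right, mul_assoc, he.1.2, mul_one]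
  have hinv : y0 * (y * y0) * y0⁻¹ = (y * y0)⁻¹ := by
    rw [mul_inv_rev, hy.inv, mul_assoc, mul_inv_cancel_right, hy0.inv]
  let p : ↥(cs S d) := ⟨y * y0, mul_mem hyS hy0S, hmc⟩
  refine ⟨p, rfl, hinv, ?_⟩
  obtain ⟨v, w, hv, hw, hvw⟩ := H.exists_split_sq hd hdS K (x := p * p) (H.proj_sq4 hd hdS K p)
  have hvw' : (p : G) * p = v * w := congrArg Subtype.val hvw
  have hne : y0 * d * y0⁻¹ ≠ d := fun h => he.1.1 (mul_eq_left.mp (hy0d.symm.trans h))
  have hv1 : (v : G) = 1 := by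
    refine H.ker_flip hd hdS K hv hne (Or.inr ?_)
    have h1 : y0 * ((v : G) * w) * y0⁻¹ = ((v : G) * w)⁻¹ := by
      rw [← hvw', mul_inv_rev, ← conj_mul]
      show (y0 * (y * y0) * y0⁻¹) * (y0 * (y * y0) * y0⁻¹) = _
      rw [hinv]
    calc y0 * (v : G) * y0⁻¹ = y0 * (v * w) * y0⁻¹ * (y0 * w * y0⁻¹)⁻¹ := by group
      _ = ((v : G) * w)⁻¹ * (w : G)⁻¹ := by rw [h1, hw.2.2 y0 hy0S, mul_inv_cancel_right]
      _ = (v : G)⁻¹ := by
          rw [mul_inv_rev, ← (Commute.inv_inv (show Commute (v : G) w from hw.2.2 v v.2.1)).eq, mul_assoc,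
            ← mul_inv_rev, hw.2.1, inv_one, mul_one]
  rw [hvw', hv1, one_mul]
  exact hw

theorem fibre_map_inj {e y0 : G} (he : Cen S e) (hy0 : Inv2 y0) (hy0S : y0 ∈ (S : Subgroup G))
    (hy0e : br d y0 = e) :
    ∃ f : {y : G // (Meet y ∧ y ∈ (S : Subgroup G)) ∧ br d y = e} → (H.pimg hdS K : Subgroup K.L),
      Function.Injective f ∧ ∀ y, ∃ p : ↥(cs S d), (f y : K.L) = H.proj hdS K p ∧
        y0 * p * y0⁻¹ = (p : G)⁻¹ ∧ (p : G) * p ∈ ZS S := by
  have hp := fun y : {y : G // (Meet y ∧ y ∈ (S : Subgroup G)) ∧ br d y = e} =>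
    H.fibre hd hdS K he y.2.1.1.1 y.2.1.2 hy0 hy0S y.2.2 hy0e
  choose p hp1 hp2 hp3 using hp
  refine ⟨fun y => ⟨H.proj hdS K (p y), H.proj_mem hd hdS K _⟩, fun a b h => ?_, fun y => ⟨p y, rfl, hp2 y, hp3 y⟩⟩
  set v := (p a)⁻¹ * p b with hvdef
  have hv : H.proj hdS K v = 1 := by
    rw [hvdef, map_mul, map_inv, show H.proj hdS K (p a) = _ from congrArg Subtype.val h, inv_mul_cancel]
  have hb : (p b : G) = p a * v := by simp [hvdef]
  have hcv : Commute (p a : G) (v : G) := H.cs_central hd hdS K hv (p a).2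
  have hv2Z : (v : G) * v ∈ ZS S := by
    have h1 : (p b : G) * p b = (p a : G) * p a * ((v : G) * v) := by
      rw [hb, ← pow_two, hcv.mul_pow, pow_two, pow_two]
    have h2 := mul_mem (inv_mem (hp3 a)) (h1 ▸ hp3 b)
    rwa [inv_mul_cancel_left] at h2
  have hv2 : (v : G) * v = 1 := H.zs_eq_one hd hdS K (x := v * v) hv2Z (by rw [map_mul, hv, one_mul])
  have hv1 : (v : G) = 1 := by
    refine (H.ker_sq hd hdS K hv hv2).resolve_right fun hvd => ?_
    have h1 := hp2 b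
    rw [hb, hvd, conj_mul.symm, hp2 a, mul_inv_rev, hd.1.inv,
      show y0 * d * y0⁻¹ = d * e by
        rw [hy0.inv, ← hy0e, br, ← mul_assoc d, ← mul_assoc d, hd.1.2, one_mul, mul_assoc],
      ← mul_assoc] at h1
    have h2 : (p a : G)⁻¹ * d = d * (p a : G)⁻¹ :=
      Subgroup.mem_centralizer_singleton_iff.mp (inv_mem (p a).2.2)
    rw [h2] at h1
    exact he.1.1 (mul_eq_left.mp h1)
  rw [hv1, mul_one, hp1 b, hp1 a] at hb
  exact Subtype.ext (mul_right_cancel hb).symm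

omit hd in
theorem card_fibres (hdS : d ∈ (S : Subgroup G)) (hd : Meet d)
    (hall : ∀ y, Meet y → y ∈ (S : Subgroup G) → br d y ∈ ZS S) :
    Nat.card {y : G // Meet y ∧ y ∈ (S : Subgroup G)} =
      Nat.card (ZS S) + Nat.card (Σ e : {e : G // Cen S e}, {y : G // (Meet y ∧ y ∈ (S : Subgroup G)) ∧ br d y = e}) := by
  classical
  rw [← Nat.card_congr (Equiv.sumCompl fun y : {y : G // Meet y ∧ y ∈ (S : Subgroup G)} => br d y.1 = 1), Nat.card_sum]
  congr 1
  · refine (Nat.card_congr (Equiv.ofBijective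
      (fun z : ZS S => (⟨⟨d * z, H.meet_coset hd hdS z.2, mul_mem hdS z.2.1⟩, ?_⟩ :
        {y : {y : G // Meet y ∧ y ∈ (S : Subgroup G)} // br d y.1 = 1})) ⟨fun a b h => ?_, fun y => ?_⟩)).symm
    · show br d (d * z) = 1
      rw [br_mul_right hdS hdS z.2, br, hd.1.2, one_mul]
    · exact Subtype.ext (mul_left_cancel (congrArg (fun y : {y : {y : G // Meet y ∧ y ∈ (S : Subgroup G)} //
        br d y.1 = 1} => y.1.1) h))
    · obtain ⟨⟨y, hy, hyS⟩, hy1⟩ := y
      have hyd : y * d = d * y := by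
        have h1 := eq_inv_of_mul_eq_one_left (show d * y * (d * y) = 1 from hy1)
        rw [mul_inv_rev, hy.1.inv, hd.1.inv] at h1
        exact h1.symm
      rcases H.coset_cases hd hdS hyS hy.1.2 hyd with h | h
      · exact absurd h (H.dZ_ne_one hy hyS)
      · exact ⟨⟨d * y, h⟩, Subtype.ext (Subtype.ext (hd.1.mul_mul_self y))⟩
  · exact Nat.card_congr
      { toFun := fun y => ⟨⟨br d y.1.1, cen_iff.mpr ⟨hall _ y.1.2.1 y.1.2.2, y.2⟩⟩, ⟨y.1.1, y.1.2, rfl⟩⟩
        invFun := fun j => ⟨⟨j.2.1, j.2.2.1⟩, fun h => j.1.2.1.1 (j.2.2.2.symm.trans h)⟩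
        left_inv := fun y => rfl
        right_inv := fun ⟨⟨e, he⟩, ⟨y, hy, hye⟩⟩ => by
          have hye' : br d y = e := hye
          subst hye'
          rfl }

/-- When every `(dy)²` is central, each fibre has the size of the image. -/
theorem fibre_full (hall : ∀ y, Meet y → y ∈ (S : Subgroup G) → br d y ∈ ZS S) {e : G} (he : Cen S e) :
    Nat.card {y : G // (Meet y ∧ y ∈ (S : Subgroup G)) ∧ br d y = e} =
      Nat.card (H.pimg hdS K : Subgroup K.L) := by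
  classical
  haveI : Fintype G := Fintype.ofFinite G
  have hle : ∀ e : {e : G // Cen S e}, Nat.card {y : G // (Meet y ∧ y ∈ (S : Subgroup G)) ∧ br d y = e} ≤
      Nat.card (H.pimg hdS K : Subgroup K.L) := fun e => by
    rcases isEmpty_or_nonempty {y : G // (Meet y ∧ y ∈ (S : Subgroup G)) ∧ br d y = (e : G)} with h | ⟨⟨y0, h0, h0e⟩⟩
    · rw [Nat.card_of_isEmpty]; exact Nat.zero_le _
    · obtain ⟨f, hf, -⟩ := H.fibre_map_inj hd hdS K e.2 h0.1.1 h0.2 h0e
      exact Nat.card_le_card_of_injective f hf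
  have h1 := H.card_fibres hdS hd hall
  rw [H.card_ys hd hdS, Nat.card_sigma, H.fixCard_eq hd K hdS] at h1
  have hq : Nat.card {e : G // Cen S e} = Nat.card (ZS S) - 1 := by
    haveI : Fintype (ZS S) := Fintype.ofFinite _
    rw [Nat.card_congr (show {t : G // Cen S t} ≃ {z : ZS S // ¬ z = 1} from
      { toFun := fun t => ⟨⟨t.1, (cen_iff.mp t.2).1⟩, fun e => t.2.1.1 (congrArg Subtype.val e)⟩
        invFun := fun z => ⟨z.1.1, cen_iff.mpr ⟨z.1.2, fun e => z.2 (Subtype.ext e)⟩⟩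
        left_inv := fun _ => rfl
        right_inv := fun _ => rfl }), Nat.card_eq_fintype_card, Nat.card_eq_fintype_card, Fintype.card_subtype_compl,
      Fintype.card_subtype_eq]
  have h4 := (H.four_le_q S).1
  have hsum : (∑ e : {e : G // Cen S e}, Nat.card {y : G // (Meet y ∧ y ∈ (S : Subgroup G)) ∧ br d y = e}) =
      ∑ _e : {e : G // Cen S e}, Nat.card (H.pimg hdS K : Subgroup K.L) := by
    rw [Finset.sum_const, Finset.card_univ, smul_eq_mul, ← Nat.card_eq_fintype_card, hq,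
      mul_comm (Nat.card (ZS S) - 1)]
    rw [Nat.add_mul, one_mul] at h1
    dsimp only [pimg]
    omega
  exact (Finset.sum_eq_sum_iff_of_le fun e _ => hle e).mp hsum ⟨e, he⟩ (Finset.mem_univ _)

end HypB

end CfsgLib.CyclicInt
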