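import Cfsg.Agent.Lib.CyclicInt.CaseBBase

/-!
Any two Sylow 2-subgroups have a common involution.

Blueprint: `blueprint/bender/S3308.md`, case b, free pairs.
-/

set_option autoImplicit false
set_option linter.unusedSectionVars false
set_option linter.style.haveILetI false

namespace CfsgLib.CyclicInt

open Subgroup MulAction
open scoped Pointwise

universe u

variable {G : Type u} [Group G] [Finite G] [IsSimpleGroup G]

namespace HypB

variable (H : HypB G)
include H

theorem exists_fixed_coset {S : Sylow 2 G} {p : ℕ} [Fact p.Prime] (hpq : p ∣ Nat.card (ZS S) - 1) {P : Subgroup G}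
    (hP : IsPGroup p P) (hPN : P ≤ Subgroup.normalizer ((S : Subgroup G) : Set G)) {c : G}
    (hst : ∀ r ∈ P, c⁻¹ * (r * c * r⁻¹) ∈ ZS S) : ∃ z ∈ ZS S, ∀ r ∈ P, r * (c * z) * r⁻¹ = c * z := by
  classical
  let α := {z : G // z ∈ ZS S}
  letI : MulAction P α :=
    { smul := fun r z => ⟨c⁻¹ * ((r : G) * (c * z) * (r : G)⁻¹), by
        rw [show c⁻¹ * ((r : G) * (c * z) * (r : G)⁻¹) =
          c⁻¹ * ((r : G) * c * (r : G)⁻¹) * ((r : G) * z * (r : G)⁻¹) by group]
        exact mul_mem (hst r r.2) (ZS.conj z.2 (hPN r.2))⟩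
      one_smul := fun z => Subtype.ext (show c⁻¹ * (((1 : P) : G) * (c * z) * ((1 : P) : G)⁻¹) = z by simp)
      mul_smul := fun r r' z => Subtype.ext (show c⁻¹ * (((r * r' : P) : G) * (c * z) * ((r * r' : P) : G)⁻¹) =
        c⁻¹ * ((r : G) * (c * (c⁻¹ * ((r' : G) * (c * z) * (r' : G)⁻¹))) * (r : G)⁻¹) by simp [mul_assoc]) }
  have hmod := hP.card_modEq_card_fixedPoints α
  obtain ⟨z, hz⟩ : (fixedPoints P α).Nonempty := by
    by_contra hne
    rw [Set.not_nonempty_iff_eq_empty] at hne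
    rw [hne, Nat.card_coe_set_eq, Set.ncard_empty] at hmod
    have h1 : p ∣ Nat.card α := Nat.modEq_zero_iff_dvd.mp hmod
    have h2 : Nat.card α = Nat.card (ZS S) := rfl
    have h3 := (H.four_le_q S).1
    have h4 := Nat.dvd_sub (h2 ▸ h1) hpq
    rw [Nat.sub_sub_self (by omega)] at h4
    exact Nat.Prime.one_lt Fact.out |>.ne' (Nat.dvd_one.mp h4)
  refine ⟨z.1, z.2, fun r hr => ?_⟩
  have h : c⁻¹ * (r * (c * z.1) * r⁻¹) = z.1 := congrArg Subtype.val (hz ⟨r, hr⟩)
  calc r * (c * z.1) * r⁻¹ = c * (c⁻¹ * (r * (c * z.1) * r⁻¹)) := by group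
    _ = c * z.1 := by rw [h]

theorem meet_ne_cen {S : Sylow 2 G} {d w : G} (hd : Meet d) (hS : d ∈ (S : Subgroup G)) (hw : w ∈ ZS S) : d ≠ w :=
  fun e => H.dZ_ne_one hd hS (e ▸ hw)

/-- A `p`-group normalising `S` fixes an involution of the second type. -/
theorem exists_fixed_meet {S : Sylow 2 G} {p : ℕ} [Fact p.Prime] (hpq : p ∣ Nat.card (ZS S) - 1) {R : Subgroup G}
    (hR : IsPGroup p R) (hRN : R ≤ Subgroup.normalizer ((S : Subgroup G) : Set G)) :
    ∃ d, Meet d ∧ d ∈ (S : Subgroup G) ∧ ∀ r ∈ R, r * d * r⁻¹ = d := by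
  classical
  set N := Subgroup.normalizer ((S : Subgroup G) : Set G) with hN
  obtain ⟨d0, hd0, hd0S⟩ := H.exists_meet S
  let Hs : Subgroup G :=
    { carrier := {n | n ∈ N ∧ d0⁻¹ * (n * d0 * n⁻¹) ∈ ZS S}
      one_mem' := ⟨one_mem _, by simp⟩
      mul_mem' := fun {m n} hm hn => ⟨mul_mem hm.1 hn.1, by
        rw [show d0⁻¹ * (m * n * d0 * (m * n)⁻¹) =
          d0⁻¹ * (m * d0 * m⁻¹) * (m * (d0⁻¹ * (n * d0 * n⁻¹)) * m⁻¹) by group]
        exact mul_mem hm.2 (ZS.conj hn.2 hm.1)⟩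
      inv_mem' := fun {n} hn => ⟨inv_mem hn.1, by
        have := inv_mem (ZS.conj hn.2 (inv_mem hn.1))
        rwa [show (n⁻¹ * (d0⁻¹ * (n * d0 * n⁻¹)) * n⁻¹⁻¹)⁻¹ = d0⁻¹ * (n⁻¹ * d0 * n⁻¹⁻¹) by group] at this⟩ }
  obtain ⟨R0s⟩ : Nonempty (Sylow p Hs) := inferInstance
  set R0 := (R0s : Subgroup Hs).map Hs.subtype with hR0
  have hR0H : R0 ≤ Hs := Subgroup.map_subtype_le _
  have hR0p : IsPGroup p R0 := R0s.2.map _
  obtain ⟨z0, hz0, hfix⟩ := H.exists_fixed_coset hpq hR0p (fun r hr => (hR0H hr).1) (c := d0) (fun r hr => (hR0H hr).2)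
  set d' := d0 * z0 with hd'def
  have hd' : Meet d' := H.meet_coset hd0 hd0S hz0
  have hd'S : d' ∈ (S : Subgroup G) := mul_mem hd0S hz0.1
  -- `R0` fixes no central involution
  have hfree : ∀ e, Cen S e → ¬ ∀ r ∈ R0, r * e * r⁻¹ = e := by
    intro e he hall
    letI : MulAction Hs {z : G // Cen S z} :=
      { smul := fun n z => ⟨(n : G) * z * (n : G)⁻¹, z.2.conj n.2.1⟩
        one_smul := fun z => Subtype.ext (show ((1 : Hs) : G) * z * ((1 : Hs) : G)⁻¹ = z by simp)
        mul_smul := fun m n z => Subtype.ext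
          (show ((m * n : Hs) : G) * z * ((m * n : Hs) : G)⁻¹ = (m : G) * ((n : G) * z * (n : G)⁻¹) * (m : G)⁻¹ by
            simp [mul_assoc]) }
    have horb : orbit Hs (⟨e, he⟩ : {z : G // Cen S z}) = Set.univ := by
      ext ⟨z, hz⟩
      simp only [Set.mem_univ, iff_true]
      obtain ⟨n, hn, hnd, hne⟩ := H.trans_cd hd0 hd0S he hz
      exact ⟨⟨n, hn, by rw [hnd, mul_inv_cancel_right, inv_mul_cancel]; exact one_mem _⟩, Subtype.ext hne⟩
    have hidx : (stabilizer Hs (⟨e, he⟩ : {z : G // Cen S z})).index = Nat.card (ZS S) - 1 := by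
      rw [MulAction.index_stabilizer, horb, Set.ncard_univ]
      haveI : Fintype (ZS S) := Fintype.ofFinite _
      rw [Nat.card_congr (show {t : G // Cen S t} ≃ {z : ZS S // ¬ z = 1} from
        { toFun := fun t => ⟨⟨t.1, (cen_iff.mp t.2).1⟩, fun e => t.2.1.1 (congrArg Subtype.val e)⟩
          invFun := fun z => ⟨z.1.1, cen_iff.mpr ⟨z.1.2, fun e => z.2 (Subtype.ext e)⟩⟩
          left_inv := fun _ => rfl
          right_inv := fun _ => rfl }), Nat.card_eq_fintype_card, Nat.card_eq_fintype_card, Fintype.card_subtype_compl,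
        Fintype.card_subtype_eq]
    have hle : (R0s : Subgroup Hs) ≤ stabilizer Hs (⟨e, he⟩ : {z : G // Cen S z}) := fun r hr =>
      mem_stabilizer_iff.mpr (Subtype.ext (hall r ⟨r, hr, rfl⟩))
    exact R0s.not_dvd_index (hpq.trans (hidx ▸ Subgroup.index_dvd_of_le hle))
  -- `R0` is maximal in the normaliser
  have hmax : ∀ P : Subgroup G, IsPGroup p P → P ≤ N → R0 ≤ P → P = R0 := by
    intro P hP hPN hle
    by_contra hne
    haveI : Finite P := inferInstance
    haveI := hP.isNilpotent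
    have hlt : R0.subgroupOf P < ⊤ := lt_top_iff_ne_top.mpr fun h =>
      hne (le_antisymm (Subgroup.subgroupOf_eq_top.mp h) hle)
    obtain ⟨g, hgN, hgR⟩ := SetLike.exists_of_lt (Group.normalizerCondition_of_isNilpotent _ hlt)
    have hgconj : ∀ r ∈ R0, (g : G)⁻¹ * r * g ∈ R0 := fun r hr => by
      have := (Subgroup.mem_normalizer_iff.mp (inv_mem hgN) ⟨r, hle hr⟩).mp hr
      simpa [Subgroup.mem_subgroupOf] using this
    have hgH : (g : G) ∉ Hs := by
      intro hgH
      let Q : Subgroup Hs := (R0 ⊔ zpowers (g : G)).subgroupOf Hs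
      have hQle : R0 ⊔ zpowers (g : G) ≤ P := sup_le hle (zpowers_le.mpr g.2)
      have hQ : IsPGroup p Q := (hP.to_le hQle).comap_subtype
      have h1 : (R0s : Subgroup Hs) ≤ Q := fun r hr => Subgroup.mem_sup_left ⟨r, hr, rfl⟩
      have h2 := R0s.is_maximal' hQ h1
      have h3 : (⟨(g : G), hgH⟩ : Hs) ∈ Q := Subgroup.mem_sup_right (mem_zpowers _)
      rw [h2] at h3
      exact hgR ⟨_, h3, rfl⟩
    set d1 := (g : G) * d' * (g : G)⁻¹ with hd1
    have hgS := hPN g.2
    have hd1S : d1 ∈ (S : Subgroup G) := (Subgroup.mem_normalizer_iff.mp hgS d').mp hd'S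
    have hd1fix : ∀ r ∈ R0, r * d1 * r⁻¹ = d1 := fun r hr => by
      have h := hfix _ (hgconj r hr)
      calc r * d1 * r⁻¹ = g * (((g : G)⁻¹ * r * g) * d' * ((g : G)⁻¹ * r * g)⁻¹) * (g : G)⁻¹ := by rw [hd1]; group
        _ = d1 := by rw [h, hd1]
    have hd1cl : d'⁻¹ * d1 ∉ ZS S := by
      intro h
      refine hgH ⟨hgS, ?_⟩
      have hz0' := ZS.conj hz0 hgS
      rw [show d0⁻¹ * ((g : G) * d0 * (g : G)⁻¹) = z0 * (d'⁻¹ * d1) * ((g : G) * z0 * (g : G)⁻¹)⁻¹ by
        rw [hd1, hd'def]; group]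
      exact mul_mem (mul_mem hz0 h) (inv_mem hz0')
    have hd1m : Meet d1 := hd'.conj _
    have hnc : d1 * d' ≠ d' * d1 := fun hc => by
      rcases H.coset_cases hd' hd'S hd1S hd1m.1.2 hc with h | h
      · exact H.dZ_ne_one hd1m hd1S h
      · exact hd1cl (by rwa [hd'.1.inv])
    have he : Even (orderOf (d' * d1)) := by
      obtain ⟨k, hk⟩ := two_of_mem (mul_mem hd'S hd1S)
      obtain ⟨i, -, hi⟩ := (Nat.dvd_prime_pow Nat.prime_two).mp (orderOf_dvd_of_pow_eq_one hk)
      rcases i with _ | i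
      · exfalso
        have h1 := orderOf_eq_one_iff.mp (hi.trans (pow_zero 2))
        exact hnc (by rw [show d1 = d' by rw [← hd'.1.inv]; exact eq_inv_of_mul_eq_one_right h1])
      · rw [hi, pow_succ']; exact even_two_mul _
    obtain ⟨m, hw, hw', hw1⟩ := Inv2.central hd'.1 hd1m.1 he
    have hwS : (d' * d1) ^ m ∈ (S : Subgroup G) := pow_mem (mul_mem hd'S hd1S) m
    have hwZ : (d' * d1) ^ m ∈ ZS S := by
      rcases H.coset_cases hd' hd'S hwS hw.2 hw'.symm with h | h
      · exact h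
      · rcases H.coset_cases hd1m hd1S hwS hw.2 hw1.symm with h' | h'
        · exact h'
        · exfalso
          refine hd1cl ?_
          have := mul_mem h (inv_mem h')
          rw [mul_inv_rev, hd1m.1.inv, mul_assoc, mul_inv_cancel_left] at this
          rwa [hd'.1.inv]
    refine hfree _ (cen_iff.mpr ⟨hwZ, hw.1⟩) fun r hr => ?_
    rw [← conj_pow, show r * (d' * d1) * r⁻¹ = (r * d' * r⁻¹) * (r * d1 * r⁻¹) by group, hfix r hr, hd1fix r hr]
  -- a conjugate of `R0` contains `R`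
  have hR0N : R0 ≤ N := fun r hr => (hR0H hr).1
  let R0N : Sylow p N :=
    { toSubgroup := R0.subgroupOf N
      isPGroup' := hR0p.comap_subtype
      is_maximal' := fun {Q} hQ hle => by
        have h1 : R0 ≤ Q.map N.subtype := fun r hr => ⟨⟨r, hR0N hr⟩, hle hr, rfl⟩
        have h2 := hmax _ (hQ.map _) (Subgroup.map_subtype_le Q) h1
        refine le_antisymm (fun x hx => ?_) hle
        show (x : G) ∈ R0
        rw [← h2]
        exact ⟨x, hx, rfl⟩ }
  obtain ⟨P, hP⟩ := (hR.comap_subtype (K := N)).exists_le_sylow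
  obtain ⟨n, hn⟩ := MulAction.exists_smul_eq N P R0N
  refine ⟨(n : G)⁻¹ * d' * (n : G)⁻¹⁻¹, hd'.conj _,
    (Subgroup.mem_normalizer_iff.mp (inv_mem n.2) d').mp hd'S, fun r hr => ?_⟩
  have h1 : n * (⟨r, hRN hr⟩ : N) * n⁻¹ ∈ (R0N : Subgroup N) := by
    rw [← hn, Sylow.coe_subgroup_smul]
    exact ⟨_, hP hr, rfl⟩
  have h2 := hfix _ h1
  replace h2 : (n : G) * r * (n : G)⁻¹ * d' * ((n : G) * r * (n : G)⁻¹)⁻¹ = d' := h2
  calc r * ((n : G)⁻¹ * d' * (n : G)⁻¹⁻¹) * r⁻¹
      = (n : G)⁻¹ * ((n : G) * r * (n : G)⁻¹ * d' * ((n : G) * r * (n : G)⁻¹)⁻¹) * n := by group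
    _ = (n : G)⁻¹ * d' * (n : G)⁻¹⁻¹ := by rw [h2, inv_inv]

/-- An involution with odd product with another one moves it to the other's place. -/
theorem exists_swapper {h k : Sylow 2 G} {z z' : G} (hz : Cen h z) (hz' : Cen k z') (hne : h ≠ k) :
    ∃ j : ℕ, Inv2 (z * (z * z') ^ j) ∧ (z * z') ^ j * (z * z') ^ j = z * z' ∧
      (z * (z * z') ^ j) * z * (z * (z * z') ^ j)⁻¹ = z' := by
  obtain ⟨j, hj⟩ := CfsgLib.Involutions.exists_sqrt (H.odd_product hz hz' hne)
  have hrev : (z * z') ^ j * z = z * ((z * z') ^ j)⁻¹ := by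
    have := CfsgLib.Involutions.zpow_mul_eq hz.1.2 hz'.1.2 (j : ℤ)
    rwa [zpow_natCast, zpow_neg, zpow_natCast] at this
  have hzz : z * (z * z') = z' := hz.1.mul_mul_self z'
  set a := (z * z') ^ j
  have hsq : z * a * (z * a) = 1 := by
    rw [show z * a * (z * a) = z * (a * z) * a by group, hrev, ← mul_assoc, hz.1.2, one_mul, inv_mul_cancel]
  have hne1 : z * a ≠ 1 := fun e => by
    have : a = z := by rw [← hz.1.inv]; exact eq_inv_of_mul_eq_one_right e
    rw [this, hz.1.2] at hj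
    have : z = z' := by rw [← hz.1.inv]; exact (eq_inv_of_mul_eq_one_right hj.symm).symm
    exact hne (H.cen_centre (this ▸ hz) hz').symm
  refine ⟨j, ⟨hne1, hsq⟩, hj, ?_⟩
  rw [inv_eq_of_mul_eq_one_right hsq]
  calc z * a * z * (z * a) = z * a * (z * z) * a := by group
    _ = z * (a * a) := by rw [hz.1.2]; group
    _ = z' := by rw [hj, hzz]

/-- Any two Sylow subgroups share an involution. -/
theorem no_free {h k : Sylow 2 G} (hne : h ≠ k) : ∃ y, Inv2 y ∧ y ∈ (h : Subgroup G) ∧ y ∈ (k : Subgroup G) := by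
  classical
  by_contra hfree
  push Not at hfree
  haveI : Fact (Nat.Prime 2) := ⟨Nat.prime_two⟩
  set D : Subgroup G := stabilizer G h ⊓ stabilizer G k with hD
  have hDodd : Odd (Nat.card D) := by
    rw [← Nat.not_even_iff_odd]
    intro he
    obtain ⟨x, hx⟩ := exists_prime_orderOf_dvd_card' (G := D) 2 (even_iff_two_dvd.mp he)
    have hx' : Inv2 (x : G) := inv2_iff.mpr (by rw [Subgroup.orderOf_coe]; exact hx)
    exact hfree _ hx' ((smul_eq_self_iff hx'.two).mp (mem_stabilizer_iff.mp x.2.1))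
      ((smul_eq_self_iff hx'.two).mp (mem_stabilizer_iff.mp x.2.2))
  have hD2 : ∀ x ∈ D, x * x = 1 → x = 1 := fun x hx hx2 =>
    eq_one_of_two_odd' ⟨1, by rw [pow_one, pow_two, hx2]⟩ (hDodd.of_dvd_nat (Subgroup.orderOf_dvd_natCard D hx))
  have hback : ∀ t : G, Inv2 t → t • h = k → t • k = h := fun t ht e => by
    rw [← e, ← mul_smul, ht.2, one_smul]
  have hswapcen : ∀ t : G, Inv2 t → t • h = k → ∃ c, Cen c t := by
    intro t ht e
    refine H.cen_of_not_meet ht fun hm => ?_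
    by_cases hth : t ∈ (h : Subgroup G)
    · exact hne ((smul_eq_self_iff ht.two).mpr hth ▸ e)
    · obtain ⟨S, s, hS, hs, h1, h2⟩ := H.exists_swap hm hth
      exact hfree _ (H.meet_coset hm hS (cen_iff.mp hs).1).1 h1 (e ▸ h2)
  -- swappers
  let Sw := {t : G // Inv2 t ∧ t • h = k}
  let Zh := {z : G // Cen h z}
  let Zk := {z : G // Cen k z}
  have hsw : ∀ (z : Zh) (z' : Zk), ∃ t : Sw, (t : G) * z * (t : G)⁻¹ = z' := by
    rintro ⟨z, hz⟩ ⟨z', hz'⟩
    obtain ⟨j, hs, -, hconj⟩ := H.exists_swapper hz hz' hne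
    exact ⟨⟨_, hs, H.cen_centre hz' (by have := hz.smul (z * (z * z') ^ j); rwa [hconj] at this)⟩, hconj⟩
  have huniq : ∀ (z : Zh) (t u : Sw), (t : G) * z * (t : G)⁻¹ = u * z * (u : G)⁻¹ → t = u := by
    rintro ⟨z, hz⟩ ⟨t, ht, hth⟩ ⟨u, hu, huh⟩ (he : t * z * t⁻¹ = u * z * u⁻¹)
    have hz'k : Cen k (t * z * t⁻¹) := hth ▸ hz.smul t
    obtain ⟨j, hs, hj, hconj⟩ := H.exists_swapper hz hz'k hne
    have key : ∀ v : G, Inv2 v → v • h = k → v * z * v⁻¹ = t * z * t⁻¹ → v = z * (z * (t * z * t⁻¹)) ^ j := by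
      intro v hv hvh hvz
      set z' := t * z * t⁻¹
      set s := z * (z * z') ^ j with hs_def
      have hvz' : v * z' * v⁻¹ = z := by
        rw [← hvz, show v * (v * z * v⁻¹) * v⁻¹ = (v * v) * z * (v * v)⁻¹ by group, hv.2]; group
      have hrev : ((z * z') ^ j) * z = z * ((z * z') ^ j)⁻¹ := by
        have := CfsgLib.Involutions.zpow_mul_eq hz.1.2 hz'k.1.2 (j : ℤ)
        rwa [zpow_natCast, zpow_neg, zpow_natCast] at this
      have hva : v * (z * z') * v⁻¹ = (z * z')⁻¹ := by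
        rw [show v * (z * z') * v⁻¹ = (v * z * v⁻¹) * (v * z' * v⁻¹) by group, hvz, hvz', mul_inv_rev, hz.1.inv,
          hz'k.1.inv]
      have hvs : v * s * v⁻¹ = s := by
        have hva' : v * (z * z') ^ j * v⁻¹ = ((z * z') ^ j)⁻¹ := by rw [← conj_pow, hva, inv_pow]
        calc v * s * v⁻¹ = (v * z * v⁻¹) * (v * (z * z') ^ j * v⁻¹) := by rw [hs_def]; group
          _ = z' * ((z * z') ^ j)⁻¹ := by rw [hvz, hva']
          _ = z * (z * z') * ((z * z') ^ j)⁻¹ := by rw [hz.1.mul_mul_self]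
          _ = z * ((z * z') ^ j * (z * z') ^ j) * ((z * z') ^ j)⁻¹ := by rw [hj]
          _ = s := by rw [hs_def]; group
      have hsh : s • h = k := H.cen_centre hz'k (by have := hz.smul s; rwa [hconj] at this)
      have hsk : s • k = h := hback s hs hsh
      have h1 : v * s ∈ D := ⟨mem_stabilizer_iff.mpr (by rw [mul_smul, hsh, hback v hv hvh]),
        mem_stabilizer_iff.mpr (by rw [mul_smul, hsk, hvh])⟩
      have hc : v * s = s * v := mul_inv_eq_iff_eq_mul.mp hvs
      have h2 : v * s * (v * s) = 1 := by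
        rw [show v * s * (v * s) = v * (s * v) * s by group, ← hc, show v * (v * s) * s = (v * v) * (s * s) by group,
          hv.2, hs.2, one_mul]
      rw [eq_inv_of_mul_eq_one_left (hD2 _ h1 h2), hs.inv]
    exact Subtype.ext ((key t ht hth rfl).trans (key u hu huh he.symm).symm)
  have hcardSw : Nat.card Sw = Nat.card (ZS h) - 1 := by
    have hq : ∀ S : Sylow 2 G, Nat.card {z : G // Cen S z} = Nat.card (ZS S) - 1 := fun S => by
      haveI : Fintype (ZS S) := Fintype.ofFinite _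
      rw [Nat.card_congr (show {t : G // Cen S t} ≃ {z : ZS S // ¬ z = 1} from
        { toFun := fun t => ⟨⟨t.1, (cen_iff.mp t.2).1⟩, fun e => t.2.1.1 (congrArg Subtype.val e)⟩
          invFun := fun z => ⟨z.1.1, cen_iff.mpr ⟨z.1.2, fun e => z.2 (Subtype.ext e)⟩⟩
          left_inv := fun _ => rfl
          right_inv := fun _ => rfl }), Nat.card_eq_fintype_card, Nat.card_eq_fintype_card, Fintype.card_subtype_compl,
        Fintype.card_subtype_eq]
    let g : Zh × Sw → Zh × Zk := fun p =>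
      (p.1, ⟨(p.2 : G) * p.1 * (p.2 : G)⁻¹, by
        have := p.1.2.smul (p.2 : G)
        rwa [p.2.2.2] at this⟩)
    have hg : Function.Bijective g := by
      constructor
      · rintro ⟨z, t⟩ ⟨w, u⟩ e
        obtain rfl : z = w := congrArg Prod.fst e
        rw [huniq z t u (congrArg (fun p : Zh × Zk => (p.2 : G)) e)]
      · rintro ⟨z, z'⟩
        obtain ⟨t, ht⟩ := hsw z z'
        exact ⟨(z, t), Prod.ext rfl (Subtype.ext ht)⟩
    have h1 := Nat.card_congr (Equiv.ofBijective g hg)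
    rw [Nat.card_prod, Nat.card_prod] at h1
    have h2 : Nat.card Zh = Nat.card (ZS h) - 1 := hq h
    have h3 : Nat.card Zk = Nat.card (ZS h) - 1 := (hq k).trans (by rw [card_ZS_eq k h])
    rw [h2, h3] at h1
    exact mul_left_cancel₀ (by have := (H.four_le_q h).1; omega) h1
  have hconjSw : ∀ (n : G) (t : Sw), n ∈ D → Inv2 (n * t * n⁻¹) ∧ (n * t * n⁻¹) • h = k := fun n t hn => by
    refine ⟨t.2.1.conj n, ?_⟩
    rw [mul_smul, mul_smul, mem_stabilizer_iff.mp ((stabilizer G h).inv_mem hn.1), t.2.2, mem_stabilizer_iff.mp hn.2]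
  have htrans : ∀ t u : Sw, ∃ n ∈ D, n * t * n⁻¹ = (u : G) := by
    intro t u
    have h1 : (t : G) * u ∈ D := ⟨mem_stabilizer_iff.mpr (by rw [mul_smul, u.2.2, hback t t.2.1 t.2.2]),
      mem_stabilizer_iff.mpr (by rw [mul_smul, hback u u.2.1 u.2.2, t.2.2])⟩
    obtain ⟨m, hm⟩ := hDodd.of_dvd_nat (Subgroup.orderOf_dvd_natCard D h1)
    refine ⟨((t : G) * u) ^ (m : ℤ), zpow_mem h1 _, ?_⟩
    rw [CfsgLib.Involutions.zpow_mul_eq t.2.1.2 u.2.1.2, mul_assoc, ← zpow_neg, ← zpow_add,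
      show (-(m : ℤ) + -(m : ℤ)) = 1 + -((2 * m + 1 : ℕ) : ℤ) by push_cast; ring, zpow_add, zpow_one, zpow_neg,
      zpow_natCast, ← hm, pow_orderOf_eq_one, inv_one, mul_one, ← mul_assoc, t.2.1.2, one_mul]
  -- a prime dividing `q - 1`
  have hq4 := H.four_le_q h
  obtain ⟨p, hp, hpq⟩ := Nat.exists_prime_and_dvd (n := Nat.card (ZS h) - 1) (by omega)
  haveI : Fact p.Prime := ⟨hp⟩
  have hp2 : p ≠ 2 := by
    rintro rfl
    have := hq4.2
    omega
  haveI : Nonempty Sw := (Nat.card_pos_iff.mp (by rw [hcardSw]; omega)).1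
  obtain ⟨t⟩ : Nonempty Sw := inferInstance
  have ht := t.2.1
  have htD : ∀ x ∈ D, (t : G) * x * (t : G)⁻¹ ∈ D := fun x hx => by
    refine ⟨mem_stabilizer_iff.mpr ?_, mem_stabilizer_iff.mpr ?_⟩
    · rw [mul_smul, mul_smul, ht.inv, t.2.2, mem_stabilizer_iff.mp hx.2, hback t ht t.2.2]
    · rw [mul_smul, mul_smul, ht.inv, hback t ht t.2.2, mem_stabilizer_iff.mp hx.1, t.2.2]
  have htN : (t : G) ∈ Subgroup.normalizer (D : Set G) := by
    rw [Subgroup.mem_normalizer_iff]
    refine fun x => ⟨htD x, fun hx => ?_⟩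
    have := htD _ hx
    rwa [ht.inv, show (t : G) * (t * x * t) * t = (t * t) * x * (t * t) by group, ht.2, one_mul, mul_one] at this
  -- a Sylow `p`-subgroup of `D` normalised by `t`
  obtain ⟨R, htR, hRindex, hRp, hRD⟩ : ∃ R : Subgroup G, (t : G) ∈ Subgroup.normalizer (R : Set G) ∧
      ¬ p ∣ R.relIndex D ∧ IsPGroup p R ∧ R ≤ D := by
    let c : MulAut D := D.normalizerMonoidHom ⟨(t : G), htN⟩
    let act : Sylow p D → Sylow p D := fun P => P.mapSurjective (f := c.toMonoidHom) c.surjective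
    have hact : ∀ (P : Sylow p D) (x : D), x ∈ (act P : Subgroup D) ↔ c.symm x ∈ (P : Subgroup D) := fun P x => by
      constructor
      · rintro ⟨y, hy, rfl⟩
        show c.symm (c y) ∈ _
        rw [c.symm_apply_apply]
        exact hy
      · exact fun hx => ⟨c.symm x, hx, c.apply_symm_apply x⟩
    have hcc : ∀ x : D, c (c x) = x := fun x => Subtype.ext (by
      show (t : G) * ((t : G) * x * (t : G)⁻¹) * (t : G)⁻¹ = x
      rw [ht.inv, show (t : G) * (t * x * t) * t = (t * t) * x * (t * t) by group, ht.2, one_mul, mul_one])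
    have hinv : Function.Involutive act := fun P => Sylow.ext (SetLike.ext fun x => by
      rw [hact, hact, show c.symm (c.symm x) = x from c.injective (c.injective (by simp [hcc]))])
    haveI : Fintype (Sylow p D) := Fintype.ofFinite _
    have hodd : ¬ 2 ∣ Fintype.card (Sylow p D) := by
      rw [← Nat.card_eq_fintype_card]
      intro h2
      obtain ⟨P⟩ : Nonempty (Sylow p D) := inferInstance
      exact Nat.not_even_iff_odd.mpr hDodd (even_iff_two_dvd.mpr
        ((h2.trans (dvd_of_eq P.card_eq_index_normalizer)).trans (Subgroup.index_dvd_card _)))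
    obtain ⟨P, hP⟩ := Equiv.Perm.exists_fixed_point_of_prime (p := 2) (n := 1) hodd
      (σ := hinv.toPerm act) (by
        rw [pow_one, pow_two]
        ext P
        simp [hinv P])
    refine ⟨(P : Subgroup D).map D.subtype, ?_, ?_, P.2.map _, Subgroup.map_subtype_le _⟩
    · have hPeq : act P = P := hP
      have key : ∀ x, x ∈ (P : Subgroup D).map D.subtype → (t : G) * x * (t : G)⁻¹ ∈ (P : Subgroup D).map D.subtype := by
        rintro _ ⟨y, hy, rfl⟩
        exact ⟨c y, by rw [← hPeq]; exact ⟨y, hy, rfl⟩, rfl⟩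
      rw [Subgroup.mem_normalizer_iff]
      refine fun x => ⟨key x, fun hx => ?_⟩
      have := key _ hx
      rwa [ht.inv, show (t : G) * (t * x * t) * t = (t * t) * x * (t * t) by group, ht.2, one_mul, mul_one] at this
    · rw [Subgroup.relIndex, Subgroup.subgroupOf, Subgroup.comap_map_eq_self_of_injective D.subtype_injective]
      exact P.not_dvd_index
  have hRnc : ¬ ∀ r ∈ R, r * (t : G) = t * r := by
    intro hall
    letI : MulAction D Sw :=
      { smul := fun n u => ⟨(n : G) * u * (n : G)⁻¹, hconjSw n u n.2⟩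
        one_smul := fun u => Subtype.ext (show ((1 : D) : G) * u * ((1 : D) : G)⁻¹ = u by simp)
        mul_smul := fun m n u => Subtype.ext
          (show ((m * n : D) : G) * u * ((m * n : D) : G)⁻¹ = (m : G) * ((n : G) * u * (n : G)⁻¹) * (m : G)⁻¹ by
            simp [mul_assoc]) }
    have horb : orbit D t = Set.univ := by
      ext u
      simp only [Set.mem_univ, iff_true]
      obtain ⟨n, hn, e⟩ := htrans t u
      exact ⟨⟨n, hn⟩, Subtype.ext e⟩
    have hle : R.subgroupOf D ≤ stabilizer D t := fun r hr =>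
      mem_stabilizer_iff.mpr (Subtype.ext (show (r : G) * t * (r : G)⁻¹ = t by
        rw [hall r hr, mul_inv_cancel_right]))
    have h1 := Subgroup.index_dvd_of_le hle
    rw [MulAction.index_stabilizer, horb, Set.ncard_univ, hcardSw] at h1
    exact hRindex (hpq.trans h1)
  -- the fixed points of `R`
  let F := {x : Sylow 2 G // ∀ r ∈ R, r • x = x}
  have hRodd : ∀ x ∈ R, x * x = 1 → x = 1 := fun x hx => hD2 x (hRD hx)
  obtain ⟨c, hc⟩ := hswapcen t ht t.2.2
  have hcF : ¬ ∀ r ∈ R, r • c = c := by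
    intro hcR
    refine hRnc fun r hr => ?_
    have hrt : Cen c (r * t * r⁻¹) := by
      have := hc.smul r
      rwa [hcR r hr] at this
    have h1 : r * t * r⁻¹ * t ∈ R := by
      rw [show r * (t : G) * r⁻¹ * t = r * (t * r⁻¹ * (t : G)⁻¹) by rw [ht.inv]; group]
      exact mul_mem hr ((Subgroup.mem_normalizer_iff.mp htR _).mp (inv_mem hr))
    have h2 : r * t * r⁻¹ * t ∈ ZS c := mul_mem (cen_iff.mp hrt).1 (cen_iff.mp hc).1
    have h3 : r * t * r⁻¹ = t := by
      rw [eq_inv_of_mul_eq_one_left (hRodd _ h1 h2.2.1), ht.inv]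
    exact mul_inv_eq_iff_eq_mul.mp h3
  have hperm : ∀ x : G, x * x = 1 → x ∈ Subgroup.normalizer (R : Set G) →
      ∀ f : Sylow 2 G, (∀ r ∈ R, r • f = f) → ∀ r ∈ R, r • (x • f) = x • f := by
    intro x hx hxn f hf r hr
    have hm : x⁻¹ * r * x ∈ R := by
      have := (Subgroup.mem_normalizer_iff.mp (inv_mem hxn) r).mp hr
      rwa [inv_inv] at this
    calc r • x • f = x • (x⁻¹ * r * x) • f := by simp [← mul_smul, mul_assoc]
      _ = x • f := by rw [hf _ hm]
  have hparity : ∀ (x : G) (s : Sylow 2 G), Cen s x → x ∈ Subgroup.normalizer (R : Set G) →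
      ((∀ r ∈ R, r • s = s) ↔ Odd (Nat.card F)) := by
    intro x s hxs hxn
    have hinv : Function.Involutive fun f : F => (⟨x • f.1, hperm x hxs.1.2 hxn f.1 f.2⟩ : F) := fun f =>
      Subtype.ext (by show x • x • f.1 = f.1; rw [← mul_smul, hxs.1.2, one_smul])
    have hfixiff : ∀ f : F, x • f.1 = f.1 ↔ f.1 = s := fun f => by
      rw [smul_eq_self_iff hxs.1.two]
      exact ⟨fun hm => H.cen_unique hxs hm, fun e => e ▸ hxs.2.1⟩
    haveI : Fintype F := Fintype.ofFinite _
    have hσ : (hinv.toPerm _) ^ 2 ^ 1 = 1 := by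
      rw [pow_one, pow_two]
      exact Equiv.ext fun f => hinv f
    constructor
    · intro hsF
      rw [← Nat.not_even_iff_odd, Nat.card_eq_fintype_card, even_iff_two_dvd]
      intro h2
      have h1 : (hinv.toPerm _) ⟨s, hsF⟩ = (⟨s, hsF⟩ : F) := Subtype.ext ((hfixiff ⟨s, hsF⟩).mpr rfl)
      obtain ⟨b, hb, hbne⟩ := Equiv.Perm.exists_fixed_point_of_prime' h2 hσ h1
      exact hbne (Subtype.ext ((hfixiff b).mp (congrArg Subtype.val hb)))
    · intro hodd
      obtain ⟨b, hb⟩ := Equiv.Perm.exists_fixed_point_of_prime (p := 2) (n := 1) (σ := hinv.toPerm _) (by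
        rw [← Nat.card_eq_fintype_card, ← even_iff_two_dvd, Nat.not_even_iff_odd]; exact hodd) hσ
      exact (hfixiff b).mp (congrArg Subtype.val hb) ▸ b.2
  have hFeven : ¬ Odd (Nat.card F) := fun ho => hcF ((hparity t c hc htR).mpr ho)
  have hhF : ∀ r ∈ R, r • h = h := fun r hr => mem_stabilizer_iff.mp (hRD hr).1
  have hkF : ∀ r ∈ R, r • k = k := fun r hr => mem_stabilizer_iff.mp (hRD hr).2
  -- no involution of the first type centralises `R`
  have hnoZ : ∀ (x : G) (s : Sylow 2 G), Cen s x → (∀ r ∈ R, r * x = x * r) → False := by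
    intro x s hxs hxc
    refine hFeven ((hparity x s hxs ?_).mp fun r hr => ?_)
    · rw [Subgroup.mem_normalizer_iff]
      have key : ∀ w ∈ R, x * w * x⁻¹ = w := fun w hw => by rw [← hxc w hw, mul_inv_cancel_right]
      refine fun v => ⟨fun hv => by rw [key v hv]; exact hv, fun hv => ?_⟩
      have h2 := key _ hv
      rwa [← mul_left_cancel (mul_right_cancel h2)]
    · refine H.cen_centre hxs ?_
      have := hxs.smul r
      rwa [hxc r hr, mul_inv_cancel_right] at this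
  obtain ⟨d, hd, hdh, hdR⟩ := H.exists_fixed_meet (S := h) hpq hRp (fun r hr => smul_eq_iff_normalizer.mp (hhF r hr))
  have hdk : d ∉ (k : Subgroup G) := fun hk => hfree d hd.1 hdh hk
  obtain ⟨S, u, hS, hu, hyk, hydk⟩ := H.exists_swap hd hdk
  have hne' : k ≠ d • k := fun e => hdk ((smul_eq_self_iff hd.1.two).mp e.symm)
  have hy := H.meet_coset hd hS (cen_iff.mp hu).1
  refine hnoZ u S hu fun r hr => ?_
  have h1 : r * (d * u) * r⁻¹ ∈ (k : Subgroup G) := hkF r hr ▸ conj_mem_smul_sylow hyk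
  have h2 : r * (d * u) * r⁻¹ ∈ ((d • k : Sylow 2 G) : Subgroup G) := by
    have h3 := conj_mem_smul_sylow (g := r) hydk
    rwa [← mul_smul, mul_inv_eq_iff_eq_mul.mp (hdR r hr), mul_smul, hkF r hr] at h3
  have h3 := H.pair_unique hne' (hy.1.conj r) hy.1 h1 hyk h2 hydk
  have h4 : r * u * r⁻¹ = u := mul_left_cancel (a := d) (by
    calc d * (r * u * r⁻¹) = (r * d * r⁻¹) * (r * u * r⁻¹) := by rw [hdR r hr]
      _ = r * (d * u) * r⁻¹ := by group
      _ = d * u := h3)
  exact mul_inv_eq_iff_eq_mul.mp h4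

end HypB

end CfsgLib.CyclicInt
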