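import Cfsg.Agent.Lib.CyclicInt.RankTwo
import Cfsg.Agent.Lib.Components
import Cfsg.Agent.S3303
import Cfsg.Agent.S3306

/-!
The centraliser of an involution lying in two Sylow 2-subgroups: modulo the solvable radical it has a simple
normal subgroup of odd index with TI Sylow 2-subgroups.

Blueprint: `blueprint/bender/S3308.md`, 1b.
-/

set_option autoImplicit false
set_option linter.unusedSectionVars false
set_option linter.style.haveILetI false

namespace CfsgLib.CyclicInt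

open Subgroup MulAction
open scoped Pointwise

universe u

/-- An element of 2-power order. -/
def Two {G : Type u} [Group G] (x : G) : Prop := ∃ k : ℕ, x ^ 2 ^ k = 1

variable {X : Type u} [Group X]

theorem Two.conj {x : X} (h : Two x) (g : X) : Two (g * x * g⁻¹) := by
  obtain ⟨k, hk⟩ := h
  exact ⟨k, by rw [conj_pow, hk, mul_one, mul_inv_cancel]⟩

theorem Inv2.two {x : X} (h : Inv2 x) : Two x := ⟨1, by rw [pow_one, pow_two, h.2]⟩

theorem two_of_mem {P : Sylow 2 X} {x : X} (hx : x ∈ (P : Subgroup X)) : Two x := by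
  obtain ⟨k, hk⟩ := P.2 ⟨x, hx⟩
  exact ⟨k, congrArg Subtype.val hk⟩

theorem Two.isPGroup {x : X} (h : Two x) : IsPGroup 2 (zpowers x) := by
  obtain ⟨k, hk⟩ := h
  rintro ⟨y, m, rfl⟩
  refine ⟨k, Subtype.ext ?_⟩
  show (x ^ m) ^ 2 ^ k = 1
  rw [← zpow_natCast, ← zpow_mul, mul_comm, zpow_mul, zpow_natCast, hk, one_zpow]

theorem Two.map {x : X} (h : Two x) {L : Type*} [Group L] (f : X →* L) : ∃ k : ℕ, f x ^ 2 ^ k = 1 := by
  obtain ⟨k, hk⟩ := h
  exact ⟨k, by rw [← map_pow, hk, map_one]⟩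

variable [Finite X]

theorem Two.exists_sylow {x : X} (h : Two x) : ∃ P : Sylow 2 X, x ∈ (P : Subgroup X) := by
  obtain ⟨P, hP⟩ := h.isPGroup.exists_le_sylow
  exact ⟨P, hP (mem_zpowers x)⟩

theorem Two.mem_of_normalizer {x : X} (h : Two x) (P : Sylow 2 X)
    (hn : x ∈ Subgroup.normalizer ((P : Subgroup X) : Set X)) : x ∈ (P : Subgroup X) :=
  CfsgLib.AfterFT.CyclicIntersect.mem_of_mem_normalizer P h.isPGroup hn

theorem eq_one_of_two_odd' {x : X} (h : Two x) (hodd : Odd (orderOf x)) : x = 1 := by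
  obtain ⟨k, hk⟩ := h
  exact orderOf_eq_one_iff.mp (Nat.eq_one_of_dvd_coprimes (Nat.Coprime.pow_left k (Nat.coprime_two_left.mpr hodd))
    (orderOf_dvd_of_pow_eq_one hk) dvd_rfl)

theorem Two.mul {x y : X} (hx : Two x) (hy : Two y) (hc : Commute x y) : Two (x * y) := by
  obtain ⟨j, hj⟩ := hx
  obtain ⟨k, hk⟩ := hy
  refine ⟨j + k, ?_⟩
  rw [hc.mul_pow, show x ^ 2 ^ (j + k) = 1 by rw [pow_add, pow_mul, hj, one_pow],
    show y ^ 2 ^ (j + k) = 1 by rw [Nat.add_comm, pow_add, pow_mul, hk, one_pow], one_mul]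

theorem Two.inv {x : X} (hx : Two x) : Two x⁻¹ := by
  obtain ⟨k, hk⟩ := hx
  exact ⟨k, by rw [inv_pow, hk, inv_one]⟩

theorem Two.mem_of_odd_index {x : X} (hx : Two x) (G1 : Subgroup X) [G1.Normal] (h : Odd G1.index) : x ∈ G1 := by
  obtain ⟨k, hk⟩ := hx
  refine (QuotientGroup.eq_one_iff x).mp (eq_one_of_two_odd' ⟨k, ?_⟩ (h.of_dvd_nat ?_))
  · rw [← QuotientGroup.mk_pow, hk]; rfl
  · rw [Subgroup.index_eq_card]; exact orderOf_dvd_natCard _

/-- Splitting an element into its parts of 2-power and of odd order. -/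
theorem exists_split (g : X) : ∃ a b : X, a ∈ zpowers g ∧ b ∈ zpowers g ∧ Two a ∧ Odd (orderOf b) ∧ g = a * b := by
  obtain ⟨k, l, hl, he⟩ := Nat.exists_eq_two_pow_mul_odd (orderOf_pos g).ne'
  have hcop : Nat.Coprime (2 ^ k) l := Nat.Coprime.pow_left k (Nat.coprime_two_left.mpr hl)
  obtain ⟨A, B, hab⟩ : ∃ A B : ℤ, (1 : ℤ) = (2 ^ k : ℕ) * A + (l : ℕ) * B := by
    have := Nat.gcd_eq_gcd_ab (2 ^ k) l
    rw [hcop.gcd_eq_one] at this
    exact ⟨_, _, by exact_mod_cast this⟩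
  refine ⟨(g ^ l) ^ B, (g ^ 2 ^ k) ^ A, zpow_mem (pow_mem (mem_zpowers g) _) _,
    zpow_mem (pow_mem (mem_zpowers g) _) _, ⟨k, ?_⟩, ?_, ?_⟩
  · rw [← zpow_natCast, ← zpow_mul, mul_comm, zpow_mul, zpow_natCast, ← pow_mul, mul_comm l, ← he, pow_orderOf_eq_one,
      one_zpow]
  · refine hl.of_dvd_nat (orderOf_dvd_of_pow_eq_one ?_)
    rw [← zpow_natCast, ← zpow_mul, mul_comm, zpow_mul, zpow_natCast, ← pow_mul, ← he, pow_orderOf_eq_one, one_zpow]
  · rw [← zpow_natCast, ← zpow_natCast, ← zpow_mul, ← zpow_mul, ← zpow_add, add_comm, ← hab, zpow_one]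

/-- Non-TI with one class of involutions and elementary abelian Sylow 2-subgroups. -/
def Kind2 (L : Type u) [Group L] : Prop :=
  ¬ TI L ∧ (∀ x y : L, Inv2 x → Inv2 y → ∃ g, g * x * g⁻¹ = y) ∧
    ∀ S : Sylow 2 L, ∀ s ∈ (S : Subgroup L), s * s = 1

/-- A simple normal section of odd index over the solvable radical. -/
structure TopData (X : Type u) [Group X] where
  /-- The normal subgroup of odd index. -/
  G1 : Subgroup X
  normal : G1.Normal
  odd : Odd G1.index
  /-- The simple section. -/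
  L : Type u
  grp : Group L
  fin : Finite L
  simple : IsSimpleGroup L
  nonab : ¬ IsMulCommutative L
  /-- The projection. -/
  π : ↥G1 →* L
  surj : Function.Surjective π
  ker : ∀ g : ↥G1, π g = 1 ↔ (g : X) ∈ CfsgLib.solvableRadical X
  rad_le : CfsgLib.solvableRadical X ≤ G1
  kind : TI L ∨ Kind2 L

attribute [instance] TopData.normal TopData.grp TopData.fin TopData.simple

/-- The induction hypothesis. -/
def Below (n : ℕ) : Prop :=
  ∀ (Y : Type u) [Group Y] [Finite Y], CI Y → Nat.card Y < n → ¬ Group.IsSolvable Y → Nonempty (TopData Y)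

/-- The TI component of an involution centraliser. -/
structure Comp (X : Type u) [Group X] (d : X) where
  /-- The normal subgroup of odd index. -/
  G1 : Subgroup X
  normal : G1.Normal
  odd : Odd G1.index
  /-- The simple section. -/
  L : Type u
  grp : Group L
  fin : Finite L
  simple : IsSimpleGroup L
  nonab : ¬ IsMulCommutative L
  /-- The projection. -/
  π : ↥G1 →* L
  surj : Function.Surjective π
  ti : TI L
  /-- The 2-part of the radical. -/
  V : Subgroup X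
  V_center : V ≤ Subgroup.center X
  V_cyclic : IsCyclic V
  V_two : IsPGroup 2 V
  d_mem : d ∈ V
  V_le : V ≤ G1
  V_ker : ∀ v : ↥G1, (v : X) ∈ V → π v = 1
  two_ker : ∀ g : ↥G1, π g = 1 → Two (g : X) → (g : X) ∈ V
  ker_cen : ∀ g : ↥G1, π g = 1 → ∀ x : X, Two x → Commute (g : X) x

attribute [instance] Comp.normal Comp.grp Comp.fin Comp.simple

theorem commute_core (h : CI X) {P : Sylow 2 X} (h8 : Eight P) {w x : X} (hw : w ∈ Cfsg.oddCore X) (hx : Two x) :
    Commute w x := by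
  obtain ⟨Q, hQ⟩ := hx.exists_sylow
  obtain ⟨g, rfl⟩ := MulAction.exists_smul_eq X P Q
  rw [mem_smul_sylow] at hQ
  obtain ⟨a, b, c, ha, hb, hc, hab, hac, hbc, habc, haP, hbP, hcP, cab, cac, cbc⟩ := h8
  have hn : (Cfsg.oddCore X).Normal := inferInstance
  have hw' : g⁻¹ * w * g ∈ Cfsg.oddCore X := by
    have := hn.conj_mem w hw g⁻¹
    rwa [inv_inv] at this
  have := h.commute_of_eight CfsgLib.odd_card_oddCore le_rfl
    (by rw [Subgroup.normalizer_eq_top_iff.mpr hn]; exact le_top) ha hb hc hab hac hbc habc haP hbP hcP cab cac cbc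
    hw' hQ
  show w * x = x * w
  calc w * x = g * (g⁻¹ * w * g * (g⁻¹ * x * g)) * g⁻¹ := by group
    _ = g * (g⁻¹ * x * g * (g⁻¹ * w * g)) * g⁻¹ := by rw [this]
    _ = x * w := by group

theorem eq_one_core {v : X} (hv : Two v) (h : v ∈ Cfsg.oddCore X) : v = 1 :=
  eq_one_of_two_odd' hv (CfsgLib.odd_card_oddCore.of_dvd_nat (Subgroup.orderOf_dvd_natCard _ h))

/-- 2-elements congruent modulo the core are equal when the core centralises them. -/
theorem eq_of_mod_core (h : CI X) {P : Sylow 2 X} (h8 : Eight P) {x y : X} (hx : Two x) (hy : Two y)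
    (hxy : (QuotientGroup.mk x : X ⧸ Cfsg.oddCore X) = QuotientGroup.mk y) : x = y := by
  have ho := QuotientGroup.eq.mp hxy
  have hc : Commute (x⁻¹ * y) x := commute_core h h8 ho hx
  have hxy' : Commute x y := by
    have h2 := hc.symm.eq
    rw [← mul_assoc, mul_inv_cancel, one_mul, mul_assoc] at h2
    show x * y = y * x
    calc x * y = x * (x⁻¹ * (y * x)) := by rw [← h2]
      _ = y * x := by group
  exact inv_mul_eq_one.mp (eq_one_core (hx.inv.mul hy hxy'.inv_left) ho)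

/-- The component exists. -/
theorem exists_comp (h : CI X) (hT : ¬ Group.IsSolvable X → Nonempty (TopData X)) {d : X} (hd : Inv2 d)
    (hdc : d ∈ Subgroup.center X) {P : Sylow 2 X} (h8 : Eight P) (hn : ¬ (P : Subgroup X).Normal) :
    Nonempty (Comp X d) := by
  haveI : Fact (Nat.Prime 2) := ⟨Nat.prime_two⟩
  have hdP : ∀ Q : Sylow 2 X, d ∈ (Q : Subgroup X) := fun Q => hd.two.mem_of_normalizer Q (by
    rw [Subgroup.mem_normalizer_iff]
    intro v
    rw [← Subgroup.mem_center_iff.mp hdc v, mul_inv_cancel_right])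
  have hns : ¬ Group.IsSolvable X := fun hs => hn <| by
    obtain ⟨Pb, hPb⟩ := Cfsg.Agent.S3303.result hs h
    haveI := Sylow.unique_of_normal Pb hPb
    refine ⟨fun p hp g => ?_⟩
    let π := QuotientGroup.mk' (Cfsg.oddCore X)
    let P' : Sylow 2 (X ⧸ Cfsg.oddCore X) := P.mapSurjective (f := π) (QuotientGroup.mk'_surjective _)
    have h1 : π (g * p * g⁻¹) ∈ (P' : Subgroup (X ⧸ Cfsg.oddCore X)) := by
      rw [map_mul, map_mul, map_inv]
      rw [show P' = Pb from Subsingleton.elim _ _]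
      exact hPb.conj_mem _ (by rw [show Pb = P' from Subsingleton.elim _ _]; exact ⟨p, hp, rfl⟩) _
    obtain ⟨p', hp', e⟩ := h1
    rw [eq_of_mod_core h h8 ((two_of_mem hp).conj g) (two_of_mem hp') e.symm]
    exact hp'
  obtain ⟨T⟩ := hT hns
  set R := CfsgLib.solvableRadical X with hR
  obtain ⟨hcyc, hR2, hcen⟩ := Cfsg.Agent.S3306.result hns h R CfsgLib.isSolvable_solvableRadical
  have hTwoR : ∀ x ∈ R, Two x → x ∈ Subgroup.center X := fun x hx hx2 => Subgroup.mem_center_iff.mpr fun g => by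
    have h1 := Subgroup.mem_center_iff.mp (hcen ⟨x, hx, rfl⟩) (QuotientGroup.mk' _ g)
    rw [← map_mul, ← map_mul] at h1
    have h2 : (QuotientGroup.mk (g * x * g⁻¹) : X ⧸ Cfsg.oddCore X) = QuotientGroup.mk x := by
      show QuotientGroup.mk' _ (g * x * g⁻¹) = QuotientGroup.mk' _ x
      rw [map_mul, h1, map_mul, map_inv, mul_inv_cancel_right]
    exact mul_inv_eq_iff_eq_mul.mp (eq_of_mod_core h h8 (hx2.conj g) hx2 h2)
  have hoddR : ∀ b ∈ R, Odd (orderOf b) → b ∈ Cfsg.oddCore X := fun b hb hodd => by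
    refine (QuotientGroup.eq_one_iff b).mp (eq_one_of_two_odd' ?_ (hodd.of_dvd_nat (orderOf_map_dvd (QuotientGroup.mk' _) b)))
    obtain ⟨k, hk⟩ := hR2 ⟨QuotientGroup.mk' _ b, ⟨b, hb, rfl⟩⟩
    exact ⟨k, congrArg Subtype.val hk⟩
  set V : Subgroup X := R ⊓ (P : Subgroup X) with hV
  have hVtwo : ∀ x ∈ R, Two x → x ∈ V := fun x hx hx2 => ⟨hx, hx2.mem_of_normalizer P (by
    rw [Subgroup.mem_normalizer_iff]
    intro v
    rw [← Subgroup.mem_center_iff.mp (hTwoR x hx hx2) v, mul_inv_cancel_right])⟩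
  have hdR : d ∈ R := by
    haveI : (zpowers d).Normal := ⟨fun v hv g => by
      obtain ⟨i, rfl⟩ := hv
      rw [Subgroup.mem_center_iff.mp (zpow_mem hdc i) g, mul_inv_cancel_right]
      exact zpow_mem_zpowers d i⟩
    exact CfsgLib.le_solvableRadical (N := zpowers d) inferInstance (mem_zpowers d)
  have hVcyc : IsCyclic V := by
    let f : V →* ↥(R.map (QuotientGroup.mk' (Cfsg.oddCore X))) :=
      ((QuotientGroup.mk' (Cfsg.oddCore X)).comp V.subtype).codRestrict _ fun v => ⟨v, v.2.1, rfl⟩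
    exact isCyclic_of_injective f fun a b e =>
      Subtype.ext (eq_of_mod_core h h8 (two_of_mem a.2.2) (two_of_mem b.2.2) (congrArg Subtype.val e))
  have hker_cen : ∀ g : ↥T.G1, T.π g = 1 → ∀ x : X, Two x → Commute (g : X) x := by
    intro g hg x hx
    have hgR := (T.ker g).mp hg
    obtain ⟨a, b, ha, hb, ha2, hbo, e⟩ := exists_split (g : X)
    have haR : a ∈ R := (zpowers_le.mpr hgR) ha
    have hbR : b ∈ R := (zpowers_le.mpr hgR) hb
    rw [e]
    exact Commute.mul_left (Subgroup.mem_center_iff.mp (hTwoR a haR ha2) x).symm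
      (commute_core h h8 (hoddR b hbR hbo) hx)
  have hTI : TI T.L := by
    refine T.kind.resolve_right fun ⟨hnti, hone, _⟩ => ?_
    have hle : (P : Subgroup X) ≤ T.G1 := fun p hp => (two_of_mem hp).mem_of_odd_index T.G1 T.odd
    -- an involution of `P` outside `V`
    obtain ⟨x, hxP, hx, hxd⟩ : ∃ x ∈ (P : Subgroup X), Inv2 x ∧ x ≠ d := by
      obtain ⟨a, b, c, ha, hb, -, hab, -, -, -, haP, hbP, -⟩ := h8
      by_cases had : a = d
      · exact ⟨b, hbP, hb, had ▸ hab.symm⟩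
      · exact ⟨a, haP, ha, had⟩
    have hxV : x ∉ R := fun hxR => hxd (eq_of_inv_cyclic (B := V) ⟨hxR, hxP⟩ (hVtwo d hdR hd.two) hx hd)
    let x1 : ↥T.G1 := ⟨x, hle hxP⟩
    have hx1 : Inv2 (T.π x1) := by
      refine ⟨fun e => hxV ((T.ker x1).mp e), ?_⟩
      rw [← map_mul, show x1 * x1 = 1 from Subtype.ext hx.2, map_one]
    -- it lies in a second Sylow subgroup of `L`
    obtain ⟨U1, U2, e, he, he1, he2, hU⟩ :
        ∃ U1 U2 : Sylow 2 T.L, ∃ e, Inv2 e ∧ e ∈ (U1 : Subgroup T.L) ∧ e ∈ (U2 : Subgroup T.L) ∧ U1 ≠ U2 := by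
      by_contra hcon
      exact hnti fun U1 U2 e he h1 h2 => by_contra fun hU => hcon ⟨U1, U2, e, he, h1, h2, hU⟩
    obtain ⟨l, hl⟩ := hone e (T.π x1) he hx1
    let P0 : Sylow 2 T.L := (P.subtype hle).mapSurjective (f := T.π) T.surj
    obtain ⟨U, hUx, hU0⟩ : ∃ U : Sylow 2 T.L, T.π x1 ∈ (U : Subgroup T.L) ∧ U ≠ P0 := by
      by_cases h1 : l • U1 = P0
      · exact ⟨l • U2, hl ▸ conj_mem_smul_sylow he2, fun h2 => hU (smul_left_cancel l (h1.trans h2.symm))⟩
      · exact ⟨l • U1, hl ▸ conj_mem_smul_sylow he1, h1⟩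
    obtain ⟨m, hm⟩ := MulAction.exists_smul_eq T.L P0 U
    obtain ⟨g, rfl⟩ := T.surj m
    refine hU0 ?_
    have hxg : x ∈ (((g : X) • P : Sylow 2 X) : Subgroup X) := by
      refine hx.two.mem_of_normalizer _ ?_
      rw [← hm, mem_smul_sylow] at hUx
      obtain ⟨p, hp, hpe⟩ := hUx
      have hkp : T.π (p⁻¹ * (g⁻¹ * x1 * g)) = 1 := by
        rw [map_mul, map_inv, hpe, map_mul, map_mul, map_inv, inv_mul_cancel]
      set r := p⁻¹ * (g⁻¹ * x1 * g) with hr
      have hxe : x = (g : X) * ((p : X) * r) * (g : X)⁻¹ := by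
        rw [hr]
        simp [x1, mul_assoc]
      rw [← smul_eq_iff_normalizer]
      refine Sylow.ext (SetLike.ext fun v => ?_)
      rw [mem_smul_sylow, mem_smul_sylow, mem_smul_sylow, hxe]
      set v' := (g : X)⁻¹ * v * g with hv'
      rw [show (g : X)⁻¹ * (((g : X) * ((p : X) * r) * (g : X)⁻¹)⁻¹ * v * ((g : X) * ((p : X) * r) * (g : X)⁻¹)) * g
        = (r : X)⁻¹ * ((p : X)⁻¹ * v' * p) * r by rw [hv']; group]
      have hpP : (p : X) ∈ (P : Subgroup X) := hp
      constructor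
      · intro hv
        have hc : Commute (r : X) ((r : X)⁻¹ * ((p : X)⁻¹ * v' * p) * r) := hker_cen r hkp _ (two_of_mem hv)
        have e1 : (r : X)⁻¹ * ((p : X)⁻¹ * v' * p) * r = (p : X)⁻¹ * v' * p := by
          have h2 := hc.eq
          calc (r : X)⁻¹ * ((p : X)⁻¹ * v' * p) * r
              = (r : X) * ((r : X)⁻¹ * ((p : X)⁻¹ * v' * p) * r) * (r : X)⁻¹ := by rw [h2, mul_inv_cancel_right]
            _ = (p : X)⁻¹ * v' * p := by group
        rw [e1] at hv
        have := mul_mem (mul_mem hpP hv) (inv_mem hpP)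
        simpa [mul_assoc] using this
      · intro hv
        have h3 : (p : X)⁻¹ * v' * p ∈ (P : Subgroup X) := mul_mem (mul_mem (inv_mem hpP) hv) hpP
        have h4 := (hker_cen r hkp _ (two_of_mem h3)).eq
        rw [mul_assoc, ← h4, ← mul_assoc, inv_mul_cancel, one_mul]
        exact h3
    have hPg : P = (g : X) • P := h.eq_of_two hx hd hxd hxP (hdP P) hxg (hdP _)
    rw [← hm]
    refine Sylow.ext (SetLike.ext fun v => ?_)
    rw [mem_smul_sylow]
    have hmem : ∀ q : ↥T.G1, (q : X) ∈ (P : Subgroup X) ↔ (g : X)⁻¹ * q * g ∈ (P : Subgroup X) := fun q => by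
      conv_lhs => rw [hPg]
      exact mem_smul_sylow
    constructor
    · rintro ⟨q, hq, e⟩
      refine ⟨g * q * g⁻¹, ?_, ?_⟩
      · refine (hmem (g * q * g⁻¹)).mpr ?_
        have hq' : (q : X) ∈ (P : Subgroup X) := hq
        simpa [mul_assoc] using hq'
      · rw [map_mul, map_mul, map_inv, e]; group
    · rintro ⟨q, hq, rfl⟩
      refine ⟨g⁻¹ * q * g, ?_, by simp⟩
      exact (hmem q).mp hq
  exact ⟨{ G1 := T.G1, normal := T.normal, odd := T.odd, L := T.L, grp := T.grp, fin := T.fin, simple := T.simple,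
           nonab := T.nonab, π := T.π, surj := T.surj, ti := hTI, V := V,
           V_center := fun v hv => hTwoR v hv.1 (two_of_mem hv.2), V_cyclic := hVcyc,
           V_two := P.2.to_le inf_le_right, d_mem := hVtwo d hdR hd.two,
           V_le := fun v hv => T.rad_le hv.1, V_ker := fun v hv => (T.ker v).mpr hv.1,
           two_ker := fun g hg h2 => hVtwo g ((T.ker g).mp hg) h2, ker_cen := hker_cen }⟩

namespace Comp

variable {d : X} (K : Comp X d)

theorem two_mem {x : X} (h : Two x) : x ∈ K.G1 := h.mem_of_odd_index K.G1 K.odd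

theorem sylow_le (P : Sylow 2 X) : (P : Subgroup X) ≤ K.G1 := fun _ hp => K.two_mem (two_of_mem hp)

/-- The image of a Sylow subgroup. -/
noncomputable def img (P : Sylow 2 X) : Sylow 2 K.L :=
  haveI : Fact (Nat.Prime 2) := ⟨Nat.prime_two⟩
  (P.subtype (K.sylow_le P)).mapSurjective (f := K.π) K.surj

theorem mem_img {P : Sylow 2 X} {l : K.L} :
    l ∈ (K.img P : Subgroup K.L) ↔ ∃ x : ↥K.G1, (x : X) ∈ (P : Subgroup X) ∧ K.π x = l :=
  Iff.rfl

theorem mem_of_img {P : Sylow 2 X} {x : ↥K.G1} (hx : Two (x : X)) (h : K.π x ∈ (K.img P : Subgroup K.L)) :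
    (x : X) ∈ (P : Subgroup X) := by
  obtain ⟨p, hp, e⟩ := K.mem_img.mp h
  refine hx.mem_of_normalizer P ?_
  have hr : K.π (p⁻¹ * x) = 1 := by rw [map_mul, map_inv, e, inv_mul_cancel]
  have hx' : (x : X) = (p : X) * ((p⁻¹ * x : ↥K.G1) : X) := by simp
  rw [hx']
  refine mul_mem (Subgroup.le_normalizer hp) ?_
  rw [Subgroup.mem_normalizer_iff]
  intro v
  set r := ((p⁻¹ * x : ↥K.G1) : X)
  constructor
  · intro hv
    rwa [(K.ker_cen _ hr _ (two_of_mem hv)).eq, mul_inv_cancel_right]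
  · intro hv
    have h2 := (K.ker_cen _ hr _ (two_of_mem hv)).eq
    have h3 : r * (r * v * r⁻¹) * r⁻¹ = r * v * r⁻¹ := by rw [h2, mul_inv_cancel_right]
    rwa [mul_left_cancel (mul_right_cancel h3)] at hv

theorem img_inj {P Q : Sylow 2 X} (h : K.img P = K.img Q) : P = Q := by
  have key : ∀ A B : Sylow 2 X, K.img A = K.img B → (A : Subgroup X) ≤ B := fun A B e p hp => by
    refine K.mem_of_img (x := ⟨p, K.sylow_le A hp⟩) (two_of_mem hp) ?_
    rw [← e]
    exact K.mem_img.mpr ⟨_, hp, rfl⟩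
  exact Sylow.ext (le_antisymm (key P Q h) (key Q P h.symm))

theorem img_smul (g : ↥K.G1) (P : Sylow 2 X) : K.img ((g : X) • P) = K.π g • K.img P := by
  refine Sylow.ext (SetLike.ext fun l => ?_)
  rw [mem_smul_sylow, K.mem_img, K.mem_img]
  constructor
  · rintro ⟨x, hx, rfl⟩
    exact ⟨g⁻¹ * x * g, mem_smul_sylow.mp hx, by simp⟩
  · rintro ⟨x, hx, e⟩
    refine ⟨g * x * g⁻¹, conj_mem_smul_sylow hx, ?_⟩
    rw [map_mul, map_mul, map_inv, e]
    group

theorem img_surj (U : Sylow 2 K.L) : ∃ P : Sylow 2 X, K.img P = U := by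
  haveI : Fact (Nat.Prime 2) := ⟨Nat.prime_two⟩
  obtain ⟨P⟩ : Nonempty (Sylow 2 X) := inferInstance
  obtain ⟨l, hl⟩ := MulAction.exists_smul_eq K.L (K.img P) U
  obtain ⟨g, rfl⟩ := K.surj l
  exact ⟨(g : X) • P, (K.img_smul g P).trans hl⟩

/-- A 2-element outside the kernel lies in only one Sylow subgroup. -/
theorem eq_of_mem {P Q : Sylow 2 X} {x : ↥K.G1} (hne : K.π x ≠ 1) (hP : (x : X) ∈ (P : Subgroup X))
    (hQ : (x : X) ∈ (Q : Subgroup X)) : P = Q := by
  haveI : Fact (Nat.Prime 2) := ⟨Nat.prime_two⟩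
  obtain ⟨j, hj⟩ := two_of_mem hP
  have hd : orderOf (K.π x) ∣ 2 ^ j := orderOf_dvd_of_pow_eq_one (by
    rw [← map_pow, show x ^ 2 ^ j = 1 from Subtype.ext (by simpa using hj), map_one])
  obtain ⟨i, -, hi⟩ := (Nat.dvd_prime_pow Nat.prime_two).mp hd
  have hi0 : i ≠ 0 := fun e => hne (orderOf_eq_one_iff.mp (by rw [hi, e, pow_zero]))
  have hinv : Inv2 (K.π x ^ 2 ^ (i - 1)) := inv2_iff.mpr (by
    rw [orderOf_pow_of_dvd (pow_ne_zero _ two_ne_zero) (hi ▸ pow_dvd_pow 2 (by omega)), hi,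
      Nat.pow_div (by omega) two_pos, show i - (i - 1) = 1 by omega, pow_one])
  exact K.img_inj (K.ti (K.img P) (K.img Q) _ hinv (pow_mem (K.mem_img.mpr ⟨x, hP, rfl⟩) _)
    (pow_mem (K.mem_img.mpr ⟨x, hQ, rfl⟩) _))

end Comp

end CfsgLib.CyclicInt
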