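import Cfsg.Agent.Lib.CyclicInt.Defs
import Cfsg.Agent.Lib.ZStar.Main

/-!
Fusion in simple groups with cyclic intersections of Sylow 2-subgroups: it is controlled by the
Sylow normaliser.

Blueprint: `blueprint/bender/S3308.md`, section 0.
-/

set_option autoImplicit false
set_option linter.unusedSectionVars false
set_option linter.style.haveILetI false

namespace CfsgLib.CyclicInt

open Subgroup
open scoped Pointwise commutatorElement

universe u

variable {G : Type u} [Group G] [Finite G]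

/-- An involution of `S` centralising `S`. -/
def Cen (S : Sylow 2 G) (z : G) : Prop :=
  Inv2 z ∧ z ∈ (S : Subgroup G) ∧ ∀ s ∈ (S : Subgroup G), s * z = z * s

theorem Cen.conj {S : Sylow 2 G} {z n : G} (h : Cen S z)
    (hn : n ∈ Subgroup.normalizer ((S : Subgroup G) : Set G)) : Cen S (n * z * n⁻¹) := by
  refine ⟨h.1.conj n, (Subgroup.mem_normalizer_iff.mp hn z).mp h.2.1, fun s hs => ?_⟩
  have hs' := (Subgroup.mem_normalizer_iff.mp (inv_mem hn) s).mp hs
  rw [inv_inv] at hs'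
  have := congrArg (fun v => n * v * n⁻¹) (h.2.2 _ hs')
  simpa [mul_assoc] using this

theorem isPGroup_inf_left {S : Sylow 2 G} (H : Subgroup G) : IsPGroup 2 ↥((S : Subgroup G) ⊓ H) :=
  S.2.to_le inf_le_left

theorem CI.le_sylow (h : CI G) {S : Sylow 2 G} {x y : G} (hx : Inv2 x) (hy : Inv2 y) (hne : x ≠ y)
    (hxS : x ∈ (S : Subgroup G)) (hyS : y ∈ (S : Subgroup G)) {Q : Subgroup G} (hQ : IsPGroup 2 Q)
    (hxQ : x ∈ Q) (hyQ : y ∈ Q) : Q ≤ (S : Subgroup G) := by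
  obtain ⟨T, hT⟩ := hQ.exists_le_sylow
  rw [h.eq_of_two hx hy hne hxS hyS (hT hxQ) (hT hyQ)]
  exact hT

/-- Fusion of elements of `S` is controlled by the normaliser of `S`. -/
theorem CI.fusion (h : CI G) {S : Sylow 2 G} {z z' : G} (hz : Cen S z) (hz' : Cen S z') (hne : z ≠ z')
    {x g : G} (hx : x ∈ (S : Subgroup G)) (hgx : g * x * g⁻¹ ∈ (S : Subgroup G)) :
    ∃ n ∈ Subgroup.normalizer ((S : Subgroup G) : Set G), n * x * n⁻¹ = g * x * g⁻¹ := by
  haveI : Fact (Nat.Prime 2) := ⟨Nat.prime_two⟩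
  set y := g * x * g⁻¹ with hy
  set H : Subgroup G := Subgroup.centralizer {y}
  set A : Subgroup G := ((S : Subgroup G) ⊓ Subgroup.centralizer {x}).map (MulAut.conj g).toMonoidHom
  set B : Subgroup G := (S : Subgroup G) ⊓ H
  have hA2 : IsPGroup 2 A := (isPGroup_inf_left _).map _
  have hB2 : IsPGroup 2 B := isPGroup_inf_left _
  have hAH : A ≤ H := by
    rintro _ ⟨a, ⟨-, ha'⟩, rfl⟩
    have ha : a * x = x * a := Subgroup.mem_centralizer_singleton_iff.mp ha'
    rw [Subgroup.mem_centralizer_singleton_iff]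
    show g * a * g⁻¹ * (g * x * g⁻¹) = g * x * g⁻¹ * (g * a * g⁻¹)
    rw [conj_mul, conj_mul, ha]
  obtain ⟨P, hP⟩ := (hA2.comap_subtype (K := H)).exists_le_sylow
  obtain ⟨R, hR⟩ := (hB2.comap_subtype (K := H)).exists_le_sylow
  obtain ⟨c, hc⟩ := MulAction.exists_smul_eq H P R
  have hmemB : ∀ v : G, Cen S v → v ∈ B := fun v hv =>
    ⟨hv.2.1, Subgroup.mem_centralizer_singleton_iff.mpr (hv.2.2 y hgx).symm⟩
  have hRS : (R : Subgroup H).map H.subtype ≤ (S : Subgroup G) := by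
    refine h.le_sylow hz.1 hz'.1 hne hz.2.1 hz'.2.1 (R.isPGroup'.map _) ?_ ?_
    · exact ⟨⟨z, (hmemB z hz).2⟩, hR (hmemB z hz), rfl⟩
    · exact ⟨⟨z', (hmemB z' hz').2⟩, hR (hmemB z' hz'), rfl⟩
  have hkey : ∀ v : G, Cen S v → ((c : G) * g) * v * ((c : G) * g)⁻¹ ∈ (S : Subgroup G) := by
    intro v hv
    have hvA : g * v * g⁻¹ ∈ A :=
      ⟨v, ⟨hv.2.1, Subgroup.mem_centralizer_singleton_iff.mpr (hv.2.2 x hx).symm⟩, rfl⟩
    have h1 : (⟨g * v * g⁻¹, hAH hvA⟩ : H) ∈ (P : Subgroup H) := hP hvA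
    have h2 : c * (⟨g * v * g⁻¹, hAH hvA⟩ : H) * c⁻¹ ∈ (R : Subgroup H) := by
      rw [← hc, Sylow.coe_subgroup_smul]
      exact ⟨_, h1, rfl⟩
    have h3 := hRS ⟨_, h2, rfl⟩
    simpa [mul_assoc] using h3
  refine ⟨(c : G) * g, h.normalizes hz.1 hz'.1 hne hz.2.1 hz'.2.1 (hkey z hz) (hkey z' hz'), ?_⟩
  have hcy : (c : G) * y = y * c := Subgroup.mem_centralizer_singleton_iff.mp c.2
  calc (c : G) * g * x * ((c : G) * g)⁻¹ = (c : G) * y * (c : G)⁻¹ := by rw [hy]; group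
    _ = y := by rw [hcy, mul_inv_cancel_right]

/-- A central involution fused inside `S` is fused by the normaliser. -/
theorem CI.fusion_central (h : CI G) {S : Sylow 2 G} {z g : G} (hz : Cen S z)
    (hgz : g * z * g⁻¹ ∈ (S : Subgroup G)) (hne : g * z * g⁻¹ ≠ z) : Cen S (g * z * g⁻¹) := by
  haveI : Fact (Nat.Prime 2) := ⟨Nat.prime_two⟩
  set x := g * z * g⁻¹ with hx
  obtain ⟨-, -, h2⟩ := four_group hz.1 (hz.1.conj g) (Ne.symm hne) (hz.2.2 x hgz).symm
  set V := Subgroup.closure ({z, x} : Set G) with hV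
  set H : Subgroup G := Subgroup.centralizer {x}
  have hSH : ((g • S : Sylow 2 G) : Subgroup G) ≤ H := fun v hv => by
    rw [mem_smul_sylow] at hv
    rw [Subgroup.mem_centralizer_singleton_iff, hx]
    have := congrArg (fun w => g * w * g⁻¹) (hz.2.2 _ hv)
    simpa [mul_assoc] using this
  have hVH : V ≤ H := by
    rw [hV]
    refine (Subgroup.closure_le _).mpr ?_
    rintro v (rfl | rfl)
    · exact Subgroup.mem_centralizer_singleton_iff.mpr (hz.2.2 x hgz).symm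
    · exact Subgroup.mem_centralizer_singleton_iff.mpr rfl
  obtain ⟨P, hP⟩ := (h2.comap_subtype (K := H)).exists_le_sylow
  let T : Sylow 2 H := (g • S).subtype hSH
  obtain ⟨c, hc⟩ := MulAction.exists_smul_eq H P T
  have hkey : ∀ v ∈ V, (c : G) * v * (c : G)⁻¹ ∈ ((g • S : Sylow 2 G) : Subgroup G) := by
    intro v hv
    have h3 : c * (⟨v, hVH hv⟩ : H) * c⁻¹ ∈ (T : Subgroup H) := by
      rw [← hc, Sylow.coe_subgroup_smul]
      exact ⟨_, hP hv, rfl⟩
    exact h3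
  have hn : g⁻¹ * (c : G) ∈ Subgroup.normalizer ((S : Subgroup G) : Set G) := by
    refine h.normalizes hz.1 (hz.1.conj g) (Ne.symm hne) hz.2.1 hgz ?_ ?_
    · have := mem_smul_sylow.mp (hkey z (Subgroup.subset_closure (Or.inl rfl)))
      simpa [mul_assoc] using this
    · have := mem_smul_sylow.mp (hkey x (Subgroup.subset_closure (Or.inr rfl)))
      simpa [hx, mul_assoc] using this
  have hcx : (c : G) * x * (c : G)⁻¹ = x := by
    rw [Subgroup.mem_centralizer_singleton_iff.mp c.2, mul_inv_cancel_right]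
  have e : (g⁻¹ * (c : G)) * x * (g⁻¹ * (c : G))⁻¹ = z := by
    calc (g⁻¹ * (c : G)) * x * (g⁻¹ * (c : G))⁻¹ = g⁻¹ * ((c : G) * x * (c : G)⁻¹) * g := by group
      _ = z := by rw [hcx, hx]; group
  have := hz.conj (inv_mem hn)
  rwa [show (g⁻¹ * (c : G))⁻¹ * z * (g⁻¹ * (c : G))⁻¹⁻¹ = x by rw [← e]; group] at this

theorem even_card_of_simple [IsSimpleGroup G] (hG : ¬ IsMulCommutative G) : Even (Nat.card G) := by
  by_contra h
  haveI : Group.IsSolvable G := Cfsg.Agent.S0205.result (Nat.not_even_iff_odd.mp h)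
  exact hG ⟨⟨IsSimpleGroup.comm_iff_isSolvable.mpr inferInstance⟩⟩

theorem exists_cen [IsSimpleGroup G] (hG : ¬ IsMulCommutative G) (S : Sylow 2 G) : ∃ z, Cen S z := by
  haveI : Fact (Nat.Prime 2) := ⟨Nat.prime_two⟩
  have hne : (S : Subgroup G) ≠ ⊥ := S.ne_bot_of_dvd_card (even_card_of_simple hG).two_dvd
  haveI : Nontrivial ↥(S : Subgroup G) := (Subgroup.nontrivial_iff_ne_bot _).mpr hne
  haveI := S.2.center_nontrivial
  obtain ⟨k, hk, hcard⟩ := (S.2.to_subgroup (Subgroup.center ↥(S : Subgroup G))).nontrivial_iff_card.mp inferInstance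
  obtain ⟨z, hz⟩ := exists_prime_orderOf_dvd_card' (G := Subgroup.center ↥(S : Subgroup G)) 2
    (hcard ▸ dvd_pow_self 2 (by omega))
  refine ⟨((z : ↥(S : Subgroup G)) : G), inv2_iff.mpr ?_, (z : ↥(S : Subgroup G)).2, fun s hs =>
    congrArg Subtype.val (Subgroup.mem_center_iff.mp z.2 ⟨s, hs⟩)⟩
  rw [Subgroup.orderOf_coe, Subgroup.orderOf_coe, hz]

theorem pPrimeCore_eq_bot [IsSimpleGroup G] (hG : ¬ IsMulCommutative G) : Cfsg.pPrimeCore 2 G = ⊥ := by
  haveI : (Cfsg.pPrimeCore 2 G).Normal := inferInstance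
  refine (IsSimpleGroup.eq_bot_or_eq_top_of_normal _ inferInstance).resolve_right fun e => ?_
  have h := CfsgLib.card_pPrimeCore_coprime (G := G) 2
  rw [e, Subgroup.card_top] at h
  exact Nat.not_even_iff_odd.mpr (Nat.coprime_two_right.mp h) (even_card_of_simple hG)

/-- In a simple group a Sylow 2-subgroup has two central involutions. -/
theorem exists_two_cen [IsSimpleGroup G] (hG : ¬ IsMulCommutative G) (h : CI G) (S : Sylow 2 G) :
    ∃ z z', Cen S z ∧ Cen S z' ∧ z ≠ z' := by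
  obtain ⟨z, hz⟩ := exists_cen hG S
  by_contra hcon
  have hiso : ∀ g : G, g * z * g⁻¹ ∈ (S : Subgroup G) → g * z * g⁻¹ = z := fun g hg =>
    by_contra fun hne => hcon ⟨_, _, h.fusion_central hz hg hne, hz, hne⟩
  have hu : orderOf z = 2 := inv2_iff.mp hz.1
  have hI := CfsgLib.ZStar.isolated_of_sylow S hu hz.2.1 hiso
  have hc : z ∈ Subgroup.center G := Subgroup.mem_center_iff.mpr fun g => by
    have := CfsgLib.ZStar.commutator_mem hu hI g
    rw [pPrimeCore_eq_bot hG, Subgroup.mem_bot] at this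
    calc g * z = 1 * (g * z) := (one_mul _).symm
      _ = z * g * z⁻¹ * g⁻¹ * (g * z) := by rw [this]
      _ = z * g := by group
  rcases IsSimpleGroup.eq_bot_or_eq_top_of_normal (Subgroup.center G) inferInstance with e | e
  · exact hz.1.1 ((Subgroup.eq_bot_iff_forall _).mp e z hc)
  · exact hG ⟨⟨fun a b => Subgroup.mem_center_iff.mp (e ▸ Subgroup.mem_top b) a⟩⟩

/-- A homomorphism from `S` to a group of order two which is invariant under the normaliser is trivial. -/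
theorem transfer_trivial [IsSimpleGroup G] (hG : ¬ IsMulCommutative G) {S : Sylow 2 G}
    (hfus : ∀ x ∈ (S : Subgroup G), ∀ g : G, g * x * g⁻¹ ∈ (S : Subgroup G) →
      ∃ n ∈ Subgroup.normalizer ((S : Subgroup G) : Set G), n * x * n⁻¹ = g * x * g⁻¹)
    {M : Type*} [CommGroup M] (χ : ↥(S : Subgroup G) →* M)
    (hχ : ∀ n ∈ Subgroup.normalizer ((S : Subgroup G) : Set G), ∀ s t : ↥(S : Subgroup G),
      (t : G) = n * s * n⁻¹ → χ t = χ s) : χ = 1 := by
  haveI : Fact (Nat.Prime 2) := ⟨Nat.prime_two⟩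
  have hker : (S : Subgroup G) ≤ χ.ker.map (S : Subgroup G).subtype := by
    have hfoc : (S : Subgroup G).focalSubgroup ≤ χ.ker.map (S : Subgroup G).subtype := by
      refine CfsgLib.TransferApps.focalSubgroup_le_of_control _ _ _ hfus fun x hx n hn hm => ⟨⟨_, hm⟩, ?_, rfl⟩
      have hxn : n * x⁻¹ * n⁻¹ ∈ (S : Subgroup G) := (Subgroup.mem_normalizer_iff.mp hn _).mp (inv_mem hx)
      show χ ⟨⁅x, n⁆, hm⟩ = 1
      rw [show (⟨⁅x, n⁆, hm⟩ : ↥(S : Subgroup G)) = ⟨x, hx⟩ * ⟨n * x⁻¹ * n⁻¹, hxn⟩ from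
        Subtype.ext (by simp only [commutatorElement_def, Subgroup.coe_mul]; group),
        map_mul, hχ n hn ⟨x⁻¹, inv_mem hx⟩ ⟨_, hxn⟩ rfl,
        show (⟨x⁻¹, inv_mem hx⟩ : ↥(S : Subgroup G)) = ⟨x, hx⟩⁻¹ from rfl, map_inv, mul_inv_cancel]
    refine le_trans ?_ hfoc
    rw [← Subgroup.commutator_inf_eq_focalSubgroup S]
    refine le_inf (le_of_le_of_eq le_top ?_) le_rfl
    refine ((IsSimpleGroup.eq_bot_or_eq_top_of_normal (commutator G) inferInstance).resolve_left fun e => hG ?_).symm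
    rw [commutator_eq_bot_iff_center_eq_top] at e
    exact ⟨⟨fun a b => Subgroup.mem_center_iff.mp (e ▸ Subgroup.mem_top b) a⟩⟩
  ext s
  obtain ⟨t, ht, e⟩ := hker s.2
  rw [← Subtype.ext e]
  exact ht

end CfsgLib.CyclicInt
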