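import Cfsg.Agent.Lib.CyclicInt.Radical
import Cfsg.Agent.Lib.SuzukiRankOne.Main

/-!
Groups with cyclic intersections of Sylow 2-subgroups: the simple section is identified.

Blueprint: `blueprint/bender/S3308.md`.
-/

set_option autoImplicit false
set_option linter.unusedSectionVars false
set_option linter.style.haveILetI false

namespace CfsgLib.CyclicInt

open Subgroup MulAction

universe u v

/-- Part B of Bender's theorem. -/
theorem partB : CfsgLib.Bender.TwoClosed.PartB.{u, v} :=
  fun _ _ _ _ _ _ _ _ _ hS h4 => CfsgLib.SuzukiRankOne.concl hS h4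

theorem IsTarget.of_top {G : Type u} [Group G] (h : CfsgLib.SuzukiRankOne.IsTarget ↥(⊤ : Subgroup G)) :
    CfsgLib.SuzukiRankOne.IsTarget G := by
  rcases h with ⟨F, i, j, hn, ⟨e⟩⟩ | ⟨F, i, j, m, hm, hc, ⟨e⟩⟩ | ⟨F, i, j, n, hn, hc, ⟨e⟩⟩
  · exact Or.inl ⟨F, i, j, hn, ⟨Subgroup.topEquiv.symm.trans e⟩⟩
  · exact Or.inr (Or.inl ⟨F, i, j, m, hm, hc, ⟨Subgroup.topEquiv.symm.trans e⟩⟩)
  · exact Or.inr (Or.inr ⟨F, i, j, n, hn, hc, ⟨Subgroup.topEquiv.symm.trans e⟩⟩)

/-- The classification of the simple section over the solvable radical. -/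
theorem exists_section {X : Type u} [Group X] [Finite X] (hci : CI X) (hns : ¬ Group.IsSolvable X) :
    ∃ T : TopData X, CfsgLib.SuzukiRankOne.IsTarget T.L ∨
      (Kind2 T.L ∧ ((∃ (F : Type) (_ : Field F) (_ : Fintype F),
        (Fintype.card F % 8 = 3 ∨ Fintype.card F % 8 = 5) ∧ 5 < Fintype.card F ∧
          Nonempty (T.L ≃* Matrix.ProjectiveSpecialLinearGroup (Fin 2) F)) ∨ Cfsg.IsJ1 T.L)) := by
  haveI : Fact (Nat.Prime 2) := ⟨Nat.prime_two⟩
  obtain ⟨T⟩ := below_all partB (Nat.card X + 1) X hci (Nat.lt_succ_self _) hns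
  refine ⟨T, ?_⟩
  have hciL : CI T.L := (hci.subgroup T.G1).of_surjective T.π T.surj
  rcases simple_kind partB T.nonab hciL (below_all partB _) with hTI | h
  · obtain ⟨S⟩ : Nonempty (Sylow 2 T.L) := inferInstance
    obtain ⟨t, -, -, -, -, L, hL, hodd, htarget⟩ := exists_setup_ti partB T.nonab hciL hTI S
    obtain rfl : L = ⊤ := (IsSimpleGroup.eq_bot_or_eq_top_of_normal L hL).resolve_left fun e => by
      rw [e, Subgroup.index_bot] at hodd
      exact Nat.not_even_iff_odd.mpr hodd (even_card_of_simple T.nonab)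
    exact Or.inl (IsTarget.of_top htarget)
  · exact Or.inr h

/-- The section as a quotient by a given solvable radical. -/
theorem TopData.quot {X : Type u} [Group X] [Finite X] (T : TopData X) {R : Subgroup X} [R.Normal]
    (hR : R = CfsgLib.solvableRadical X) :
    Nonempty ((↥T.G1 ⧸ R.subgroupOf T.G1) ≃* T.L) := by
  refine ⟨(QuotientGroup.quotientMulEquivOfEq (N := T.π.ker) ?_).trans
    (QuotientGroup.quotientKerEquivOfSurjective T.π T.surj)⟩
  ext g
  rw [MonoidHom.mem_ker, T.ker g, Subgroup.mem_subgroupOf, hR]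

theorem eq_radical {X : Type u} [Group X] [Finite X] {R : Subgroup X} [R.Normal] (hR : Group.IsSolvable R)
    (hmax : ∀ N : Subgroup X, N.Normal → Group.IsSolvable N → N ≤ R) : R = CfsgLib.solvableRadical X :=
  le_antisymm (CfsgLib.le_solvableRadical hR) (hmax _ inferInstance CfsgLib.isSolvable_solvableRadical)

end CfsgLib.CyclicInt
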