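import Cfsg.Agent.Lib.CyclicInt.TISetup
import Cfsg.Agent.Lib.CoprimeAbelian
import Mathlib.GroupTheory.SchurZassenhaus

/-!
An involution lying in two Sylow 2-subgroups of a simple group with cyclic intersections: the elementary
group `⟨d⟩ × E` of the involutions of `C_S(d)`.

Blueprint: `blueprint/bender/S3308.md`, 1b.
-/

set_option autoImplicit false
set_option linter.unusedSectionVars false
set_option linter.style.haveILetI false

namespace CfsgLib.CyclicInt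

open Subgroup MulAction
open scoped Pointwise

universe u

variable {G : Type u} [Group G]

/-- An involution in two Sylow 2-subgroups. -/
def Meet (d : G) : Prop :=
  Inv2 d ∧ ∃ S T : Sylow 2 G, S ≠ T ∧ d ∈ (S : Subgroup G) ∧ d ∈ (T : Subgroup G)

/-- The centraliser of an element. -/
abbrev ctr (d : G) : Subgroup G := Subgroup.centralizer ({d} : Set G)

/-- The element itself inside its centraliser. -/
abbrev self (d : G) : ↥(ctr d) := ⟨d, Subgroup.mem_centralizer_singleton_iff.mpr rfl⟩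

theorem Meet.conj [Finite G] {d : G} (h : Meet d) (g : G) : Meet (g * d * g⁻¹) := by
  obtain ⟨S, T, hne, hS, hT⟩ := h.2
  exact ⟨h.1.conj g, g • S, g • T, fun e => hne (smul_left_cancel g e), conj_mem_smul_sylow hS, conj_mem_smul_sylow hT⟩

theorem self_center (d : G) : self d ∈ Subgroup.center ↥(ctr d) :=
  Subgroup.mem_center_iff.mpr fun g => Subtype.ext (Subgroup.mem_centralizer_singleton_iff.mp g.2)

variable [Finite G]

theorem not_ti (hTI : ¬ TI G) : ∃ d : G, Meet d := by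
  by_contra h
  exact hTI fun S T x hx hS hT => by_contra fun hne => h ⟨x, hx, S, T, hne, hS, hT⟩

theorem Eight.smul {S : Sylow 2 G} (h : Eight S) (g : G) : Eight (g • S) := by
  obtain ⟨a, b, c, ha, hb, hc, hab, hac, hbc, habc, haS, hbS, hcS, cab, cac, cbc⟩ := h
  have hinj : ∀ {x y : G}, g * x * g⁻¹ = g * y * g⁻¹ → x = y := fun e => mul_left_cancel (mul_right_cancel e)
  have hcomm : ∀ {x y : G}, x * y = y * x → g * x * g⁻¹ * (g * y * g⁻¹) = g * y * g⁻¹ * (g * x * g⁻¹) :=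
    fun e => by rw [conj_mul, conj_mul, e]
  exact ⟨_, _, _, ha.conj g, hb.conj g, hc.conj g, fun e => hab (hinj e), fun e => hac (hinj e),
    fun e => hbc (hinj e), fun e => habc (hinj (e.trans (by rw [conj_mul]))), conj_mem_smul_sylow haS,
    conj_mem_smul_sylow hbS, conj_mem_smul_sylow hcS, hcomm cab, hcomm cac, hcomm cbc⟩

variable [IsSimpleGroup G] (hG : ¬ IsMulCommutative G) (hci : CI G)
include hG hci

theorem le_sylow_of_cen {S : Sylow 2 G} {Q : Subgroup G} (hQ : IsPGroup 2 Q)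
    (h : ∀ z : G, Cen S z → z ∈ Q) : Q ≤ (S : Subgroup G) := by
  obtain ⟨z, w, hz, hw, hne⟩ := exists_two_cen hG hci S
  exact hci.le_sylow hz.1 hw.1 hne hz.2.1 hw.2.1 hQ (h z hz) (h w hw)

theorem eq_of_cen {S T : Sylow 2 G} (h : ∀ z : G, Cen S z → z ∈ (T : Subgroup G)) : S = T := by
  obtain ⟨z, w, hz, hw, hne⟩ := exists_two_cen hG hci S
  exact hci.eq_of_two hz.1 hw.1 hne hz.2.1 hw.2.1 (h z hz) (h w hw)

/-- The Sylow subgroup `C_S(d)` of `C(d)`. -/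
def centSylow {S : Sylow 2 G} {d : G} (hd : d ∈ (S : Subgroup G)) : Sylow 2 ↥(ctr d) where
  toSubgroup := (S : Subgroup G).subgroupOf (ctr d)
  isPGroup' := S.2.comap_subtype
  is_maximal' := fun {Q} hQ hle => by
    refine le_antisymm (fun q hq => ?_) hle
    have hz : ∀ z : G, Cen S z → z ∈ Q.map (ctr d).subtype := fun z hz =>
      ⟨⟨z, Subgroup.mem_centralizer_singleton_iff.mpr (hz.2.2 d hd).symm⟩, hle hz.2.1, rfl⟩
    exact le_sylow_of_cen hG hci (hQ.map _) hz ⟨q, hq, rfl⟩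

theorem mem_centSylow {S : Sylow 2 G} {d : G} (hd : d ∈ (S : Subgroup G)) {x : ↥(ctr d)} :
    x ∈ (centSylow hG hci hd : Subgroup ↥(ctr d)) ↔ (x : G) ∈ (S : Subgroup G) :=
  Iff.rfl

theorem centSylow_inj {S T : Sylow 2 G} {d : G} (hS : d ∈ (S : Subgroup G)) (hT : d ∈ (T : Subgroup G))
    (h : centSylow hG hci hS = centSylow hG hci hT) : S = T :=
  eq_of_cen hG hci fun z hz => by
    have hzc : z ∈ ctr d := Subgroup.mem_centralizer_singleton_iff.mpr (hz.2.2 d hS).symm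
    have h1 : (⟨z, hzc⟩ : ↥(ctr d)) ∈ (centSylow hG hci hS : Subgroup ↥(ctr d)) := hz.2.1
    rw [h] at h1
    exact h1

theorem centSylow_surj {d : G} (hd : Inv2 d) (P : Sylow 2 ↥(ctr d)) :
    ∃ (S : Sylow 2 G) (h : d ∈ (S : Subgroup G)), centSylow hG hci h = P := by
  obtain ⟨S, hS⟩ := (P.2.map (ctr d).subtype).exists_le_sylow
  have hdP : self d ∈ (P : Subgroup ↥(ctr d)) := by
    refine Two.mem_of_normalizer ⟨1, Subtype.ext (by simp [pow_two, hd.2])⟩ P ?_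
    rw [Subgroup.mem_normalizer_iff]
    intro v
    rw [← Subgroup.mem_center_iff.mp (self_center d) v, mul_inv_cancel_right]
  have hdS : d ∈ (S : Subgroup G) := hS ⟨_, hdP, rfl⟩
  exact ⟨S, hdS, Sylow.ext (P.is_maximal' (centSylow hG hci hdS).2 fun x hx => hS ⟨x, hx, rfl⟩)⟩

theorem not_center {d : G} (hd : Inv2 d) : d ∉ Subgroup.center G := fun hc => by
  rcases IsSimpleGroup.eq_bot_or_eq_top_of_normal (Subgroup.center G) inferInstance with e | e
  · exact hd.1 ((Subgroup.eq_bot_iff_forall _).mp e d hc)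
  · exact hG ⟨⟨fun a b => Subgroup.mem_center_iff.mp (e ▸ Subgroup.mem_top b) a⟩⟩

theorem card_ctr_lt {d : G} (hd : Inv2 d) : Nat.card ↥(ctr d) < Nat.card G := by
  refine CfsgLib.card_lt_of_lt_top (lt_top_iff_ne_top.mpr fun e => not_center hG hci hd ?_)
  exact Subgroup.mem_center_iff.mpr fun g =>
    Subgroup.mem_centralizer_singleton_iff.mp (e ▸ Subgroup.mem_top g : g ∈ ctr d)

/-- The component of the centraliser of an involution in two Sylow subgroups. -/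
theorem exists_comp_ctr (ih : Below.{u} (Nat.card G)) {d : G} (hd : Meet d)
    (h8 : ∀ S : Sylow 2 G, Eight S) : Nonempty (Comp ↥(ctr d) (self d)) := by
  obtain ⟨hd2, S, T, hne, hS, hT⟩ := hd
  obtain ⟨z, w, hz, hw, hzw⟩ := exists_two_cen hG hci S
  have hd' : Inv2 (self d) := ⟨fun e => hd2.1 (congrArg Subtype.val e), Subtype.ext hd2.2⟩
  refine exists_comp (hci.subgroup _) (fun hns => ih _ (hci.subgroup _) (card_ctr_lt hG hci hd2) hns) hd'
    (self_center d) (P := centSylow hG hci hS) ?_ ?_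
  · -- an elementary subgroup of order 8 in `C_S(d)`
    have key : ∀ a b c : G, Inv2 a → Inv2 b → Inv2 c → a ≠ b → a ≠ c → b ≠ c → c ≠ a * b →
        a ∈ (S : Subgroup G) → b ∈ (S : Subgroup G) → c ∈ (S : Subgroup G) → a * b = b * a → a * c = c * a →
        b * c = c * b → a * d = d * a → b * d = d * b → c * d = d * c → Eight (centSylow hG hci hS) := by
      intro a b c ha hb hc hab hac hbc habc haS hbS hcS cab cac cbc had hbd hcd
      have m : ∀ {x : G}, x * d = d * x → x ∈ ctr d := fun h => Subgroup.mem_centralizer_singleton_iff.mpr h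
      have iv : ∀ {x : G} (h : x ∈ ctr d), Inv2 x → Inv2 (⟨x, h⟩ : ↥(ctr d)) := fun h hx =>
        ⟨fun e => hx.1 (congrArg Subtype.val e), Subtype.ext hx.2⟩
      exact ⟨⟨a, m had⟩, ⟨b, m hbd⟩, ⟨c, m hcd⟩, iv _ ha, iv _ hb, iv _ hc, fun e => hab (congrArg Subtype.val e),
        fun e => hac (congrArg Subtype.val e), fun e => hbc (congrArg Subtype.val e),
        fun e => habc (congrArg Subtype.val e), haS, hbS, hcS, Subtype.ext cab, Subtype.ext cac, Subtype.ext cbc⟩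
    by_cases hdc : Cen S d
    · obtain ⟨a, b, c, ha, hb, hc, hab, hac, hbc, habc, haS, hbS, hcS, cab, cac, cbc⟩ := h8 S
      exact key a b c ha hb hc hab hac hbc habc haS hbS hcS cab cac cbc (hdc.2.2 a haS) (hdc.2.2 b hbS)
        (hdc.2.2 c hcS)
    · refine key z w d hz.1 hw.1 hd2 hzw ?_ ?_ ?_ hz.2.1 hw.2.1 hS (hz.2.2 w hw.2.1).symm (hz.2.2 d hS).symm
        (hw.2.2 d hS).symm (hz.2.2 d hS).symm (hw.2.2 d hS).symm rfl
      · exact fun e => hdc (e ▸ hz)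
      · exact fun e => hdc (e ▸ hw)
      · intro e
        refine hdc ⟨hd2, hS, fun s hs => ?_⟩
        rw [e]
        exact (Commute.mul_right (hz.2.2 s hs) (hw.2.2 s hs)).eq
  · intro hn
    haveI := Sylow.unique_of_normal _ hn
    exact hne (centSylow_inj hG hci hS hT (Subsingleton.elim _ _))

omit hG hci in
/-- The data attached to an involution `d` in two Sylow subgroups and a Sylow subgroup `S` containing it. -/
structure Dat (d : G) (S : Sylow 2 G) where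
  mem : d ∈ (S : Subgroup G)
  inv : Inv2 d
  /-- The component of the centraliser. -/
  K : Comp ↥(ctr d) (self d)
  /-- The complement of `⟨d⟩` among the involutions of `C_S(d)`. -/
  E : Subgroup G
  E_le : E ≤ (S : Subgroup G)
  E_sq : ∀ e ∈ E, e * e = 1
  E_comm : ∀ e ∈ E, e * d = d * e
  d_not : d ∉ E
  E_four : ∃ e ∈ E, ∃ f ∈ E, e ≠ 1 ∧ f ≠ 1 ∧ e ≠ f
  E_cent : ∀ e ∈ E, ∀ s ∈ (S : Subgroup G), s * d = d * s → s * e = e * s
  inv_mem : ∀ x ∈ (S : Subgroup G), x * x = 1 → x * d = d * x → x ∈ E ∨ d * x ∈ E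
  E_trans : ∀ e ∈ E, ∀ e' ∈ E, e ≠ 1 → e' ≠ 1 → ∃ n ∈ Subgroup.normalizer ((S : Subgroup G) : Set G),
    Odd (orderOf n) ∧ n * d = d * n ∧ n * e * n⁻¹ = e'
  E_norm : ∀ n ∈ Subgroup.normalizer ((S : Subgroup G) : Set G), n * d = d * n → ∀ e ∈ E, n * e * n⁻¹ ∈ E

/-- The data exist. -/
theorem exists_dat (hB : CfsgLib.Bender.TwoClosed.PartB.{u, u}) {d : G} (hd : Inv2 d) {S : Sylow 2 G}
    (hS : d ∈ (S : Subgroup G)) (K : Comp ↥(ctr d) (self d)) : Nonempty (Dat d S) := by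
  classical
  haveI : Fact (Nat.Prime 2) := ⟨Nat.prime_two⟩
  set X := ctr d with hX
  set P := centSylow hG hci hS with hP
  have hciL : CI K.L := ((hci.subgroup X).subgroup K.G1).of_surjective K.π K.surj
  set U := K.img P with hU
  let d' : ↥X := self d
  have hd' : Inv2 d' := ⟨fun e => hd.1 (congrArg Subtype.val e), Subtype.ext hd.2⟩
  have hdP : d' ∈ (P : Subgroup ↥X) := hS
  -- elements of the kernel
  have hker : ∀ x : ↥K.G1, K.π x = 1 → Two (x : ↥X) → (x : ↥X) * (x : ↥X) = 1 → (x : ↥X) = 1 ∨ (x : ↥X) = d' := by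
    intro x hx h2 hsq
    by_contra hcon
    push Not at hcon
    haveI := K.V_cyclic
    exact hcon.2 (eq_of_inv_cyclic (B := K.V) (K.two_ker x hx h2) K.d_mem ⟨hcon.1, hsq⟩ hd')
  -- a central involution of `P` outside `V`
  obtain ⟨z, hzS, hzd⟩ : ∃ z : G, Cen S z ∧ z ≠ d := by
    obtain ⟨z, w, hz, hw, hzw⟩ := exists_two_cen hG hci S
    by_cases e : z = d
    · exact ⟨w, hw, fun e' => hzw (e.trans e'.symm)⟩
    · exact ⟨z, hz, e⟩
  let z' : ↥X := ⟨z, Subgroup.mem_centralizer_singleton_iff.mpr (hzS.2.2 d hS).symm⟩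
  have hzP : z' ∈ (P : Subgroup ↥X) := hzS.2.1
  let z1 : ↥K.G1 := ⟨z', K.sylow_le P hzP⟩
  have hz1 : Inv2 (K.π z1) := by
    refine ⟨fun e => ?_, by rw [← map_mul, show z1 * z1 = 1 from Subtype.ext (Subtype.ext hzS.1.2), map_one]⟩
    rcases hker z1 e (two_of_mem hzP) (Subtype.ext hzS.1.2) with h1 | h1
    · exact hzS.1.1 (congrArg Subtype.val h1)
    · exact hzd (congrArg Subtype.val h1)
  have hzc : ∀ p ∈ (P : Subgroup ↥X), Commute p z' := fun p hp => Subtype.ext (hzS.2.2 p hp)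
  -- elements of `G1` mapping into the normaliser of the image normalise `P`
  have hlift : ∀ g : ↥K.G1, K.π g • U = U → ((g : ↥X) • P : Sylow 2 ↥X) = P := fun g hg =>
    K.img_inj (by rw [K.img_smul, ← hU, hg])
  have htr : ∀ x y : K.L, Inv2 x → x ∈ (U : Subgroup K.L) → Inv2 y → y ∈ (U : Subgroup K.L) →
      ∃ g : ↥K.G1, ((g : ↥X) • P : Sylow 2 ↥X) = P ∧ K.π g * x * (K.π g)⁻¹ = y := by
    intro x y hx hxU hy hyU
    obtain ⟨n, -, hnU, hn⟩ := ti_inv_trans hB K.nonab hciL K.ti U hx hxU hy hyU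
    obtain ⟨g, rfl⟩ := K.surj n
    exact ⟨g, hlift g hnU, hn⟩
  have hz1U : K.π z1 ∈ (U : Subgroup K.L) := K.mem_img.mpr ⟨z1, hzP, rfl⟩
  -- the involutions of `P` are central in `P`
  have hAc : ∀ x ∈ (P : Subgroup ↥X), x * x = 1 → ∀ p ∈ (P : Subgroup ↥X), Commute p x := by
    intro x hxP hx2 p hp
    let x1 : ↥K.G1 := ⟨x, K.sylow_le P hxP⟩
    by_cases h1 : K.π x1 = 1
    · exact Subgroup.mem_center_iff.mp (K.V_center (K.two_ker x1 h1 (two_of_mem hxP))) p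
    · obtain ⟨g, hgP, hg⟩ := htr (K.π z1) (K.π x1) hz1 hz1U
        ⟨h1, by rw [← map_mul, show x1 * x1 = 1 from Subtype.ext hx2, map_one]⟩ (K.mem_img.mpr ⟨x1, hxP, rfl⟩)
      have hw : ∀ q ∈ (P : Subgroup ↥X), Commute q ((g : ↥X) * z' * (g : ↥X)⁻¹) := by
        intro q hq
        rw [← hgP, mem_smul_sylow] at hq
        have hh := (hzc _ hq).eq
        calc q * ((g : ↥X) * z' * (g : ↥X)⁻¹) = (g : ↥X) * ((g : ↥X)⁻¹ * q * g * z') * (g : ↥X)⁻¹ := by group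
          _ = (g : ↥X) * (z' * ((g : ↥X)⁻¹ * q * g)) * (g : ↥X)⁻¹ := by rw [hh]
          _ = (g : ↥X) * z' * (g : ↥X)⁻¹ * q := by group
      set w1 := g * z1 * g⁻¹ with hw1
      have hwP : (w1 : ↥X) ∈ (P : Subgroup ↥X) := hgP ▸ conj_mem_smul_sylow hzP
      have hk : K.π (w1⁻¹ * x1) = 1 := by
        rw [map_mul, map_inv, hw1, map_mul, map_mul, map_inv, hg, inv_mul_cancel]
      have hwcx : ((w1⁻¹ * x1 : ↥K.G1) : ↥X) ∈ (P : Subgroup ↥X) := mul_mem (inv_mem hwP) hxP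
      have hc1 := Subgroup.mem_center_iff.mp (K.V_center (K.two_ker _ hk (two_of_mem hwcx))) p
      have hx : x = (w1 : ↥X) * ((w1⁻¹ * x1 : ↥K.G1) : ↥X) := by simp [x1]
      rw [hx]
      exact Commute.mul_right (hw p hp) hc1
  -- the group of involutions
  let A : Subgroup ↥X :=
    { carrier := {x | x ∈ (P : Subgroup ↥X) ∧ x * x = 1}
      one_mem' := ⟨one_mem _, one_mul 1⟩
      mul_mem' := fun {a b} ha hb => ⟨mul_mem ha.1 hb.1, by
        have hc : Commute a b := hAc b hb.1 hb.2 a ha.1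
        rw [← pow_two, hc.mul_pow, pow_two, pow_two, ha.2, hb.2, one_mul]⟩
      inv_mem' := fun {a} ha => ⟨inv_mem ha.1, by rw [← mul_inv_rev, ha.2, inv_one]⟩ }
  haveI hAcomm : IsMulCommutative A := ⟨⟨fun a b => Subtype.ext (hAc _ b.2.1 b.2.2 _ a.2.1)⟩⟩
  -- a complement of `P` in its normaliser
  set N := Subgroup.normalizer ((P : Subgroup ↥X) : Set ↥X) with hN
  let PN : Sylow 2 N := P.subtype Subgroup.le_normalizer
  haveI : (PN : Subgroup N).Normal := Subgroup.normal_in_normalizer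
  obtain ⟨C, hC⟩ := Subgroup.exists_right_complement'_of_coprime (N := (PN : Subgroup N))
    (PN.card_coprime_index)
  set K0 := C.map N.subtype with hK0
  have hK0N : K0 ≤ N := Subgroup.map_subtype_le C
  have hK0odd : Odd (Nat.card K0) := by
    rw [hK0, Subgroup.card_map_of_injective N.subtype_injective]
    have h1 := PN.not_dvd_index
    rw [hC.symm.index_eq_card] at h1
    exact Nat.not_even_iff_odd.mp fun he => h1 he.two_dvd
  have hdec : ∀ n ∈ N, ∃ p ∈ (P : Subgroup ↥X), ∃ k ∈ K0, n = p * k := fun n hn => by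
    obtain ⟨⟨p, k⟩, hpk, -⟩ := hC.existsUnique (⟨n, hn⟩ : N)
    exact ⟨_, p.2, _, ⟨k, k.2, rfl⟩, (congrArg Subtype.val hpk).symm⟩
  have hNA : ∀ n ∈ N, ∀ a ∈ A, n * a * n⁻¹ ∈ A := fun n hn a ha =>
    ⟨(Subgroup.mem_normalizer_iff.mp hn a).mp ha.1, by rw [conj_mul, ha.2, mul_one, mul_inv_cancel]⟩
  have hK0A : K0 ≤ Subgroup.normalizer (A : Set ↥X) := fun k hk => by
    rw [Subgroup.mem_normalizer_iff]
    refine fun a => ⟨fun ha => hNA k (hK0N hk) a ha, fun ha => ?_⟩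
    have := hNA k⁻¹ (inv_mem (hK0N hk)) _ ha
    simpa [mul_assoc] using this
  have hcop : (Nat.card K0).Coprime (Nat.card A) := by
    obtain ⟨i, hi⟩ := IsPGroup.iff_card.mp (P.2.to_le (show A ≤ (P : Subgroup ↥X) from fun a ha => ha.1))
    rw [hi]
    exact Nat.Coprime.pow_right i (Nat.coprime_two_right.mpr hK0odd)
  -- transitivity of the complement modulo `d`
  have hAU : ∀ a ∈ A, a ≠ 1 → a ≠ d' → ∃ h : a ∈ K.G1, Inv2 (K.π ⟨a, h⟩) ∧ K.π ⟨a, h⟩ ∈ (U : Subgroup K.L) := by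
    intro a ha ha1 had
    refine ⟨K.sylow_le P ha.1, ⟨fun e => ?_, ?_⟩, K.mem_img.mpr ⟨_, ha.1, rfl⟩⟩
    · rcases hker ⟨a, K.sylow_le P ha.1⟩ e (two_of_mem ha.1) ha.2 with h1 | h1
      exacts [ha1 h1, had h1]
    · rw [← map_mul, show (⟨a, K.sylow_le P ha.1⟩ : ↥K.G1) * ⟨a, _⟩ = 1 from Subtype.ext ha.2, map_one]
  have hmod : ∀ a ∈ A, ∀ b ∈ A, ∀ (h : a ∈ K.G1) (h' : b ∈ K.G1), K.π ⟨a, h⟩ = K.π ⟨b, h'⟩ → b = a ∨ b = a * d' := by
    intro a ha b hb h h' e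
    have h1 : K.π (⟨a, h⟩⁻¹ * ⟨b, h'⟩) = 1 := by rw [map_mul, map_inv, e, inv_mul_cancel]
    have h2 : a⁻¹ * b ∈ A := mul_mem (inv_mem ha) hb
    rcases hker _ h1 (two_of_mem h2.1) h2.2 with e1 | e1
    · exact Or.inl (inv_mul_eq_one.mp e1).symm
    · exact Or.inr (inv_mul_eq_iff_eq_mul.mp e1)
  have htrK : ∀ a ∈ A, ∀ b ∈ A, a ≠ 1 → a ≠ d' → b ≠ 1 → b ≠ d' →
      ∃ k ∈ K0, k * a * k⁻¹ = b ∨ k * a * k⁻¹ = b * d' := by
    intro a ha b hb ha1 had hb1 hbd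
    obtain ⟨h, hi, hiU⟩ := hAU a ha ha1 had
    obtain ⟨h', hi', hiU'⟩ := hAU b hb hb1 hbd
    obtain ⟨g, hgP, hg⟩ := htr _ _ hi hiU hi' hiU'
    have hgN : (g : ↥X) ∈ N := smul_eq_iff_normalizer.mp hgP
    obtain ⟨p, hp, k, hk, hpk⟩ := hdec _ hgN
    have hka := hNA k (hK0N hk) a ha
    have hconj : (g : ↥X) * a * (g : ↥X)⁻¹ = k * a * k⁻¹ := by
      rw [hpk]
      have hh := (hAc _ hka.1 hka.2 p hp).eq
      calc p * k * a * (p * k)⁻¹ = p * (k * a * k⁻¹) * p⁻¹ := by group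
        _ = k * a * k⁻¹ := by rw [hh, mul_inv_cancel_right]
    refine ⟨k, hk, hmod b hb _ hka h' (K.sylow_le P hka.1) ?_⟩
    rw [show (⟨k * a * k⁻¹, K.sylow_le P hka.1⟩ : ↥K.G1) = g * ⟨a, h⟩ * g⁻¹ from Subtype.ext hconj.symm,
      map_mul, map_mul, map_inv, hg]
  -- two involutions in the image
  obtain ⟨u₁, u₂, hu₁, hu₂, hu⟩ := exists_two_cen K.nonab hciL U
  obtain ⟨a₁, ha₁, ha₁1, ha₁d, ha₁u⟩ : ∃ a ∈ A, a ≠ 1 ∧ a ≠ d' ∧ ∃ h : a ∈ K.G1, K.π ⟨a, h⟩ ≠ K.π z1 := by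
    have pick : ∃ v, Inv2 v ∧ v ∈ (U : Subgroup K.L) ∧ v ≠ K.π z1 := by
      by_cases e : u₁ = K.π z1
      · exact ⟨u₂, hu₂.1, hu₂.2.1, fun e' => hu (e.trans e'.symm)⟩
      · exact ⟨u₁, hu₁.1, hu₁.2.1, e⟩
    obtain ⟨v, hv, hvU, hvne⟩ := pick
    obtain ⟨g, hgP, hg⟩ := htr (K.π z1) v hz1 hz1U hv hvU
    have hmem : (g : ↥X) * z' * (g : ↥X)⁻¹ ∈ A :=
      ⟨hgP ▸ conj_mem_smul_sylow hzP, by rw [conj_mul, show z' * z' = 1 from Subtype.ext hzS.1.2, mul_one,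
        mul_inv_cancel]⟩
    have hπ : K.π ⟨(g : ↥X) * z' * (g : ↥X)⁻¹, K.sylow_le P hmem.1⟩ = v := by
      rw [show (⟨(g : ↥X) * z' * (g : ↥X)⁻¹, K.sylow_le P hmem.1⟩ : ↥K.G1) = g * z1 * g⁻¹ from Subtype.ext rfl,
        map_mul, map_mul, map_inv, hg]
    refine ⟨_, hmem, fun e => hzS.1.1 ?_, fun e => hv.1 ?_, K.sylow_le P hmem.1, hπ ▸ hvne⟩
    · exact congrArg Subtype.val (conj_eq_one_iff.mp e)
    · rw [← hπ]
      exact K.V_ker _ (by rw [show (⟨_, K.sylow_le P hmem.1⟩ : ↥K.G1).1 = d' from e]; exact K.d_mem)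
  set E' : Subgroup ↥X := ⁅A, K0⁆ with hE'
  have hE'A : E' ≤ A := by
    rw [hE', Subgroup.commutator_le]
    intro a ha k hk
    rw [commutatorElement_def, mul_assoc, mul_assoc, ← mul_assoc k]
    exact mul_mem ha (hNA k (hK0N hk) _ (inv_mem ha))
  have hdisj := CfsgLib.coprime_abelian_disjoint K0 A hK0A hcop
  have hdA : d' ∈ A := ⟨hdP, hd'.2⟩
  have hdK : d' ∈ Subgroup.centralizer (K0 : Set ↥X) := fun k _ => Subgroup.mem_center_iff.mp (self_center d) k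
  have hdE : d' ∉ E' := fun hh => hd'.1 (Subgroup.mem_bot.mp (hdisj ▸ (⟨⟨hdA, hdK⟩, hh⟩ :
    d' ∈ (A ⊓ Subgroup.centralizer (K0 : Set ↥X)) ⊓ ⁅A, K0⁆)))
  have hfix : ∀ a ∈ A, a ∈ Subgroup.centralizer (K0 : Set ↥X) → a = 1 ∨ a = d' := by
    intro a ha hc
    by_contra hcon
    push Not at hcon
    obtain ⟨h, hi, hiU⟩ := hAU a ha hcon.1 hcon.2
    have hsame : ∀ b ∈ A, b ≠ 1 → b ≠ d' → ∀ h' : b ∈ K.G1, K.π ⟨b, h'⟩ = K.π ⟨a, h⟩ := by
      intro b hb hb1 hbd h'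
      obtain ⟨k, hk, e⟩ := htrK a ha b hb hcon.1 hcon.2 hb1 hbd
      rw [show k * a * k⁻¹ = a by rw [hc k hk, mul_inv_cancel_right]] at e
      rcases e with e | e
      · subst e; rfl
      · have hd1 : K.π ⟨d', K.V_le K.d_mem⟩ = 1 := K.V_ker _ K.d_mem
        rw [show (⟨a, h⟩ : ↥K.G1) = ⟨b, h'⟩ * ⟨d', K.V_le K.d_mem⟩ from Subtype.ext e, map_mul, hd1, mul_one]
    obtain ⟨h', hne'⟩ := ha₁u
    have h1 := hsame a₁ ha₁ ha₁1 ha₁d h'
    have h2 := hsame z' ⟨hzP, Subtype.ext hzS.1.2⟩ (fun e => hzS.1.1 (congrArg Subtype.val e))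
      (fun e => hzd (congrArg Subtype.val e)) (K.sylow_le P hzP)
    exact hne' (h1.trans h2.symm)
  have hsplit : ∀ a ∈ A, a ∈ E' ∨ d' * a ∈ E' := by
    intro a ha
    have := CfsgLib.coprime_abelian_sup K0 A hK0A hcop
    rw [← this] at ha
    have hcom : ∀ c ∈ A ⊓ Subgroup.centralizer (K0 : Set ↥X), ∀ e ∈ E', e * c = c * e := fun c hc e he =>
      congrArg Subtype.val (hAcomm.1.comm ⟨e, hE'A he⟩ ⟨c, hc.1⟩)
    obtain ⟨c, hc, e, he, rfl⟩ := CfsgLib.mem_sup_of_le_normalizer (W := A ⊓ Subgroup.centralizer (K0 : Set ↥X))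
      (A := E') (fun e he => by
        rw [Subgroup.mem_normalizer_iff]
        intro c
        refine ⟨fun hc => by rw [hcom c hc e he, mul_inv_cancel_right]; exact hc, fun hc => ?_⟩
        have hh := hcom _ hc e he
        have : e * c * e⁻¹ = c := by
          have h2 := congrArg (fun v => e⁻¹ * v) hh
          simpa [mul_assoc] using h2
        rwa [this] at hc) ha
    rcases hfix c hc.1 hc.2 with rfl | rfl
    · exact Or.inl (by rwa [one_mul])
    · exact Or.inr (by rwa [← mul_assoc, hd'.2, one_mul])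
  have hE'N : ∀ n ∈ N, ∀ e ∈ E', n * e * n⁻¹ ∈ E' := by
    intro n hn e he
    obtain ⟨p, hp, k, hk, rfl⟩ := hdec n hn
    have hke : k * e * k⁻¹ ∈ E' :=
      (Subgroup.mem_normalizer_iff.mp (CfsgLib.right_le_normalizer_commutator K0 A hk) e).mp he
    have hh := (hAc _ (hE'A hke).1 (hE'A hke).2 p hp).eq
    rw [show p * k * e * (p * k)⁻¹ = p * (k * e * k⁻¹) * p⁻¹ by group, hh, mul_inv_cancel_right]
    exact hke
  have hone : ∀ e ∈ E', e ≠ 1 → e ≠ d' := fun e he _ h => hdE (h ▸ he)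
  have hnS : ∀ n : ↥X, n ∈ N → (n : G) ∈ Subgroup.normalizer ((S : Subgroup G) : Set G) := by
    intro n hn
    refine hci.normalizes hd hzS.1 hzd.symm hS hzS.2.1 ?_ ?_
    · rw [show (n : G) * d * (n : G)⁻¹ = d by
        rw [Subgroup.mem_centralizer_singleton_iff.mp n.2, mul_inv_cancel_right]]
      exact hS
    · exact (Subgroup.mem_normalizer_iff.mp hn z').mp hzP
  refine ⟨{ mem := hS, inv := hd, K := K, E := E'.map X.subtype, E_le := ?_, E_sq := ?_, E_comm := ?_,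
            d_not := ?_, E_four := ?_, E_cent := ?_, inv_mem := ?_, E_trans := ?_, E_norm := ?_ }⟩
  · rintro _ ⟨e, he, rfl⟩
    exact (hE'A he).1
  · rintro _ ⟨e, he, rfl⟩
    exact congrArg Subtype.val (hE'A he).2
  · rintro _ ⟨e, -, rfl⟩
    exact Subgroup.mem_centralizer_singleton_iff.mp e.2
  · rintro ⟨e, he, hed⟩
    exact hdE ((show e = d' from Subtype.ext hed) ▸ he)
  · -- two elements of `E`
    have hne1 : ∀ a ∈ A, a ≠ 1 → a ≠ d' → ∀ h : a ∈ K.G1, ∃ e ∈ E', e ≠ 1 ∧ ∃ h' : e ∈ K.G1,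
        K.π ⟨e, h'⟩ = K.π ⟨a, h⟩ := by
      intro a ha ha1 had h
      rcases hsplit a ha with h1 | h1
      · exact ⟨a, h1, ha1, h, rfl⟩
      · refine ⟨d' * a, h1, fun e => had ?_, mul_mem (K.V_le K.d_mem) h, ?_⟩
        · exact (eq_inv_of_mul_eq_one_right e).trans hd'.inv
        · rw [show (⟨d' * a, _⟩ : ↥K.G1) = ⟨d', K.V_le K.d_mem⟩ * ⟨a, h⟩ from Subtype.ext rfl, map_mul,
            K.V_ker _ K.d_mem, one_mul]
    obtain ⟨h', hne'⟩ := ha₁u
    obtain ⟨e, he, he1, _, hπe⟩ := hne1 a₁ ha₁ ha₁1 ha₁d h'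
    obtain ⟨f, hf, hf1, _, hπf⟩ := hne1 z' ⟨hzP, Subtype.ext hzS.1.2⟩ (fun e => hzS.1.1 (congrArg Subtype.val e))
      (fun e => hzd (congrArg Subtype.val e)) (K.sylow_le P hzP)
    refine ⟨e, ⟨e, he, rfl⟩, f, ⟨f, hf, rfl⟩, fun h => he1 (Subtype.ext h), fun h => hf1 (Subtype.ext h), fun h => ?_⟩
    obtain rfl : e = f := Subtype.ext h
    exact hne' (hπe.symm.trans hπf)
  · rintro _ ⟨e, he, rfl⟩ s hs hsd
    exact congrArg Subtype.val
      (hAc e (hE'A he).1 (hE'A he).2 ⟨s, Subgroup.mem_centralizer_singleton_iff.mpr hsd⟩ hs).eq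
  · intro x hx hx2 hxd
    rcases hsplit ⟨x, Subgroup.mem_centralizer_singleton_iff.mpr hxd⟩ ⟨hx, Subtype.ext hx2⟩ with h1 | h1
    · exact Or.inl ⟨_, h1, rfl⟩
    · exact Or.inr ⟨_, h1, rfl⟩
  · rintro _ ⟨e, he, rfl⟩ _ ⟨e', he', rfl⟩ he1 he1'
    have h1 : e ≠ 1 := fun h => he1 (by rw [h]; rfl)
    have h1' : e' ≠ 1 := fun h => he1' (by rw [h]; rfl)
    obtain ⟨k, hk, hke⟩ := htrK e (hE'A he) e' (hE'A he') h1 (hone e he h1) h1' (hone e' he' h1')
    have hke' : k * e * k⁻¹ = e' := hke.resolve_right fun h => hdE (by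
      have := mul_mem (inv_mem he') (hE'N k (hK0N hk) e he)
      rwa [h, inv_mul_cancel_left] at this)
    refine ⟨k, hnS k (hK0N hk), ?_, Subgroup.mem_centralizer_singleton_iff.mp k.2, congrArg Subtype.val hke'⟩
    rw [Subgroup.orderOf_coe]
    exact hK0odd.of_dvd_nat (Subgroup.orderOf_dvd_natCard K0 hk)
  · rintro n hn hnd _ ⟨e, he, rfl⟩
    let n' : ↥X := ⟨n, Subgroup.mem_centralizer_singleton_iff.mpr hnd⟩
    have hn' : n' ∈ N := by
      rw [hN, Subgroup.mem_normalizer_iff]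
      exact fun v => Subgroup.mem_normalizer_iff.mp hn v
    exact ⟨_, hE'N n' hn' e he, rfl⟩

end CfsgLib.CyclicInt
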