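import Cfsg.Agent.Lib.CyclicInt.RadicalTI

/-!
Over the solvable radical a group with cyclic intersections of Sylow 2-subgroups has a simple normal subgroup
of odd index.

Blueprint: `blueprint/bender/S3308.md`, section 2.
-/

set_option autoImplicit false
set_option linter.unusedSectionVars false
set_option linter.style.haveILetI false

namespace CfsgLib.CyclicInt

open Subgroup MulAction
open scoped Pointwise

universe u

theorem Below.mono {m n : ℕ} (h : Below.{u} n) (hmn : m ≤ n) : Below.{u} m :=
  fun Y _ _ hY hlt hns => h Y hY (hlt.trans_le hmn) hns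

variable {H : Type u} [Group H] [Finite H] {N : Subgroup H} [N.Normal] [IsSimpleGroup N]

/-- The case of one class of involutions and elementary abelian Sylow 2-subgroups. -/
theorem le_of_kind2 (hN : ¬ IsMulCommutative N) (hci : CI H) (hC : ∀ h : H, (∀ n : N, h * n = n * h) → h = 1)
    (ih : Below.{u} (Nat.card H)) (hk : Kind2 N) (a : Sylow 2 H) : (a : Subgroup H) ≤ N := by
  classical
  haveI : Fact (Nat.Prime 2) := ⟨Nat.prime_two⟩
  by_contra hcon
  obtain ⟨hnti, hone, hsq⟩ := hk
  have habel : ∀ (U : Sylow 2 N), ∀ p ∈ (U : Subgroup N), ∀ q ∈ (U : Subgroup N), p * q = q * p :=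
    fun U p hp q hq => by
      have e1 := hsq U _ (mul_mem hp hq)
      have ep : p⁻¹ = p := inv_eq_of_mul_eq_one_right (hsq U p hp)
      have eq' : q⁻¹ = q := inv_eq_of_mul_eq_one_right (hsq U q hq)
      conv_lhs => rw [← inv_eq_of_mul_eq_one_right e1, mul_inv_rev, ep, eq']
  have hcen : ∀ z : N, Inv2 z → z ∈ (sub N a : Subgroup N) → Cen (sub N a) z := fun z hz hza =>
    ⟨hz, hza, fun s hs => habel _ s hs z hza⟩
  obtain ⟨z, w, hz, hw, hzw⟩ := exists_two_sub hN hci a
  -- an odd order group transitive on the involutions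
  set M := Subgroup.normalizer ((sub N a : Subgroup N) : Set N) with hMdef
  let PM : Sylow 2 M := (sub N a).subtype Subgroup.le_normalizer
  haveI : (PM : Subgroup M).Normal := Subgroup.normal_in_normalizer
  obtain ⟨C, hCc⟩ := Subgroup.exists_right_complement'_of_coprime (N := (PM : Subgroup M)) (PM.card_coprime_index)
  set K : Subgroup H := (C.map M.subtype).map N.subtype with hKdef
  obtain ⟨x, hxa, hx, hxN, -, hxZ⟩ := exists_fixed_invol hN hci (K := K) (Subgroup.map_subtype_le _)
    (by
      rw [hKdef, Subgroup.card_map_of_injective N.subtype_injective, Subgroup.card_map_of_injective M.subtype_injective]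
      have h1 := PM.not_dvd_index
      rw [hCc.symm.index_eq_card] at h1
      exact Nat.not_even_iff_odd.mp fun he => h1 he.two_dvd)
    (by
      rintro _ ⟨k, ⟨k', -, rfl⟩, rfl⟩
      refine sub_inj hN hci ?_
      show sub N (((k' : N) : H) • a) = sub N a
      rw [sub_smul, smul_eq_iff_normalizer.mpr k'.2])
    (fun u v hu hv hua hva => by
      obtain ⟨g, hg⟩ := hone u v hu hv
      obtain ⟨n, hn, hnv⟩ := (hci.subgroup N).fusion (S := sub N a) hz hw hzw (x := u) (g := g) hua
        (by rw [hg]; exact hva)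
      obtain ⟨⟨p, k⟩, hpk, -⟩ := hCc.existsUnique (⟨n, hn⟩ : M)
      refine ⟨_, ⟨_, ⟨k, k.2, rfl⟩, rfl⟩, ?_⟩
      have hk' : ((k : M) : N) * u * ((k : M) : N)⁻¹ = v := by
        have hmem : ((k : M) : N) * u * ((k : M) : N)⁻¹ ∈ (sub N a : Subgroup N) :=
          (Subgroup.mem_normalizer_iff.mp (k : M).2 u).mp hua
        have hp : ((p : M) : N) ∈ (sub N a : Subgroup N) := p.2
        have hne : n = ((p : M) : N) * ((k : M) : N) := (congrArg (fun m : M => (m : N)) hpk).symm
        rw [← hg, ← hnv, hne, mul_inv_rev,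
          show ((p : M) : N) * ((k : M) : N) * u * (((k : M) : N)⁻¹ * ((p : M) : N)⁻¹) =
            ((p : M) : N) * (((k : M) : N) * u * ((k : M) : N)⁻¹) * ((p : M) : N)⁻¹ by group,
          habel _ _ hp _ hmem, mul_inv_cancel_right]
      simpa using congrArg Subtype.val hk') hcon
  -- the centraliser of the involution `z`
  set e : H := (z : H) with hedef
  have he : Inv2 e := inv2_coe.mpr hz.1
  let X := ctr e
  have hxe : x * e = e * x := hxZ z hz.1 hz.2.1
  have hwe : (w : H) * e = e * w := congrArg Subtype.val (habel _ w hw.2.1 z hz.2.1)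
  obtain ⟨P, hP⟩ := (a.2.comap_subtype (K := X)).exists_le_sylow
  have hsub : ∀ v : H, v * e = e * v → v ∈ (a : Subgroup H) → ∃ h : v ∈ X, (⟨v, h⟩ : ↥X) ∈ (P : Subgroup ↥X) :=
    fun v hv hva => ⟨Subgroup.mem_centralizer_singleton_iff.mpr hv, hP hva⟩
  obtain ⟨hzX, hzP⟩ := hsub e rfl hz.2.1
  obtain ⟨hwX, hwP⟩ := hsub w hwe hw.2.1
  obtain ⟨hxX, hxP⟩ := hsub x hxe hxa
  have iv : ∀ {v : H} (h : v ∈ X), Inv2 v → Inv2 (⟨v, h⟩ : ↥X) := fun h hv =>
    ⟨fun e' => hv.1 (congrArg Subtype.val e'), Subtype.ext hv.2⟩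
  have h8 : Eight P := ⟨⟨e, hzX⟩, ⟨w, hwX⟩, ⟨x, hxX⟩, iv _ he, iv _ (inv2_coe.mpr hw.1), iv _ hx,
    fun e' => hzw (Subtype.ext (congrArg (fun v : ↥X => (v : H)) e')),
    fun e' => hxN (by rw [← show e = x from congrArg Subtype.val e']; exact z.2),
    fun e' => hxN (by rw [← show (w : H) = x from congrArg Subtype.val e']; exact w.2),
    fun e' => hxN (by rw [show x = e * w from congrArg Subtype.val e']; exact mul_mem z.2 w.2),
    hzP, hwP, hxP, Subtype.ext hwe.symm, Subtype.ext hxe.symm, Subtype.ext (hxZ w hw.1 hw.2.1).symm⟩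
  obtain ⟨d, hd⟩ := not_ti (G := N) hnti
  obtain ⟨g, hg⟩ := hone d z hd.1 hz.1
  obtain ⟨-, U1, U2, hU, hU1, hU2⟩ := hd.conj g
  rw [hg] at hU1 hU2
  have hns : ¬ (P : Subgroup ↥X).Normal := fun hn => by
    haveI := Sylow.unique_of_normal P hn
    have hle : ∀ U : Sylow 2 N, z ∈ (U : Subgroup N) →
        (U : Subgroup N) ≤ ((P : Subgroup ↥X).map X.subtype).subgroupOf N := fun U hzU => by
      have hUX : ∀ u ∈ (U : Subgroup N), (u : H) ∈ X := fun u hu =>
        Subgroup.mem_centralizer_singleton_iff.mpr (congrArg Subtype.val (habel U u hu z hzU))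
      obtain ⟨P', hP'⟩ := ((U.2.map N.subtype).comap_subtype (K := X)).exists_le_sylow
      rw [Subsingleton.elim P' P] at hP'
      exact fun u hu => ⟨⟨u, hUX u hu⟩, hP' ⟨u, hu, rfl⟩, rfl⟩
    have h2 : IsPGroup 2 ↥(((P : Subgroup ↥X).map X.subtype).subgroupOf N) := (P.2.map _).comap_subtype
    exact hU (Sylow.ext ((U1.is_maximal' h2 (hle U1 hU1)).symm.trans (U2.is_maximal' h2 (hle U2 hU2))))
  have hlt : Nat.card ↥X < Nat.card H := by
    refine CfsgLib.card_lt_of_lt_top (lt_top_iff_ne_top.mpr fun e' => not_center hN (hci.subgroup N) hz.1 ?_)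
    exact Subgroup.mem_center_iff.mpr fun v => Subtype.ext
      (Subgroup.mem_centralizer_singleton_iff.mp (e' ▸ Subgroup.mem_top (v : H) : (v : H) ∈ X))
  obtain ⟨Kc⟩ := exists_comp (hci.subgroup X) (fun h => ih _ (hci.subgroup X) hlt h)
    (show Inv2 (self e) from ⟨fun h => he.1 (congrArg Subtype.val h), Subtype.ext he.2⟩) (self_center e) h8 hns
  obtain ⟨v, hvV, hvx⟩ := exists_coset Kc hw.1 hwe (fun h => hzw (Subtype.ext h.symm)) he hx hxe
  have hv2 : Two (v : H) := by
    obtain ⟨j, hj⟩ := Kc.V_two ⟨v, hvV⟩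
    exact ⟨j, congrArg (fun q : Kc.V => ((q : ↥X) : H)) hj⟩
  have hva : (v : H) ∈ (a : Subgroup H) := by
    refine (smul_eq_self_iff hv2).mp (smul_eq_of_sub hN hci fun s hs => ?_)
    have hsX : (s : H) ∈ X := Subgroup.mem_centralizer_singleton_iff.mpr
      (congrArg Subtype.val (habel _ s hs z hz.2.1))
    have h := congrArg Subtype.val (Subgroup.mem_center_iff.mp (Kc.V_center hvV) ⟨s, hsX⟩)
    rw [mul_assoc, show (s : H) * v = v * s from h, inv_mul_cancel_left]
    exact hs
  let s : N := ⟨(v : H)⁻¹ * x, hvx⟩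
  have hsa : s ∈ (sub N a : Subgroup N) := mul_mem (inv_mem hva) hxa
  have hs2 : (s : H) * s = 1 := congrArg Subtype.val (hsq _ s hsa)
  have hsx : x * (s : H) = s * x := by
    by_cases h1 : s = 1
    · simp [h1]
    · exact hxZ s ⟨h1, hsq _ s hsa⟩ hsa
  have hvv : (v : H) * v = 1 := by
    have e1 : (v : H) = x * (s : H) := by
      rw [← inv_eq_of_mul_eq_one_right hs2]
      show (v : H) = x * ((v : H)⁻¹ * x)⁻¹
      rw [mul_inv_rev, inv_inv, mul_inv_cancel_left]
    rw [e1, show x * (s : H) * (x * s) = x * ((s : H) * x) * s by group, ← hsx,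
      show x * (x * (s : H)) * s = x * x * ((s : H) * s) by group, hx.2, hs2, one_mul]
  have hvN : (v : H) ∈ N := by
    by_cases h1 : v = 1
    · simp [h1]
    · haveI := Kc.V_cyclic
      rw [eq_of_inv_cyclic (B := Kc.V) hvV Kc.d_mem ⟨h1, Subtype.ext hvv⟩
        ⟨fun h => he.1 (congrArg Subtype.val h), Subtype.ext he.2⟩]
      exact z.2
  exact hxN (by simpa using mul_mem hvN hvx)

/-- A minimal normal subgroup of a group with trivial radical is simple, with trivial centraliser. -/
theorem exists_simple_normal {H : Type u} [Group H] [Finite H] (hci : CI H) (hns : ¬ Group.IsSolvable H)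
    (hrad : ∀ K : Subgroup H, K.Normal → Group.IsSolvable K → K = ⊥) :
    ∃ N : Subgroup H, N.Normal ∧ IsSimpleGroup N ∧ ¬ IsMulCommutative N ∧
      ∀ h : H, (∀ n : N, h * n = n * h) → h = 1 := by
  classical
  have htop : (⊤ : Subgroup H) ≠ ⊥ := fun e => hns (by
    haveI : Subsingleton H := Subgroup.subsingleton_iff.mp (subsingleton_of_bot_eq_top e.symm)
    infer_instance)
  obtain ⟨N, hNn, -, hN0, hmin⟩ := CfsgLib.exists_minimal_normal htop
  haveI := hNn
  have hNns : ¬ Group.IsSolvable N := fun h => hN0 (hrad N hNn h)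
  have hnab : ¬ IsMulCommutative N := fun h => hNns (Group.isSolvable_of_comm h.is_comm.comm)
  haveI : Nontrivial N := (Subgroup.nontrivial_iff_ne_bot N).mpr hN0
  haveI hsimple : IsSimpleGroup N := ⟨fun M0 hM0 => by
    by_contra hcon
    push Not at hcon
    obtain ⟨M, hMn, hMle, hMne, hMmin⟩ := CfsgLib.exists_minimal_normal (N := M0) hcon.1
    haveI := hMn
    have hMns : ¬ Group.IsSolvable M := fun h => by
      have h1 : M ≤ CfsgLib.solvableRadical N := CfsgLib.le_solvableRadical h
      have h2 : (CfsgLib.solvableRadical N).map N.subtype = ⊥ := hrad _ ConjAct.normal_of_characteristic_of_normal (by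
        haveI := CfsgLib.isSolvable_solvableRadical (G := N)
        exact Group.isSolvable_of_surjective (f := N.subtype.subgroupMap (CfsgLib.solvableRadical N))
          (N.subtype.subgroupMap_surjective _))
      rw [Subgroup.map_eq_bot_iff_of_injective _ N.subtype_injective] at h2
      exact hMne (le_bot_iff.mp (h2 ▸ h1))
    by_cases hall : ∀ g : H, M.map (MulAut.conjNormal (H := N) g).toMonoidHom = M
    · have hnorm : (M.map N.subtype).Normal := ⟨by
        rintro _ ⟨m, hm, rfl⟩ g
        exact ⟨_, (hall g).le ⟨m, hm, rfl⟩, by simp⟩⟩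
      rcases hmin _ hnorm (Subgroup.map_subtype_le M) with h | h
      · exact hMne ((Subgroup.map_eq_bot_iff_of_injective _ N.subtype_injective).mp h)
      · refine hcon.2 (top_le_iff.mp (le_trans (fun v _ => ?_) hMle))
        obtain ⟨m, hm, e⟩ := (h.ge v.2 : (v : H) ∈ M.map N.subtype)
        rwa [← Subtype.ext e]
    · push Not at hall
      obtain ⟨g, hg⟩ := hall
      set M' := M.map (MulAut.conjNormal (H := N) g).toMonoidHom with hM'
      haveI : M'.Normal := hMn.map _ (MulEquiv.surjective _)
      rcases hMmin (M ⊓ M') inferInstance inf_le_left with h | h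
      · refine no_commuting (hci.subgroup N) hMns (fun hs => hMns ?_) (fun p hp q hq =>
          Subgroup.commute_of_normal_of_disjoint M M' hMn inferInstance (disjoint_iff.mpr h) p q hp hq)
        haveI : Group.IsSolvable M' := hs
        exact Group.isSolvable_of_isSolvable_injective
          (f := (M.equivMapOfInjective (MulAut.conjNormal (H := N) g).toMonoidHom (MulEquiv.injective _)).toMonoidHom)
          (MulEquiv.injective _)
      · exact hg (Subgroup.eq_of_le_of_card_ge (inf_eq_left.mp h)
          (le_of_eq (Subgroup.card_map_of_injective (MulEquiv.injective _)))).symm⟩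
  refine ⟨N, hNn, hsimple, hnab, fun h hh => ?_⟩
  have hcen : Subgroup.centralizer (N : Set H) = ⊥ := by
    by_contra hne
    refine no_commuting hci (fun hs => hne (hrad _ inferInstance hs)) hNns fun p hp q hq => ?_
    exact (Subgroup.mem_centralizer_iff.mp hp q hq).symm
  exact Subgroup.mem_bot.mp (hcen ▸ Subgroup.mem_centralizer_iff.mpr fun n hn => (hh ⟨n, hn⟩).symm)

theorem eq_bot_of_solvable_quotient {Y : Type u} [Group Y] [Finite Y]
    (K : Subgroup (Y ⧸ CfsgLib.solvableRadical Y)) (hK : K.Normal) (hs : Group.IsSolvable K) : K = ⊥ := by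
  set R := CfsgLib.solvableRadical Y
  let f : ↥(K.comap (QuotientGroup.mk' R)) →* K := (QuotientGroup.mk' R).subgroupComap K
  haveI := CfsgLib.isSolvable_solvableRadical (G := Y)
  have hle : R ≤ K.comap (QuotientGroup.mk' R) := fun r hr => by
    show QuotientGroup.mk' R r ∈ K
    rw [show QuotientGroup.mk' R r = 1 from (QuotientGroup.eq_one_iff r).mpr hr]
    exact one_mem K
  haveI : Group.IsSolvable ↥(K.comap (QuotientGroup.mk' R)) :=
    Group.isSolvable_of_ker_le_range (Subgroup.inclusion hle) f fun v hv =>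
      ⟨⟨v, (QuotientGroup.eq_one_iff (v : Y)).mp (congrArg Subtype.val (MonoidHom.mem_ker.mp hv))⟩, rfl⟩
  have h1 : K.comap (QuotientGroup.mk' R) ≤ R := by
    haveI := hK.comap (QuotientGroup.mk' R)
    exact CfsgLib.le_solvableRadical inferInstance
  refine (Subgroup.eq_bot_iff_forall _).mpr fun k hk => ?_
  obtain ⟨y, rfl⟩ := QuotientGroup.mk'_surjective R k
  exact (QuotientGroup.eq_one_iff y).mpr (h1 hk)

/-- The induction step. -/
theorem top_data (hB : CfsgLib.Bender.TwoClosed.PartB.{u, u}) {Y : Type u} [Group Y] [Finite Y] (hci : CI Y)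
    (hns : ¬ Group.IsSolvable Y) (ih : Below.{u} (Nat.card Y)) : Nonempty (TopData Y) := by
  classical
  set R := CfsgLib.solvableRadical Y with hR
  haveI := CfsgLib.isSolvable_solvableRadical (G := Y)
  let π := QuotientGroup.mk' R
  have hciH : CI (Y ⧸ R) := hci.of_surjective π (QuotientGroup.mk'_surjective R)
  have hle : Nat.card (Y ⧸ R) ≤ Nat.card Y := Nat.card_le_card_of_surjective π (QuotientGroup.mk'_surjective R)
  obtain ⟨N, hNn, hsimple, hnab, hC⟩ := exists_simple_normal hciH
    (CfsgLib.AfterFT.CyclicIntersect.not_solvable_quotient R hns) (fun K hK hs => eq_bot_of_solvable_quotient K hK hs)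
  haveI := hNn
  haveI := hsimple
  have ihH : Below.{u} (Nat.card (Y ⧸ R)) := ih.mono hle
  have hkind := simple_kind hB hnab (hciH.subgroup N) (ihH.mono (Subgroup.card_le_card_group N))
  have hS : ∀ a : Sylow 2 (Y ⧸ R), (a : Subgroup (Y ⧸ R)) ≤ N := fun a => by
    rcases hkind with h | ⟨h, -⟩
    · exact le_of_ti hnab hciH hB hC h a
    · exact le_of_kind2 hnab hciH hC ihH h a
  have hodd : Odd N.index := by
    haveI : Fact (Nat.Prime 2) := ⟨Nat.prime_two⟩
    obtain ⟨a⟩ : Nonempty (Sylow 2 (Y ⧸ R)) := inferInstance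
    exact Nat.not_even_iff_odd.mp fun he => a.not_dvd_index (he.two_dvd.trans (Subgroup.index_dvd_of_le (hS a)))
  let p : ↥(N.comap π) →* ↥N := π.subgroupComap N
  have hp : Function.Surjective p := fun v => by
    obtain ⟨y, hy⟩ := QuotientGroup.mk'_surjective R (v : Y ⧸ R)
    exact ⟨⟨y, show π y ∈ N from hy.symm ▸ v.2⟩, Subtype.ext hy⟩
  exact ⟨{ G1 := N.comap π, normal := inferInstance,
           odd := by rwa [Subgroup.index_comap_of_surjective _ (QuotientGroup.mk'_surjective R)],
           L := ↥N, grp := inferInstance, fin := inferInstance, simple := hsimple, nonab := hnab, π := p, surj := hp,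
           ker := fun g => ⟨fun h => (QuotientGroup.eq_one_iff (g : Y)).mp (congrArg Subtype.val h),
             fun h => Subtype.ext ((QuotientGroup.eq_one_iff (g : Y)).mpr h)⟩,
           rad_le := fun r hr => by
             show π r ∈ N
             rw [show π r = 1 from (QuotientGroup.eq_one_iff r).mpr hr]
             exact one_mem N,
           kind := hkind.imp id And.left }⟩

/-- Every nonsolvable group with cyclic intersections has the simple section. -/
theorem below_all (hB : CfsgLib.Bender.TwoClosed.PartB.{u, u}) (n : ℕ) : Below.{u} n := by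
  induction n with
  | zero => exact fun Y _ _ _ h _ => absurd h (Nat.not_lt_zero _)
  | succ n ih => exact fun Y _ _ hY hlt hns => top_data hB hY hns (ih.mono (Nat.lt_succ_iff.mp hlt))

end CfsgLib.CyclicInt
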