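import Cfsg.Agent.Lib.CyclicInt.SimpleKind
import Cfsg.Agent.Lib.Elementary

/-!
Normal simple subgroups of a group with cyclic intersections of Sylow 2-subgroups.

Blueprint: `blueprint/bender/S3308.md`, section 2.
-/

set_option autoImplicit false
set_option linter.unusedSectionVars false
set_option linter.style.haveILetI false

namespace CfsgLib.CyclicInt

open Subgroup MulAction
open scoped Pointwise

universe u

variable {H : Type u} [Group H] [Finite H]

/-- A nonsolvable group has a 2-subgroup which is not cyclic. -/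
theorem exists_noncyclic (hns : ¬ Group.IsSolvable H) : ∃ P : Sylow 2 H, ¬ IsCyclic ↥(P : Subgroup H) := by
  haveI : Fact (Nat.Prime 2) := ⟨Nat.prime_two⟩
  obtain ⟨P⟩ : Nonempty (Sylow 2 H) := inferInstance
  refine ⟨P, fun hP => hns ?_⟩
  have heven : 2 ∣ Nat.card H := by
    by_contra h
    exact hns (Cfsg.Agent.S0205.result (Nat.not_even_iff_odd.mp fun he => h he.two_dvd))
  have hmin : (Nat.card H).minFac = 2 := (Nat.minFac_eq_two_iff _).mpr heven
  set K := (MonoidHom.transferSylow P (IsCyclic.normalizer_le_centralizer hmin hP)).ker with hK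
  have hc : K.IsComplement' (P : Subgroup H) := IsCyclic.isComplement' hmin hP
  haveI : Group.IsSolvable K := by
    refine Cfsg.Agent.S0205.result ?_
    have h1 := P.not_dvd_index
    rw [hc.index_eq_card] at h1
    exact Nat.not_even_iff_odd.mp fun he => h1 he.two_dvd
  haveI : Group.IsSolvable (H ⧸ K) := by
    haveI : Group.IsNilpotent (H ⧸ K) := (IsPGroup.of_card (p := 2) (n := (Nat.card H).factorization 2) (by
      rw [← Subgroup.index_eq_card, hc.symm.index_eq_card, P.card_eq_multiplicity])).isNilpotent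
    infer_instance
  exact (Group.isSolvable_iff_subgroup_quotient K).mpr ⟨inferInstance, inferInstance⟩

/-- A nonsolvable group has two Sylow 2-subgroups. -/
theorem exists_two_sylow (hns : ¬ Group.IsSolvable H) : ∃ U V : Sylow 2 H, U ≠ V := by
  haveI : Fact (Nat.Prime 2) := ⟨Nat.prime_two⟩
  obtain ⟨P⟩ : Nonempty (Sylow 2 H) := inferInstance
  by_contra hcon
  push Not at hcon
  haveI hn : (P : Subgroup H).Normal := Subgroup.normalizer_eq_top_iff.mp (by
    rw [eq_top_iff]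
    exact fun g _ => smul_eq_iff_normalizer.mp (hcon _ _))
  haveI : Group.IsSolvable ↥(P : Subgroup H) := by
    haveI := P.2.isNilpotent
    infer_instance
  haveI : Group.IsSolvable (H ⧸ (P : Subgroup H)) := by
    refine Cfsg.Agent.S0205.result ?_
    rw [← Subgroup.index_eq_card]
    exact Nat.not_even_iff_odd.mp fun he => P.not_dvd_index he.two_dvd
  exact hns ((Group.isSolvable_iff_subgroup_quotient (P : Subgroup H)).mpr ⟨inferInstance, inferInstance⟩)

/-- Two commuting subgroups are not both nonsolvable. -/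
theorem no_commuting (hci : CI H) {A B : Subgroup H} (hA : ¬ Group.IsSolvable A) (hB : ¬ Group.IsSolvable B)
    (hAB : ∀ a ∈ A, ∀ b ∈ B, a * b = b * a) : False := by
  haveI : Fact (Nat.Prime 2) := ⟨Nat.prime_two⟩
  obtain ⟨P, hP⟩ := exists_noncyclic hB
  obtain ⟨U, V, hUV⟩ := exists_two_sylow hA
  have hcyc : ¬ IsCyclic ↥((P : Subgroup B).map B.subtype) := fun h => hP
    (isCyclic_of_injective ((P : Subgroup B).equivMapOfInjective B.subtype B.subtype_injective).toMonoidHom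
      (MulEquiv.injective _))
  have hjoin : ∀ W : Sylow 2 A, ∃ S : Sylow 2 H, (P : Subgroup B).map B.subtype ≤ S ∧
      (W : Subgroup A).map A.subtype ≤ S := fun W => by
    have hle : (P : Subgroup B).map B.subtype ≤
        Subgroup.normalizer ((W : Subgroup A).map A.subtype : Set H) := by
      rintro _ ⟨p, -, rfl⟩
      refine Subgroup.centralizer_le_normalizer _ (Subgroup.mem_centralizer_iff.mpr ?_)
      rintro _ ⟨a, -, rfl⟩
      exact hAB a a.2 p p.2
    obtain ⟨S, hS⟩ := (IsPGroup.to_sup_of_normal_right' (P.2.map B.subtype) (W.2.map A.subtype) hle).exists_le_sylow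
    exact ⟨S, le_sup_left.trans hS, le_sup_right.trans hS⟩
  obtain ⟨S, hSP, hSU⟩ := hjoin U
  obtain ⟨T, hTP, hTV⟩ := hjoin V
  have hST : S = T := by
    by_contra hne
    haveI := hci S T hne
    exact hcyc (Subgroup.isCyclic_of_le (le_inf hSP hTP))
  subst hST
  have key : ∀ W : Sylow 2 A, (W : Subgroup A).map A.subtype ≤ (S : Subgroup H) →
      (S : Subgroup H).subgroupOf A = W := fun W hW =>
    W.is_maximal' S.2.comap_subtype fun a ha => hW ⟨a, ha, rfl⟩
  exact hUV (Sylow.ext ((key U hSU).symm.trans (key V hTV)))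

variable {N : Subgroup H} [N.Normal]

theorem mem_normal_conj {v : H} (hv : v ∈ N) (g : H) : g * v * g⁻¹ ∈ N :=
  (inferInstance : N.Normal).conj_mem v hv g

/-- The Sylow subgroup `S ∩ N` of `N`. -/
noncomputable def sub (N : Subgroup H) [N.Normal] (S : Sylow 2 H) : Sylow 2 N where
  toSubgroup := (S : Subgroup H).subgroupOf N
  isPGroup' := S.2.comap_subtype
  is_maximal' := fun {Q} hQ hle => by
    haveI : Fact (Nat.Prime 2) := ⟨Nat.prime_two⟩
    obtain ⟨T, hT⟩ := (hQ.map N.subtype).exists_le_sylow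
    obtain ⟨g, rfl⟩ := MulAction.exists_smul_eq H S T
    have hQ' : Q ≤ ((g • S : Sylow 2 H) : Subgroup H).subgroupOf N := fun q hq => hT ⟨q, hq, rfl⟩
    have hcard : Nat.card ↥(((g • S : Sylow 2 H) : Subgroup H).subgroupOf N) =
        Nat.card ↥((S : Subgroup H).subgroupOf N) :=
      Nat.card_congr ((MulAut.conjNormal (H := N) g⁻¹).toEquiv.subtypeEquiv fun v => by
        rw [Subgroup.mem_subgroupOf, Subgroup.mem_subgroupOf, mem_smul_sylow, MulEquiv.toEquiv_eq_coe,
          EquivLike.coe_coe, MulAut.conjNormal_apply, inv_inv])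
    exact (Subgroup.eq_of_le_of_card_ge hle ((Subgroup.card_le_of_le hQ').trans hcard.le)).symm

theorem mem_sub {S : Sylow 2 H} {v : N} : v ∈ (sub N S : Subgroup N) ↔ (v : H) ∈ (S : Subgroup H) := Iff.rfl

theorem sub_surj (U : Sylow 2 N) : ∃ S : Sylow 2 H, sub N S = U := by
  obtain ⟨S, hS⟩ := (U.2.map N.subtype).exists_le_sylow
  exact ⟨S, Sylow.ext (U.is_maximal' (sub N S).2 fun v hv => hS ⟨v, hv, rfl⟩)⟩

theorem sub_smul (n : N) (S : Sylow 2 H) : sub N ((n : H) • S) = n • sub N S :=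
  Sylow.ext (SetLike.ext fun v => by
    rw [mem_sub, mem_smul_sylow, mem_smul_sylow, mem_sub, Subgroup.coe_mul, Subgroup.coe_mul, Subgroup.coe_inv])

theorem inv2_coe {v : N} : Inv2 (v : H) ↔ Inv2 v :=
  ⟨fun h => ⟨fun e => h.1 (congrArg Subtype.val e), Subtype.ext h.2⟩,
    fun h => ⟨fun e => h.1 (Subtype.ext e), congrArg Subtype.val h.2⟩⟩

variable [IsSimpleGroup N] (hN : ¬ IsMulCommutative N) (hci : CI H)
include hN hci

theorem exists_two_sub (S : Sylow 2 H) : ∃ z w : N, Cen (sub N S) z ∧ Cen (sub N S) w ∧ z ≠ w :=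
  exists_two_cen hN (hci.subgroup N) (sub N S)

theorem sylow_eq_of_sub {S T : Sylow 2 H} (h : ∀ v : N, (v : H) ∈ (S : Subgroup H) → (v : H) ∈ (T : Subgroup H)) :
    S = T := by
  obtain ⟨z, w, hz, hw, hne⟩ := exists_two_sub hN hci S
  exact hci.eq_of_two (inv2_coe.mpr hz.1) (inv2_coe.mpr hw.1) (fun e => hne (Subtype.ext e)) hz.2.1 hw.2.1
    (h z hz.2.1) (h w hw.2.1)

theorem sub_inj {S T : Sylow 2 H} (h : sub N S = sub N T) : S = T :=
  sylow_eq_of_sub hN hci fun v hv => by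
    have h1 : v ∈ (sub N S : Subgroup N) := hv
    rw [h] at h1
    exact h1

/-- An element normalising `S ∩ N` normalises `S`. -/
theorem smul_eq_of_sub {S : Sylow 2 H} {g : H}
    (h : ∀ v : N, (v : H) ∈ (S : Subgroup H) → g⁻¹ * v * g ∈ (S : Subgroup H)) : g • S = S :=
  (sylow_eq_of_sub hN hci fun v hv => mem_smul_sylow.mpr (h v hv)).symm

theorem not_solvable_sub : ¬ Group.IsSolvable N := not_solvable hN

/-- A group of odd order of `N`, transitive on the involutions of `S ∩ N`, centralises an involution of `S`. -/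
theorem exists_fixed_invol {S : Sylow 2 H} {K : Subgroup H} (hKN : K ≤ N) (hK : Odd (Nat.card K))
    (hKS : ∀ k ∈ K, k • S = S)
    (htr : ∀ z w : N, Inv2 z → Inv2 w → (z : H) ∈ (S : Subgroup H) → (w : H) ∈ (S : Subgroup H) →
      ∃ k ∈ K, k * z * k⁻¹ = w)
    (hS : ¬ (S : Subgroup H) ≤ N) :
    ∃ x ∈ (S : Subgroup H), Inv2 x ∧ x ∉ N ∧ (∀ k ∈ K, k * x = x * k) ∧
      ∀ z : N, Inv2 z → (z : H) ∈ (S : Subgroup H) → x * z = z * x := by
  classical
  haveI : Fact (Nat.Prime 2) := ⟨Nat.prime_two⟩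
  obtain ⟨s, hsS, hsN⟩ := SetLike.not_le_iff_exists.mp hS
  have hKn : K ≤ Subgroup.normalizer ((S : Subgroup H) : Set H) := fun k hk => smul_eq_iff_normalizer.mp (hKS k hk)
  have hSI : (S : Subgroup H) ≤ Subgroup.normalizer (((S : Subgroup H) ⊓ N : Subgroup H) : Set H) := fun g hg =>
    Subgroup.mem_normalizer_iff.mpr fun v => by
      rw [Subgroup.mem_inf, Subgroup.mem_inf]
      exact and_congr (Subgroup.mem_normalizer_iff.mp (Subgroup.le_normalizer hg) v)
        (Subgroup.mem_normalizer_iff.mp ((Subgroup.normalizer_eq_top_iff.mpr (inferInstance : N.Normal)).ge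
          (Subgroup.mem_top g)) v)
  have hKI : K ≤ Subgroup.normalizer (((S : Subgroup H) ⊓ N : Subgroup H) : Set H) := fun g hg =>
    Subgroup.mem_normalizer_iff.mpr fun v => by
      rw [Subgroup.mem_inf, Subgroup.mem_inf]
      exact and_congr (Subgroup.mem_normalizer_iff.mp (hKn hg) v)
        (Subgroup.mem_normalizer_iff.mp ((Subgroup.normalizer_eq_top_iff.mpr (inferInstance : N.Normal)).ge
          (Subgroup.mem_top g)) v)
  have hcop : (Nat.card K).Coprime (Nat.card ↥(S : Subgroup H)) := by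
    obtain ⟨i, hi⟩ := IsPGroup.iff_card.mp S.2
    rw [hi]
    exact Nat.Coprime.pow_right i (Nat.coprime_two_right.mpr hK)
  obtain ⟨c, ⟨hcS, hcK⟩, hsc⟩ := CfsgLib.coprime_fixed_quotient hKn hcop (Or.inl (by
      haveI : Group.IsSolvable K := Cfsg.Agent.S0205.result hK
      infer_instance)) (N := (S : Subgroup H) ⊓ N) inf_le_left hSI hKI hsS (fun a ha => by
      refine Subgroup.mem_inf.mpr ⟨mul_mem ((Subgroup.mem_normalizer_iff.mp (hKn ha) s).mp hsS) (inv_mem hsS), ?_⟩
      rw [show a * s * a⁻¹ * s⁻¹ = a * (s * a⁻¹ * s⁻¹) by group]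
      exact mul_mem (hKN ha) (mem_normal_conj (inv_mem (hKN ha)) s))
  have hcN : c ∉ N := fun h => hsN (by
    have h1 : s⁻¹ * c ∈ N := hsc.2
    simpa [mul_assoc] using N.mul_mem h (N.inv_mem h1))
  -- the last power outside `N`
  obtain ⟨j, hj⟩ := two_of_mem hcS
  have hex : ∃ i, c ^ 2 ^ i ∈ N := ⟨j, hj ▸ one_mem N⟩
  have hi0 : Nat.find hex ≠ 0 := fun e => hcN (by simpa [e] using Nat.find_spec hex)
  obtain ⟨i, hi⟩ := Nat.exists_eq_succ_of_ne_zero hi0
  set x := c ^ 2 ^ i with hx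
  have hxN : x ∉ N := Nat.find_min hex (by omega)
  have hx2 : x * x ∈ N := by
    have h := Nat.find_spec hex
    rwa [hi, pow_succ, pow_mul, pow_two] at h
  have hxS : x ∈ (S : Subgroup H) := pow_mem hcS _
  have hxK : ∀ k ∈ K, k * x = x * k := fun k hk =>
    (Commute.pow_right (show Commute k c from Subgroup.mem_centralizer_iff.mp hcK k hk) _).eq
  obtain ⟨z, w, hz, hw, hzw⟩ := exists_two_sub hN hci S
  -- the fixed points of `K` in `S ∩ N` are trivial
  have hsq : x * x = 1 := by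
    by_contra h
    obtain ⟨m, hm⟩ := two_of_mem (mul_mem hxS hxS)
    have hex' : ∃ l, (x * x) ^ 2 ^ l = 1 := ⟨m, hm⟩
    obtain ⟨l, hl⟩ := Nat.exists_eq_succ_of_ne_zero (show Nat.find hex' ≠ 0 from fun e => h (by
      simpa [e] using Nat.find_spec hex'))
    have hv : Inv2 ((x * x) ^ 2 ^ l) := ⟨Nat.find_min hex' (by omega), by
      have h := Nat.find_spec hex'
      rwa [hl, pow_succ, pow_mul, pow_two] at h⟩
    let v : N := ⟨(x * x) ^ 2 ^ l, pow_mem hx2 _⟩
    have hfix : ∀ k ∈ K, k * (v : H) * k⁻¹ = v := fun k hk => by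
      rw [(Commute.pow_right (Commute.mul_right (hxK k hk) (hxK k hk)) (2 ^ l)).eq, mul_inv_cancel_right]
    have hall : ∀ u : N, Cen (sub N S) u → u = v := fun u hu => by
      obtain ⟨k, hk, hkv⟩ := htr v u (inv2_coe.mp hv) hu.1 (pow_mem (mul_mem hxS hxS) _) hu.2.1
      exact Subtype.ext (hkv.symm.trans (hfix k hk))
    exact hzw ((hall z hz).trans (hall w hw).symm)
  refine ⟨x, hxS, ⟨fun e => hxN (e ▸ one_mem N), hsq⟩, hxN, hxK, ?_⟩
  -- a central involution of `S` in `N`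
  have hne : Nontrivial ↥(((S : Subgroup H) ⊓ N).subgroupOf (S : Subgroup H)) :=
    ⟨⟨⟨⟨z, hz.2.1⟩, hz.2.1, z.2⟩, 1, fun e => hz.1.1 (Subtype.ext (congrArg
      (fun a : ↥(((S : Subgroup H) ⊓ N).subgroupOf (S : Subgroup H)) => ((a : ↥(S : Subgroup H)) : H)) e))⟩⟩
  haveI : (((S : Subgroup H) ⊓ N).subgroupOf (S : Subgroup H)).Normal :=
    (Subgroup.normal_subgroupOf_iff_le_normalizer inf_le_left).mpr hSI
  obtain ⟨v, hv, hvc⟩ : ∃ v : N, Inv2 v ∧ ((v : H) ∈ (S : Subgroup H) ∧ x * v = v * x) := by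
    haveI := S.2.isNilpotent
    have hmeet : (((S : Subgroup H) ⊓ N).subgroupOf (S : Subgroup H)) ⊓ Subgroup.center ↥(S : Subgroup H) ≠ ⊥ :=
      CfsgLib.inf_center_ne_bot_of_nilpotent ((Subgroup.nontrivial_iff_ne_bot _).mp hne)
    obtain ⟨⟨y, hy⟩, hy'⟩ := Subgroup.ne_bot_iff_exists_ne_one.mp hmeet
    have hy1 : y ≠ 1 := fun e => hy' (Subtype.ext e)
    obtain ⟨m, hm⟩ := S.2 y
    have hex' : ∃ l, y ^ 2 ^ l = 1 := ⟨m, hm⟩
    obtain ⟨l, hl⟩ := Nat.exists_eq_succ_of_ne_zero (show Nat.find hex' ≠ 0 from fun e => hy1 (by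
      simpa [e] using Nat.find_spec hex'))
    refine ⟨⟨((y ^ 2 ^ l : ↥(S : Subgroup H)) : H), ?_⟩, ⟨fun e => ?_, ?_⟩, (y ^ 2 ^ l).2, ?_⟩
    · exact (pow_mem hy.1 (2 ^ l) : y ^ 2 ^ l ∈ ((S : Subgroup H) ⊓ N).subgroupOf (S : Subgroup H)).2
    · exact Nat.find_min hex' (show l < Nat.find hex' by omega) (Subtype.ext (show ((y ^ 2 ^ l : ↥(S : Subgroup H)) : H) = 1 from congrArg (fun a : N => (a : H)) e))
    · have h := Nat.find_spec hex'
      rw [hl, pow_succ, pow_mul, pow_two] at h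
      exact Subtype.ext (show ((y ^ 2 ^ l : ↥(S : Subgroup H)) : H) * ((y ^ 2 ^ l : ↥(S : Subgroup H)) : H) = 1 from
        congrArg (fun a : ↥(S : Subgroup H) => (a : H)) h)
    · exact congrArg Subtype.val (Subgroup.mem_center_iff.mp (pow_mem hy.2 (2 ^ l)) ⟨x, hxS⟩)
  intro z hz hzS
  obtain ⟨k, hk, hkv⟩ := htr v z hv hz hvc.1 hzS
  rw [← hkv]
  exact (Commute.mul_right (Commute.mul_right (hxK k hk).symm hvc.2) (Commute.inv_right (hxK k hk).symm)).eq

omit hN hci in
/-- A component of an involution centraliser meeting `N`: involutions are congruent to central 2-elements. -/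
theorem exists_coset {e : H} (K : Comp ↥(ctr e) (self e)) {z : N} (hzI : Inv2 z)
    (hzc : (z : H) * e = e * z) (hze : (z : H) ≠ e) (he : Inv2 e) {w : H} (hw : Inv2 w) (hwe : w * e = e * w) :
    ∃ v ∈ K.V, ((v : ↥(ctr e)) : H)⁻¹ * w ∈ N := by
  classical
  set X := ctr e
  let w' : ↥X := ⟨w, Subgroup.mem_centralizer_singleton_iff.mpr hwe⟩
  let z' : ↥X := ⟨z, Subgroup.mem_centralizer_singleton_iff.mpr hzc⟩
  have h2w : Two w' := ⟨1, Subtype.ext (by simp [pow_two, w', hw.2])⟩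
  have h2z : Two z' := ⟨1, Subtype.ext (by simpa [pow_two, z'] using congrArg Subtype.val hzI.2)⟩
  set M : Subgroup ↥K.G1 := (N.subgroupOf X).subgroupOf K.G1
  haveI : M.Normal := inferInstance
  have htop : M.map K.π = ⊤ := by
    haveI := (inferInstance : M.Normal).map K.π K.surj
    refine (IsSimpleGroup.eq_bot_or_eq_top_of_normal _ inferInstance).resolve_left fun h => ?_
    have h1 : K.π ⟨z', K.two_mem h2z⟩ = 1 := Subgroup.mem_bot.mp (h ▸ ⟨⟨z', K.two_mem h2z⟩, z.2, rfl⟩)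
    have hV := K.two_ker _ h1 h2z
    haveI := K.V_cyclic
    exact hze (congrArg Subtype.val (eq_of_inv_cyclic (B := K.V) hV K.d_mem
      ⟨fun h => hzI.1 (Subtype.ext (congrArg (fun a : ↥X => (a : H)) h)),
        Subtype.ext (show (z : H) * z = 1 from congrArg Subtype.val hzI.2)⟩
      ⟨fun h => he.1 (congrArg Subtype.val h), Subtype.ext he.2⟩))
  obtain ⟨n, hnM, hn⟩ : ∃ n ∈ M, K.π n = K.π ⟨w', K.two_mem h2w⟩ := by
    have := htop ▸ Subgroup.mem_top (K.π ⟨w', K.two_mem h2w⟩)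
    exact this
  set k : ↥K.G1 := n⁻¹ * ⟨w', K.two_mem h2w⟩ with hk
  have hk1 : K.π k = 1 := by rw [hk, map_mul, map_inv, hn, inv_mul_cancel]
  obtain ⟨a, b, ha, hb, ha2, hbo, hab⟩ := exists_split k
  have haker : K.π a = 1 := by
    obtain ⟨i, rfl⟩ := ha
    rw [map_zpow, hk1, one_zpow]
  have haV : (a : ↥X) ∈ K.V := K.two_ker a haker (by
    obtain ⟨j, hj⟩ := ha2
    exact ⟨j, by rw [← Subgroup.coe_pow, hj, Subgroup.coe_one]⟩)
  refine ⟨a, haV, ?_⟩
  -- modulo `N`
  let φ : ↥K.G1 →* H ⧸ N := (QuotientGroup.mk' N).comp (X.subtype.comp K.G1.subtype)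
  have hφn : φ n = 1 := (QuotientGroup.eq_one_iff ((n : ↥X) : H)).mpr hnM
  have hφw : φ ⟨w', K.two_mem h2w⟩ = QuotientGroup.mk' N w := rfl
  have hφk : φ k = QuotientGroup.mk' N w := by rw [hk, map_mul, map_inv, hφn, inv_one, one_mul, hφw]
  have hk2 : φ k ^ 2 = 1 := by rw [hφk, ← map_pow, pow_two, hw.2, map_one]
  have hb2 : φ b ^ 2 = 1 := by
    obtain ⟨i, rfl⟩ := hb
    rw [map_zpow, ← zpow_natCast, ← zpow_mul, mul_comm, zpow_mul, zpow_natCast, hk2, one_zpow]
  have hb1 : φ b = 1 := eq_one_of_two_odd' ⟨1, by rw [pow_one]; exact hb2⟩ (hbo.of_dvd_nat (orderOf_map_dvd φ b))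
  have hφa : φ a = QuotientGroup.mk' N w := by rw [← hφk, hab, map_mul, hb1, mul_one]
  exact QuotientGroup.eq.mp hφa

end CfsgLib.CyclicInt
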