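import Cfsg.Agent.Lib.CyclicInt.RadicalBase
import Cfsg.Agent.Lib.CyclicInt.CaseBBase
import Cfsg.Agent.Lib.CyclicInt.UnitaryDelta
import Cfsg.Agent.Lib.SuzukiRankOne.Unitary
import Cfsg.Agent.Lib.SuzukiRankOne.Basics
import Cfsg.Agent.Lib.SuzukiRankOne.WTrivial

/-!
An outer involution centralising the torus of a normal simple subgroup of rank one does not exist.

Blueprint: `blueprint/bender/S3308.md`, section 2.
-/

set_option autoImplicit false
set_option linter.unusedSectionVars false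
set_option linter.style.haveILetI false

namespace CfsgLib.CyclicInt

open Subgroup MulAction
open scoped Pointwise

universe u

variable {H : Type u} [Group H] [Finite H] {N : Subgroup H} [N.Normal] [IsSimpleGroup N]

theorem coe_smul_sylow (n : N) (S : Sylow 2 H) : n • S = (n : H) • S := rfl

theorem two_coe {v : N} (h : Two v) : Two (v : H) := by
  obtain ⟨k, hk⟩ := h
  exact ⟨k, by rw [← Subgroup.coe_pow, hk, Subgroup.coe_one]⟩

theorem mem_iff_fix {v : N} (h : Two v) (S : Sylow 2 H) : v • S = S ↔ (v : H) ∈ (S : Subgroup H) :=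
  smul_eq_self_iff (two_coe h)

variable (hN : ¬ IsMulCommutative N) (hci : CI H)
include hN hci

theorem pretransitive_sub : IsPretransitive N (Sylow 2 H) := ⟨fun S T => by
  haveI : Fact (Nat.Prime 2) := ⟨Nat.prime_two⟩
  obtain ⟨n, hn⟩ := MulAction.exists_smul_eq N (sub N S) (sub N T)
  exact ⟨n, sub_inj hN hci (by rw [coe_smul_sylow, sub_smul, hn])⟩⟩

theorem faithful_sub : FaithfulSMul N (Sylow 2 H) := by
  haveI := faithful_sylow (L := N) hN
  refine ⟨fun {x y} h => eq_of_smul_eq_smul fun U : Sylow 2 N => ?_⟩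
  obtain ⟨S, rfl⟩ := sub_surj U
  rw [← sub_smul, ← sub_smul]
  exact congrArg (sub N) (h S)

theorem exists_setup_sub (hB : CfsgLib.Bender.TwoClosed.PartB.{u, u}) (hTI : TI N) (a : Sylow 2 H) :
    ∃ t : N, Cfsg.IsRankOneSetup N (Sylow 2 H) a t (sub N a : Subgroup N) ∧
      CfsgLib.SuzukiRankOne.Four N ∧ CfsgLib.SuzukiRankOne.Concl a t (sub N a : Subgroup N) := by
  haveI : Fact (Nat.Prime 2) := ⟨Nat.prime_two⟩
  haveI := faithful_sub hN hci
  obtain ⟨z, w, hz, hw, hne⟩ := exists_two_sub hN hci a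
  have h4 : CfsgLib.SuzukiRankOne.Four N :=
    ⟨z, w, hz.1.1, hw.1.1, hne, hz.1.2, hw.1.2, (hz.2.2 w hw.2.1).symm⟩
  have hC : CfsgLib.Bender.TwoClosed.Closed N (Sylow 2 H) a (sub N a : Subgroup N) :=
    { trans := pretransitive_sub hN hci
      one_fix := fun x hx => by
        have hx' : Inv2 x := hx
        obtain ⟨T, hT⟩ := hx'.two.exists_sylow
        obtain ⟨S, rfl⟩ := sub_surj T
        exact ⟨S, (mem_iff_fix hx'.two S).mpr hT, fun U hU =>
          sub_inj hN hci (hTI _ _ x hx' ((mem_iff_fix hx'.two U).mp hU) hT)⟩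
      four := h4
      le := fun x hx => mem_stabilizer_iff.mpr ((mem_iff_fix (two_of_mem hx) a).mpr hx)
      conj := fun g hg x hx => by
        rw [mem_sub, Subgroup.coe_mul, Subgroup.coe_mul, Subgroup.coe_inv]
        have := conj_mem_smul_sylow (g := (g : H)) (S := a) (mem_sub.mp hx)
        rwa [show (g : H) • a = a from hg] at this
      two_group := (sub N a).2
      two_mem := fun x hx h2 => (mem_iff_fix h2 a).mp hx }
  obtain ⟨t, ht⟩ := CfsgLib.Bender.TwoClosed.exists_setup hB hC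
  exact ⟨t, ht, h4, hB N (Sylow 2 H) a t _ ht h4⟩

omit hN hci in
/-- An involution outside `N` fixing two points and centralising their stabiliser in `N`. -/
structure Outer (a : Sylow 2 H) (t : N) (x : H) : Prop where
  noncomm : ¬ IsMulCommutative N
  ci : CI H
  faithful : ∀ h : H, (∀ n : N, h * n = n * h) → h = 1
  setup : Cfsg.IsRankOneSetup N (Sylow 2 H) a t (sub N a : Subgroup N)
  four : CfsgLib.SuzukiRankOne.Four N
  inv : Inv2 x
  mem : x ∈ (a : Subgroup H)
  out : x ∉ N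
  fix_b : x • t • a = t • a
  centD : ∀ d ∈ CfsgLib.RankOne.D a t, x * (d : H) = (d : H) * x
  centZ : ∀ z : N, Inv2 z → (z : H) ∈ (a : Subgroup H) → x * z = z * x

omit hN hci in
/-- The centraliser of `x` in `N`. -/
def CX (N : Subgroup H) (x : H) : Subgroup N := (Subgroup.centralizer ({x} : Set H)).subgroupOf N

omit hN hci in
theorem mem_CX {x : H} {g : N} : g ∈ CX N x ↔ (g : H) * x = x * g :=
  Subgroup.mem_centralizer_singleton_iff

omit hN hci in
/-- The involutions of `N` fixing a point. -/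
abbrev InvIn (N : Subgroup H) (c : Sylow 2 H) : Type u := {z : N // Inv2 z ∧ (z : H) ∈ (c : Subgroup H)}

namespace Outer

omit hN hci

variable {a : Sylow 2 H} {t : N} {x : H} (O : Outer a t x)
include O

theorem x_inv : x⁻¹ = x := O.inv.inv

theorem x_smul_a : x • a = a := (smul_eq_self_iff O.inv.two).mpr O.mem

theorem conj_mem_N (g : N) : x * g * x ∈ N := by
  have := mem_normal_conj g.2 x
  rwa [O.x_inv] at this

theorem uniq {y y' : H} (hy : Inv2 y) (hy' : Inv2 y') (hyN : x * y ∈ N) (hyN' : x * y' ∈ N) {h k : Sylow 2 H}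
    (hne : h ≠ k) (h1 : y • h = h) (h2 : y • k = k) (h1' : y' • h = h) (h2' : y' • k = k) : y = y' := by
  haveI := faithful_sub O.noncomm O.ci
  obtain ⟨n, hna, hnb⟩ := CfsgLib.RankOne.two_pt O.setup hne (CfsgLib.RankOne.ta_ne O.setup).symm
  have key : ∀ v : H, Inv2 v → x * v ∈ N → v • h = h → v • k = k → (n : H) * v * (n : H)⁻¹ = x := by
    intro v hv hvN hvh hvk
    set Y := (n : H) * v * (n : H)⁻¹ with hY
    have hdN : x * Y ∈ N := by
      rw [hY, show x * ((n : H) * v * (n : H)⁻¹) = x * n * x⁻¹ * (x * v) * (n : H)⁻¹ by group]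
      exact mul_mem (mul_mem (mem_normal_conj n.2 x) hvN) (inv_mem n.2)
    have hYa : Y • a = a := by
      rw [← hna, coe_smul_sylow, hY, ← mul_smul, inv_mul_cancel_right, mul_smul, hvh]
    have hYb : Y • t • a = t • a := by
      rw [← hnb, coe_smul_sylow, hY, ← mul_smul, inv_mul_cancel_right, mul_smul, hvk]
    let d : N := ⟨x * Y, hdN⟩
    have hd : d ∈ CfsgLib.RankOne.D a t := by
      rw [CfsgLib.RankOne.mem_D O.setup]
      exact ⟨by rw [coe_smul_sylow, show ((d : N) : H) = x * Y from rfl, mul_smul, hYa, O.x_smul_a],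
        by rw [coe_smul_sylow d, show ((d : N) : H) = x * Y from rfl, mul_smul, hYb, O.fix_b]⟩
    have hc : x * (x * Y) = x * Y * x := O.centD d hd
    rw [O.inv.mul_mul_self] at hc
    have hY2 : Y * Y = 1 := (hv.conj _).2
    have hd1 : d = 1 := CfsgLib.RankOne.D_mul_self O.setup hd (Subtype.ext (by
      show x * Y * (x * Y) = 1
      calc x * Y * (x * Y) = x * Y * x * Y := by group
        _ = Y * Y := by rw [← hc]
        _ = 1 := hY2))
    have h := congrArg Subtype.val hd1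
    exact ((inv_eq_of_mul_eq_one_right h).symm.trans O.x_inv)
  have := (key y hy hyN h1 h2).trans (key y' hy' hyN' h1' h2').symm
  exact mul_left_cancel (mul_right_cancel this)

theorem move {c : Sylow 2 H} (hc : x • c = c) : ∃ n : N, (n : H) * x = x * n ∧ n • a = c := by
  by_cases hca : c = a
  · exact ⟨1, by simp, by rw [one_smul, hca]⟩
  obtain ⟨n, hna, hnb⟩ := CfsgLib.RankOne.two_pt O.setup (CfsgLib.RankOne.ta_ne O.setup).symm hca
  have hxx : x * x ∈ N := by rw [O.inv.2]; exact one_mem N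
  have hyN : x * ((n : H) * x * (n : H)⁻¹) ∈ N := by
    rw [show x * ((n : H) * x * (n : H)⁻¹) = x * n * x * (n : H)⁻¹ by group]
    exact mul_mem (O.conj_mem_N n) (inv_mem n.2)
  have e := O.uniq (O.inv.conj (n : H)) O.inv hyN hxx hca
    (by rw [← hna, coe_smul_sylow, ← mul_smul, inv_mul_cancel_right, mul_smul, O.x_smul_a])
    (by rw [← hnb, coe_smul_sylow n, ← mul_smul, inv_mul_cancel_right, mul_smul, O.fix_b]) hc O.x_smul_a
  exact ⟨n, mul_inv_eq_iff_eq_mul.mp e, hna⟩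

theorem centZ_all {c : Sylow 2 H} (hc : x • c = c) {z : N} (hz : Inv2 z) (hzc : (z : H) ∈ (c : Subgroup H)) :
    x * z = z * x := by
  obtain ⟨n, hn, rfl⟩ := O.move hc
  rw [coe_smul_sylow, mem_smul_sylow] at hzc
  have h := O.centZ (n⁻¹ * z * n) (by simpa using hz.conj n⁻¹) (by simpa using hzc)
  rw [Subgroup.coe_mul, Subgroup.coe_mul, Subgroup.coe_inv] at h
  have h1 : Commute x ((n : H)⁻¹ * z * n) := h
  have h2 : Commute x (n : H) := hn.symm
  have h3 := (h2.mul_right h1).mul_right h2.inv_right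
  rwa [show (n : H) * ((n : H)⁻¹ * z * n) * (n : H)⁻¹ = z by group] at h3

theorem centre {z : N} (hz : Inv2 z) (h : x * z = z * x) {c : Sylow 2 H} (hc : z • c = c) : x • c = c :=
  CfsgLib.RankOne.fix_unique O.setup hz.1 hz.2 (p := x • c) (by
    rw [coe_smul_sylow, ← mul_smul, ← h, mul_smul, show (z : H) • c = c from hc]) hc

theorem inQ {z : N} (hz : Inv2 z) : (z : H) ∈ (a : Subgroup H) ↔ z ∈ (sub N a : Subgroup N) := Iff.rfl

theorem invol_mem_iff {z : N} :
    z ∈ Cfsg.involutionsIn (stabilizer N a : Set N) ↔ Inv2 z ∧ (z : H) ∈ (a : Subgroup H) :=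
  ⟨fun h => ⟨⟨h.2.1, h.2.2⟩, (mem_iff_fix (Inv2.two (x := z) ⟨h.2.1, h.2.2⟩) a).mp h.1⟩,
    fun h => ⟨(mem_iff_fix h.1.two a).mpr h.2, h.1.1, h.1.2⟩⟩

theorem card_invIn : Nat.card (InvIn N a) + 1 = CfsgLib.SuzukiRankOne.qZ N a :=
  congrArg (· + 1) (Nat.card_congr (Equiv.subtypeEquivRight fun _ => O.invol_mem_iff.symm))

/-- An element of `Q` moving `x` into `x` times a given involution. -/
theorem conj_xz (hsq : ∀ v ∈ (sub N a : Subgroup N), v * v * (v * v) = 1) {z : N} (hz : Inv2 z)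
    (hza : (z : H) ∈ (a : Subgroup H)) :
    ∃ g ∈ (sub N a : Subgroup N), (g : H) * x * (g : H)⁻¹ = z * x := by
  haveI := faithful_sub O.noncomm O.ci
  obtain ⟨g, hgQ, hgx⟩ : ∃ g ∈ (sub N a : Subgroup N), ¬ (g : H) * x = x * g := by
    by_contra hcon
    push Not at hcon
    refine O.inv.1 (O.faithful x fun n => ?_)
    have hall : ∀ c : Sylow 2 H, x • c = c := fun c => by
      by_cases hca : c = a
      · rw [hca, O.x_smul_a]
      · obtain ⟨g, hg, rfl⟩ := CfsgLib.RankOne.exists_Q_ta O.setup hca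
        rw [coe_smul_sylow g, ← mul_smul, ← hcon g hg, mul_smul, O.fix_b]
    have hn : (⟨x * n * x, O.conj_mem_N n⟩ : N) = n := eq_of_smul_eq_smul fun c : Sylow 2 H => by
      show (x * n * x) • c = (n : H) • c
      rw [mul_smul, mul_smul, hall c, hall]
    have h := congrArg Subtype.val hn
    calc x * (n : H) = x * n * (x * x) := by rw [O.inv.2, mul_one]
      _ = x * n * x * x := by group
      _ = n * x := by rw [show x * (n : H) * x = n from h]
  -- the commutator
  obtain ⟨v, hvQ, z0, hz0, hz0a, hv⟩ : ∃ v ∈ (sub N a : Subgroup N), ∃ z0 : N, Inv2 z0 ∧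
      (z0 : H) ∈ (a : Subgroup H) ∧ (v : H) * x * (v : H)⁻¹ = z0 * x := by
    let c : N := g * ⟨x * (g⁻¹ : N) * x, O.conj_mem_N _⟩
    have hcv : (c : H) = (g : H) * x * (g : H)⁻¹ * x := by simp [c, mul_assoc]
    have hga : (g : H) ∈ (a : Subgroup H) := hgQ
    have hcQ : c ∈ (sub N a : Subgroup N) := by
      rw [mem_sub, hcv]
      exact mul_mem (mul_mem (mul_mem hga O.mem) (inv_mem hga)) O.mem
    have hgc : (g : H) * x * (g : H)⁻¹ = c * x := by rw [hcv, mul_assoc _ x x, O.inv.2, mul_one]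
    have hxc : x * (c : H)⁻¹ = c * x := by
      rw [hcv, mul_inv_rev, O.x_inv, mul_assoc _ x x, O.inv.2, mul_one, ← mul_assoc, O.inv.2, one_mul, mul_inv_rev,
        mul_inv_rev, inv_inv, O.x_inv, mul_assoc]
    have hc1 : c ≠ 1 := fun e => hgx (by
      have := congrArg Subtype.val e
      rw [hcv, Subgroup.coe_one, mul_eq_one_iff_eq_inv, O.x_inv, mul_inv_eq_iff_eq_mul] at this
      exact this)
    by_cases hc2 : c * c = 1
    · exact ⟨g, hgQ, c, ⟨hc1, hc2⟩, hcQ, hgc⟩
    · refine ⟨c, hcQ, c * c, ⟨hc2, hsq c hcQ⟩, mul_mem hcQ hcQ, ?_⟩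
      show (c : H) * x * (c : H)⁻¹ = ((c * c : N) : H) * x
      rw [mul_assoc (c : H) x, hxc]
      exact (mul_assoc _ _ _).symm
  obtain ⟨k, hk, hkz⟩ := CfsgLib.RankOne.exists_conj_inverted O.setup
    (O.invol_mem_iff.mpr ⟨hz0, hz0a⟩) (O.invol_mem_iff.mpr ⟨hz, hza⟩)
  refine ⟨k⁻¹ * v * k, CfsgLib.RankOne.conj_Q' O.setup ((CfsgLib.RankOne.mem_D O.setup).mp hk.1).1 hvQ, ?_⟩
  have hc : (k : H) * x = x * k := (O.centD k hk.1).symm
  have hc' : x * (k : H)⁻¹ = (k : H)⁻¹ * x := (Commute.inv_right (show Commute x (k : H) from hc.symm)).eq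
  rw [← hkz]
  push_cast
  calc (k : H)⁻¹ * v * k * x * ((k : H)⁻¹ * v * k)⁻¹ = (k : H)⁻¹ * (v * ((k : H) * x) * (k : H)⁻¹ * (v : H)⁻¹) * k := by
        group
    _ = (k : H)⁻¹ * ((v : H) * x * (v : H)⁻¹) * k := by rw [hc]; group
    _ = (k : H)⁻¹ * (z0 : H) * (x * k) := by rw [hv]; group
    _ = (k : H)⁻¹ * (z0 : H) * k * x := by rw [← hc]; group

theorem card_fix :
    Nat.card {c : Sylow 2 H // x • c = c} = Nat.card ↥((sub N a : Subgroup N) ⊓ CX N x) + 1 := by
  classical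
  haveI := faithful_sub O.noncomm O.ci
  let f : ↥((sub N a : Subgroup N) ⊓ CX N x) → {c : Sylow 2 H // x • c = c ∧ c ≠ a} := fun g =>
    ⟨(g : N) • t • a, by
      have hg := mem_CX.mp g.2.2
      rw [coe_smul_sylow (g : N), ← mul_smul, ← hg, mul_smul, O.fix_b],
     fun e => CfsgLib.RankOne.ta_ne O.setup (smul_left_cancel (g : N)
      (e.trans (CfsgLib.RankOne.mem_Q_a O.setup g.2.1).symm))⟩
  have hf : Function.Bijective f := by
    refine ⟨fun g g' e => Subtype.ext (CfsgLib.RankOne.Q_ta_inj O.setup g.2.1 g'.2.1 (congrArg Subtype.val e)), ?_⟩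
    rintro ⟨c, hxc, hca⟩
    obtain ⟨g, hg, rfl⟩ := CfsgLib.RankOne.exists_Q_ta O.setup hca
    let g' : N := ⟨x * g * x, O.conj_mem_N g⟩
    have hg' : g' ∈ (sub N a : Subgroup N) := mul_mem (mul_mem O.mem (show (g : H) ∈ (a : Subgroup H) from hg)) O.mem
    have e : g' • t • a = g • t • a := by
      show (x * g * x) • t • a = _
      rw [mul_smul, mul_smul, O.fix_b]
      exact hxc
    have h := congrArg Subtype.val (CfsgLib.RankOne.Q_ta_inj O.setup hg' hg e)
    refine ⟨⟨g, hg, mem_CX.mpr ?_⟩, rfl⟩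
    calc (g : H) * x = x * g * x * x := by rw [show x * (g : H) * x = g from h]
      _ = x * g := by rw [mul_assoc _ x x, O.inv.2, mul_one]
  rw [Nat.card_congr (Equiv.ofBijective f hf), ← Finite.card_option]
  exact Nat.card_congr
    { toFun := fun c => if h : c.1 = a then none else some ⟨c.1, c.2, h⟩
      invFun := fun o => o.elim ⟨a, O.x_smul_a⟩ fun c => ⟨c.1, c.2.1⟩
      left_inv := fun c => by
        dsimp only
        split
        · exact Subtype.ext (by simpa using ‹c.1 = a›.symm)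
        · rfl
      right_inv := fun o => by
        cases o with
        | none => simp
        | some c => simp [c.2.2] }

theorem card_fibre (hsq : ∀ v ∈ (sub N a : Subgroup N), v * v * (v * v) = 1) {c : Sylow 2 H} (hc : x • c = c)
    (z : InvIn N c) :
    Nat.card {h : Sylow 2 H // (x * z) • h = h ∧ x • h ≠ h} = Nat.card ↥((sub N a : Subgroup N) ⊓ CX N x) := by
  classical
  obtain ⟨z, hz, hzc⟩ := z
  obtain ⟨n, hn, hnc⟩ := O.move hc
  have hza : ((n⁻¹ * z * n : N) : H) ∈ (a : Subgroup H) := by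
    rw [← hnc, coe_smul_sylow, mem_smul_sylow] at hzc
    simpa using hzc
  have hz' : Inv2 (n⁻¹ * z * n) := by simpa using hz.conj n⁻¹
  obtain ⟨g, hgQ, hg⟩ := O.conj_xz hsq hz' hza
  set m : H := (n : H) * g with hm
  have hmx : m * x * m⁻¹ = x * z := by
    have hc' : (n : H)⁻¹ * x = x * (n : H)⁻¹ := (Commute.inv_left (show Commute (n : H) x from hn)).eq
    rw [hm, show (n : H) * g * x * ((n : H) * g)⁻¹ = n * ((g : H) * x * (g : H)⁻¹) * (n : H)⁻¹ by group, hg,
      O.centZ_all hc hz hzc]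
    push_cast
    calc (n : H) * ((n : H)⁻¹ * z * n * x) * (n : H)⁻¹ = z * ((n : H) * x) * (n : H)⁻¹ := by group
      _ = z * x := by rw [hn]; group
  have hma : m • a = c := by
    rw [hm, mul_smul, ← coe_smul_sylow g, CfsgLib.RankOne.mem_Q_a O.setup hgQ, ← coe_smul_sylow n, hnc]
  have key : ∀ h : Sylow 2 H, (x * (z : H)) • h = h ∧ x • h ≠ h ↔ x • m⁻¹ • h = m⁻¹ • h ∧ m⁻¹ • h ≠ a := by
    intro h
    have h1 : x • m⁻¹ • h = m⁻¹ • h ↔ (x * (z : H)) • h = h := by
      rw [eq_inv_smul_iff, ← mul_smul, ← mul_smul, hmx]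
    rw [h1, ne_eq, ne_eq, inv_smul_eq_iff, hma]
    refine and_congr_right fun h2 => not_congr ⟨fun h3 => ?_, fun h3 => h3 ▸ hc⟩
    have h4 : z • h = h := by
      rw [coe_smul_sylow]
      rw [mul_smul] at h2
      exact smul_left_cancel x (h2.trans h3.symm)
    exact CfsgLib.RankOne.fix_unique O.setup hz.1 hz.2 h4 ((mem_iff_fix hz.two c).mpr hzc)
  have hcf := O.card_fix
  have e2 : Nat.card {c : Sylow 2 H // x • c = c} = Nat.card {c : Sylow 2 H // x • c = c ∧ c ≠ a} + 1 := by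
    rw [← Finite.card_option]
    exact Nat.card_congr
      { toFun := fun c => if h : c.1 = a then none else some ⟨c.1, c.2, h⟩
        invFun := fun o => o.elim ⟨a, O.x_smul_a⟩ fun c => ⟨c.1, c.2.1⟩
        left_inv := fun c => by
          dsimp only
          split
          · exact Subtype.ext (by simpa using ‹c.1 = a›.symm)
          · rfl
        right_inv := fun o => by
          cases o with
          | none => simp
          | some c => simp [c.2.2] }
  rw [Nat.card_congr ((MulAction.toPerm m⁻¹).subtypeEquiv key :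
    {h : Sylow 2 H // (x * (z : H)) • h = h ∧ x • h ≠ h} ≃ {c : Sylow 2 H // x • c = c ∧ c ≠ a})]
  omega

theorem invIn_equiv {c : Sylow 2 H} (hc : x • c = c) : Nat.card (InvIn N c) = Nat.card (InvIn N a) := by
  obtain ⟨n, -, rfl⟩ := O.move hc
  refine Nat.card_congr ((MulAut.conj n⁻¹).toEquiv.subtypeEquiv fun z => ?_)
  show Inv2 z ∧ _ ↔ Inv2 ((MulAut.conj n⁻¹) z) ∧ _
  rw [MulAut.conj_apply, inv_inv]
  refine and_congr ⟨fun h => by simpa using h.conj n⁻¹, fun h => by simpa [mul_assoc] using h.conj n⟩ ?_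
  rw [coe_smul_sylow, mem_smul_sylow]
  simp

/-- The moved points. -/
theorem card_moved (hsq : ∀ v ∈ (sub N a : Subgroup N), v * v * (v * v) = 1) :
    Nat.card {h : Sylow 2 H // ¬ x • h = h} =
      (Nat.card ↥((sub N a : Subgroup N) ⊓ CX N x) + 1) * (Nat.card (InvIn N a) *
        Nat.card ↥((sub N a : Subgroup N) ⊓ CX N x)) := by
  classical
  haveI := faithful_sub O.noncomm O.ci
  let f : (Σ c : {c : Sylow 2 H // x • c = c}, Σ z : InvIn N c.1, {h : Sylow 2 H // (x * z) • h = h ∧ x • h ≠ h}) →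
      {h : Sylow 2 H // ¬ x • h = h} := fun p => ⟨p.2.2.1, p.2.2.2.2⟩
  have hf : Function.Bijective f := by
    constructor
    · rintro ⟨c, z, h, h1, h2⟩ ⟨c', z', h', h1', h2'⟩ e
      have e' : h = h' := congrArg Subtype.val e
      subst e'
      have hy : ∀ {c : Sylow 2 H} (hc : x • c = c) (z : InvIn N c), Inv2 (x * (z.1 : H)) ∧
          (x * (z.1 : H)) * x = x * (x * (z.1 : H)) := fun hc z => by
        have hcz := O.centZ_all hc z.2.1 z.2.2
        refine ⟨O.inv.mul (inv2_coe.mpr z.2.1) (fun e => O.out (e ▸ z.1.2)) hcz, ?_⟩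
        rw [mul_assoc, ← hcz]
      have hk : ∀ {c : Sylow 2 H} (hc : x • c = c) (z : InvIn N c), (x * (z.1 : H)) • h = h →
          (x * (z.1 : H)) • x • h = x • h := fun hc z hh => by
        rw [← mul_smul, (hy hc z).2, mul_smul, hh]
      have hm : ∀ {c : Sylow 2 H} (z : InvIn N c), x * (x * (z.1 : H)) ∈ N := fun z => by
        rw [O.inv.mul_mul_self]; exact z.1.2
      have ez := O.uniq (hy c.2 z).1 (hy c'.2 z').1 (hm z) (hm z') (Ne.symm h2) h1 (hk c.2 z h1) h1' (hk c'.2 z' h1')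
      have ez' : z.1 = z'.1 := Subtype.ext (mul_left_cancel ez)
      have ec : c = c' := Subtype.ext (CfsgLib.RankOne.fix_unique O.setup z.2.1.1 z.2.1.2
        ((mem_iff_fix z.2.1.two c.1).mpr z.2.2) (ez' ▸ (mem_iff_fix z'.2.1.two c'.1).mpr z'.2.2))
      subst ec
      have : z = z' := Subtype.ext ez'
      subst this
      rfl
    · rintro ⟨h, hh⟩
      obtain ⟨z, -, hz, -⟩ := exists_two_sub O.noncomm O.ci h
      have hzh : z • h = h := (mem_iff_fix hz.1.two h).mpr hz.2.1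
      have hev : Even (orderOf (x * (z : H))) := by
        refine even_iff_two_dvd.mpr (dvd_trans ?_ (orderOf_map_dvd (QuotientGroup.mk' N) _))
        rw [map_mul, show QuotientGroup.mk' N (z : H) = 1 from (QuotientGroup.eq_one_iff _).mpr z.2, mul_one,
          inv2_iff.mp (show Inv2 (QuotientGroup.mk' N x) from ⟨fun e => O.out ((QuotientGroup.eq_one_iff _).mp e),
            by rw [← map_mul, O.inv.2, map_one]⟩)]
      obtain ⟨i, hw, hxw, hzw⟩ := O.inv.central (inv2_coe.mpr hz.1) hev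
      set w := (x * (z : H)) ^ i with hwdef
      have hwh : w • h = h := CfsgLib.RankOne.fix_unique O.setup hz.1.1 hz.1.2 (p := w • h) (by
        rw [coe_smul_sylow, ← mul_smul, hzw, mul_smul, ← coe_smul_sylow, hzh]) hzh
      have hwN : w ∉ N := fun hwN => hh (by
        refine CfsgLib.RankOne.fix_unique O.setup (u := (⟨w, hwN⟩ : N)) (fun e => hw.1 (congrArg Subtype.val e))
          (Subtype.ext hw.2) ?_ hwh
        show w • x • h = x • h
        rw [← mul_smul, ← hxw, mul_smul, hwh])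
      have hxwN : x * w ∈ N := by
        rw [← QuotientGroup.eq_one_iff, QuotientGroup.mk_mul]
        have h1 : (QuotientGroup.mk w : H ⧸ N) = (QuotientGroup.mk x : H ⧸ N) ^ i := by
          rw [hwdef, QuotientGroup.mk_pow, QuotientGroup.mk_mul, (QuotientGroup.eq_one_iff _).mpr z.2, mul_one]
        have h2 : (QuotientGroup.mk x : H ⧸ N) ^ 2 = 1 := by
          rw [← QuotientGroup.mk_pow, pow_two, O.inv.2]; rfl
        rcases Nat.even_or_odd' i with ⟨j, rfl | rfl⟩
        · exact absurd ((QuotientGroup.eq_one_iff w).mp (by rw [h1, pow_mul, h2, one_pow])) hwN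
        · rw [h1, pow_succ, pow_mul, h2, one_pow, one_mul, ← pow_two, h2]
      let t' : N := ⟨x * w, hxwN⟩
      have ht' : Inv2 t' := inv2_coe.mp (O.inv.mul hw (fun e => hh (by rw [e]; exact hwh)) hxw)
      have hxt : x * (t' : H) = t' * x := by
        show x * (x * w) = x * w * x
        rw [mul_assoc, ← hxw]
      obtain ⟨c, hc⟩ := CfsgLib.RankOne.exists_fix O.setup ht'.1 ht'.2
      exact ⟨⟨⟨c, O.centre ht' hxt hc⟩, ⟨t', ht', (mem_iff_fix ht'.two c).mp hc⟩,
        ⟨h, by rw [show x * (t' : H) = w from O.inv.mul_mul_self w]; exact hwh, hh⟩⟩, rfl⟩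
  rw [← Nat.card_congr (Equiv.ofBijective f hf)]
  haveI : Fintype {c : Sylow 2 H // x • c = c} := Fintype.ofFinite _
  haveI : ∀ c : {c : Sylow 2 H // x • c = c}, Fintype (InvIn N c.1) := fun c => Fintype.ofFinite _
  rw [Nat.card_sigma, Finset.sum_congr rfl fun c _ => by
    rw [Nat.card_sigma, Finset.sum_congr rfl fun z _ => O.card_fibre hsq c.2 z, Finset.sum_const, Finset.card_univ,
      ← Nat.card_eq_fintype_card, O.invIn_equiv c.2, smul_eq_mul]]
  rw [Finset.sum_const, Finset.card_univ, ← Nat.card_eq_fintype_card, O.card_fix, smul_eq_mul]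

theorem cube (hsq : ∀ v ∈ (sub N a : Subgroup N), v * v * (v * v) = 1) :
    (∀ v ∈ (sub N a : Subgroup N), (v : H) * x = x * v → v * v = 1) ∧
      Nat.card ↥(sub N a : Subgroup N) = CfsgLib.SuzukiRankOne.qZ N a ^ 3 := by
  classical
  haveI : Fact (Nat.Prime 2) := ⟨Nat.prime_two⟩
  haveI := faithful_sub O.noncomm O.ci
  set q := CfsgLib.SuzukiRankOne.qZ N a with hq
  set U := (sub N a : Subgroup N) ⊓ CX N x with hU
  have hle : ZS (sub N a) ≤ U := fun v hv => by
    refine ⟨hv.1, mem_CX.mpr ?_⟩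
    by_cases h1 : v = 1
    · simp [h1]
    · exact (O.centZ v ⟨h1, hv.2.1⟩ hv.1).symm
  have hcardZ : Nat.card ↥(ZS (sub N a)) = q := by
    rw [hq, ← CfsgLib.SuzukiRankOne.card_sq_one O.setup]
    refine Nat.card_congr ⟨fun v => ⟨⟨v, v.2.1⟩, Subtype.ext v.2.2.1⟩,
      fun v => ⟨v.1, v.1.2, congrArg Subtype.val v.2, fun s hs => ?_⟩, fun _ => rfl, fun _ => rfl⟩
    by_cases h1 : ((v.1 : N)) = 1
    · rw [h1, mul_one, one_mul]
    · exact (CfsgLib.RankOne.invol_central O.setup O.four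
        ⟨O.setup.le v.1.2, h1, congrArg Subtype.val v.2⟩ hs).symm
  obtain ⟨m, hm⟩ := IsPGroup.iff_card.mp ((sub N a).2.to_le (hle.trans inf_le_left))
  obtain ⟨i, hi⟩ := IsPGroup.iff_card.mp ((sub N a).2.to_le (show U ≤ _ from inf_le_left))
  obtain ⟨k, hk⟩ := IsPGroup.iff_card.mp (sub N a).2
  have hq3 : 3 ≤ q := CfsgLib.SuzukiRankOne.three_le_qZ O.setup O.four
  have hqm : q = 2 ^ m := hcardZ.symm.trans hm
  have hm1 : 1 ≤ m := Nat.pos_of_ne_zero fun e => by rw [e, pow_zero] at hqm; omega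
  have hmi : m ≤ i := (Nat.pow_le_pow_iff_right (by norm_num)).mp (hm ▸ hi ▸ Subgroup.card_le_of_le hle)
  have hI := O.card_invIn
  have hsum : Nat.card (Sylow 2 H) =
      Nat.card {c : Sylow 2 H // x • c = c} + Nat.card {h : Sylow 2 H // ¬ x • h = h} := by
    rw [← Nat.card_sum]
    exact (Nat.card_congr (Equiv.sumCompl fun c : Sylow 2 H => x • c = c)).symm
  have hpts := CfsgLib.RankOne.card_points O.setup
  rw [hsum, O.card_fix, O.card_moved hsq, ← hU, hi, hk] at hpts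
  rw [← hq, hqm] at hI
  have hmain : 2 ^ k + 2 ^ i * 2 ^ i = 2 ^ i * 2 ^ i * 2 ^ m + 2 ^ i * 2 ^ m := by
    have e1 : Nat.card (InvIn N a) = 2 ^ m - 1 := by omega
    rw [e1] at hpts
    obtain ⟨M, hM⟩ : ∃ M, 2 ^ m = M + 1 := ⟨2 ^ m - 1, (Nat.succ_pred_eq_of_pos (by positivity)).symm⟩
    rw [hM] at hpts ⊢
    simp only [Nat.add_sub_cancel] at hpts
    nlinarith [hpts]
  have him : i = m := by
    by_contra hne
    obtain ⟨j, rfl⟩ : ∃ j, i = m + 1 + j := ⟨i - m - 1, by omega⟩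
    have e : 2 ^ k + 2 ^ (m + (m + 1 + j)) * 2 ^ (j + 1) =
        2 ^ (m + (m + 1 + j)) * 2 ^ (m + 1 + j) + 2 ^ (m + (m + 1 + j)) := by
      simp only [pow_add] at hmain ⊢
      nlinarith [hmain]
    set B := 2 ^ (m + (m + 1 + j)) with hB
    have hB0 : 0 < B := by positivity
    have hkB : B ∣ 2 ^ k := (Nat.dvd_add_left (dvd_mul_right B _)).mp (e ▸ Dvd.dvd.add (dvd_mul_right B _) dvd_rfl)
    obtain ⟨C, hC⟩ := hkB
    have hC' : C + 2 ^ (j + 1) = 2 ^ (m + 1 + j) + 1 := Nat.eq_of_mul_eq_mul_left hB0 (by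
      rw [mul_add, ← hC, e, mul_add, mul_one])
    have hCodd : Odd C := by
      have h1 : Even (2 ^ (j + 1)) := Nat.even_pow.mpr ⟨even_two, by omega⟩
      have h2 : Odd (2 ^ (m + 1 + j) + 1) := (Nat.even_pow.mpr ⟨even_two, by omega⟩ : Even (2 ^ (m + 1 + j))).add_one
      rw [← hC'] at h2
      exact (Nat.odd_add.mp h2).mpr h1
    have hC1 : C = 1 := Nat.eq_one_of_dvd_coprimes (Nat.Coprime.pow_left k (Nat.coprime_two_left.mpr hCodd))
      ⟨B, by rw [hC, mul_comm]⟩ dvd_rfl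
    subst hC1
    have : (2:ℕ) ^ (j + 1) < 2 ^ (m + 1 + j) := Nat.pow_lt_pow_right (by norm_num) (by omega)
    omega
  subst him
  refine ⟨fun v hv hc => ?_, ?_⟩
  · have hUeq : ZS (sub N a) = U := Subgroup.eq_of_le_of_card_ge hle (by rw [hi, hm])
    have h1 : v ∈ U := ⟨hv, mem_CX.mpr hc⟩
    exact (hUeq ▸ h1 : v ∈ ZS (sub N a)).2.1
  · rw [hk, hqm]
    have : 2 ^ k = (2 ^ i) ^ 3 := by
      rw [pow_succ, pow_two]
      nlinarith [hmain]
    exact this

theorem false_of (hB : CfsgLib.Bender.TwoClosed.PartB.{u, u}) (hTI : TI N)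
    (hsh : CfsgLib.SuzukiRankOne.Shape a t (sub N a : Subgroup N)) : False := by
  classical
  haveI : Fact (Nat.Prime 2) := ⟨Nat.prime_two⟩
  haveI := faithful_sub O.noncomm O.ci
  have hsq : ∀ v ∈ (sub N a : Subgroup N), v * v * (v * v) = 1 := fun v hv =>
    ti_sq hB O.noncomm (O.ci.subgroup N) hTI (sub N a) hv
  obtain ⟨hU, hcube⟩ := O.cube hsq
  set q := CfsgLib.SuzukiRankOne.qZ N a with hqdef
  have hq3 : 3 ≤ q := CfsgLib.SuzukiRankOne.three_le_qZ O.setup O.four
  have hr : CfsgLib.SuzukiRankOne.Rsq a t (sub N a : Subgroup N) := by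
    rcases hsh with h1 | ⟨-, ⟨-, h2⟩ | ⟨h2, -⟩⟩
    · exfalso
      have e1 : Nat.card ↥(sub N a : Subgroup N) = q := by
        rw [hqdef, ← CfsgLib.SuzukiRankOne.card_sq_one O.setup]
        exact Nat.card_congr ⟨fun v => ⟨v, Subtype.ext (h1 v v.2)⟩, fun v => v.1, fun _ => rfl, fun _ => rfl⟩
      rw [hcube] at e1
      nlinarith [Nat.mul_le_mul hq3 hq3, e1, pow_succ q 2, pow_two q]
    · exact h2
    · exfalso
      rw [hcube] at h2
      have := Nat.pow_right_injective (show 2 ≤ q by omega) h2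
      omega
  obtain ⟨L, hL, hLodd, K, iK, iKt, n, hn, hK, ⟨eL⟩⟩ :=
    CfsgLib.SuzukiRankOne.unitary O.setup O.four (sub N a).2 hsq hr hcube
  obtain rfl : L = ⊤ := (IsSimpleGroup.eq_bot_or_eq_top_of_normal L hL).resolve_left fun e => by
    rw [e, Subgroup.index_bot] at hLodd
    exact Nat.not_even_iff_odd.mpr hLodd (even_card_of_simple O.noncomm)
  let e : N ≃* Cfsg.PSU 3 K (2 ^ n) := Subgroup.topEquiv.symm.trans eL
  obtain ⟨δ', A', hδ1, hδodd, hA, hAprop, m, hm, hcard⟩ := exists_delta hn hK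
  -- the field has `q` elements
  have hq : 2 ^ n = q := by
    obtain ⟨k, hk⟩ := IsPGroup.iff_card.mp (sub N a).2
    obtain ⟨m', hm', hcard'⟩ : ∃ m', Odd m' ∧ Nat.card N = 2 ^ k * m' := by
      refine ⟨Nat.card (CfsgLib.RankOne.D a t) * (2 ^ k + 1), O.setup.odd_card.mul ?_, ?_⟩
      · refine (Nat.even_pow.mpr ⟨even_two, fun e0 => ?_⟩ : Even (2 ^ k)).add_one
        have := O.setup.even_card
        rw [hk, e0, pow_zero] at this
        exact Nat.not_even_one this
      · rw [← hk, CfsgLib.RankOne.card_group O.setup, mul_assoc]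
    rw [Nat.card_congr e.toEquiv, hcard, ← pow_mul] at hcard'
    have e1 : 2 ^ (n * 3) = 2 ^ k := Nat.dvd_antisymm
      ((Nat.Coprime.pow_left _ (Nat.coprime_two_left.mpr hm')).dvd_of_dvd_mul_right ⟨m, hcard'.symm⟩)
      ((Nat.Coprime.pow_left _ (Nat.coprime_two_left.mpr hm)).dvd_of_dvd_mul_right ⟨m', hcard'⟩)
    rw [pow_mul, ← hk, hcube] at e1
    exact Nat.pow_left_injective three_ne_zero e1
  set δ : N := e.symm δ' with hδdef
  set A : Set N := e.symm '' A' with hAdef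
  have hAinv : ∀ v ∈ A, Inv2 v ∧ δ * v = v * δ ∧ ∀ w ∈ A, v * w = w * v := by
    rintro _ ⟨v, hv, rfl⟩
    obtain ⟨h1, h2, h3⟩ := hAprop v hv
    refine ⟨⟨fun h => h1.1 (e.symm.injective (h.trans (map_one e.symm).symm)), by rw [← map_mul, h1.2, map_one]⟩,
      by rw [hδdef, ← map_mul, ← map_mul, h2], ?_⟩
    rintro _ ⟨w, hw, rfl⟩
    rw [← map_mul, ← map_mul, h3 w hw]
  have hAcard : A.ncard + 1 = q := by rw [hAdef, Set.ncard_image_of_injective _ e.symm.injective, hA, hq]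
  obtain ⟨v, hv⟩ : A.Nonempty := Set.nonempty_of_ncard_ne_zero (by omega)
  obtain ⟨c, hc⟩ := CfsgLib.RankOne.exists_fix O.setup (hAinv v hv).1.1 (hAinv v hv).1.2
  obtain ⟨g, hg⟩ : ∃ g : N, g • c = a := (pretransitive_sub O.noncomm O.ci).exists_smul_eq c a
  have hAfix : ∀ w ∈ A, w • c = c := fun w hw => CfsgLib.RankOne.fix_unique O.setup (hAinv v hv).1.1 (hAinv v hv).1.2
    (p := w • c) (by rw [← mul_smul, (hAinv v hv).2.2 w hw, mul_smul, hc]) hc
  have hδc : δ • c = c := CfsgLib.RankOne.fix_unique O.setup (hAinv v hv).1.1 (hAinv v hv).1.2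
    (p := δ • c) (by rw [← mul_smul, ← (hAinv v hv).2.1, mul_smul, hc]) hc
  set δ1 : N := g * δ * g⁻¹ with hδ1def
  have hδ1a : δ1 • a = a := by rw [hδ1def, ← hg, ← mul_smul, inv_mul_cancel_right, mul_smul, hδc]
  -- `A` gives all involutions at `a`
  have hIall : ∀ z : N, Inv2 z → (z : H) ∈ (a : Subgroup H) → δ1 * z = z * δ1 := by
    have hsub : (fun w => g * w * g⁻¹) '' A ⊆ {z : N | Inv2 z ∧ (z : H) ∈ (a : Subgroup H)} := by
      rintro _ ⟨w, hw, rfl⟩
      have h1 := (hAinv w hw).1.conj g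
      exact ⟨h1, (mem_iff_fix h1.two a).mp (by rw [← hg, ← mul_smul, inv_mul_cancel_right, mul_smul, hAfix w hw])⟩
    have heq := Set.eq_of_subset_of_ncard_le hsub (by
      rw [Set.ncard_image_of_injective _ fun v w h => mul_left_cancel (mul_right_cancel h), ← Nat.card_coe_set_eq]
      have := O.card_invIn
      show Nat.card (InvIn N a) ≤ _
      omega) (Set.toFinite _)
    intro z hz hza
    obtain ⟨w, hw, rfl⟩ := (heq ▸ (show z ∈ {z : N | Inv2 z ∧ (z : H) ∈ (a : Subgroup H)} from ⟨hz, hza⟩) :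
      z ∈ (fun w => g * w * g⁻¹) '' A)
    show g * δ * g⁻¹ * (g * w * g⁻¹) = g * w * g⁻¹ * (g * δ * g⁻¹)
    rw [conj_mul, conj_mul, (hAinv w hw).2.1]
  obtain ⟨u, hu, d, hd, hdec⟩ := CfsgLib.RankOne.exists_decomp O.setup hδ1a
  have hd1 : d ≠ 1 := fun e1 => by
    rw [e1, mul_one] at hdec
    have ho : Odd (orderOf δ1) := by
      rw [hδ1def, ← MulAut.conj_apply, MulEquiv.orderOf_eq, hδdef, MulEquiv.orderOf_eq]
      exact hδodd
    have h1 : δ1 = 1 := eq_one_of_two_odd' (hdec ▸ two_of_mem hu) ho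
    rw [hδ1def, conj_eq_one_iff, hδdef, MulEquiv.map_eq_one_iff] at h1
    exact hδ1 h1
  have hdc : ∀ z : N, Inv2 z → z ∈ (sub N a : Subgroup N) → d * z = z * d := fun z hz hza => by
    have hzu : z * u = u * z :=
      CfsgLib.RankOne.invol_central O.setup O.four (O.invol_mem_iff.mpr ⟨hz, hza⟩) hu
    have hc : Commute (u⁻¹ * δ1) z :=
      Commute.mul_left (Commute.inv_left (show Commute u z from hzu.symm)) (hIall z hz hza)
    rw [hdec, inv_mul_cancel_left] at hc
    exact hc.eq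
  have hdodd : Odd (orderOf d) := O.setup.odd_card.of_dvd_nat (Subgroup.orderOf_dvd_natCard _ hd)
  have hda : d • a = a := ((CfsgLib.RankOne.mem_D O.setup).mp hd).1
  -- the commutator with `x`
  let φ : N → N := fun v => v * ⟨x * (v⁻¹ : N) * x, O.conj_mem_N _⟩
  have hφv : ∀ v : N, (φ v : H) = (v : H) * x * (v : H)⁻¹ * x := fun v => by simp [φ, mul_assoc]
  have hstep : ∀ v ∈ (sub N a : Subgroup N), d * φ v = φ v * d → d * v = v * d := by
    intro v hv hφ
    set v' := d * v * d⁻¹ with hv'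
    have hv'Q : v' ∈ (sub N a : Subgroup N) := CfsgLib.RankOne.conj_Q O.setup hda hv
    have hdx : Commute x (d : H) := O.centD d hd
    have e1 : (φ v' : H) = (φ v : H) := by
      rw [hφv, hv']
      push_cast
      calc (d : H) * v * (d : H)⁻¹ * x * ((d : H) * v * (d : H)⁻¹)⁻¹ * x
          = (d : H) * v * ((d : H)⁻¹ * x) * d * (v : H)⁻¹ * ((d : H)⁻¹ * x) := by group
        _ = (d : H) * v * (x * (d : H)⁻¹) * d * (v : H)⁻¹ * (x * (d : H)⁻¹) := by rw [hdx.inv_right.eq]
        _ = (d : H) * ((v : H) * x * (v : H)⁻¹ * x) * (d : H)⁻¹ := by group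
        _ = ((d * φ v * d⁻¹ : N) : H) := by rw [← hφv]; push_cast; rfl
        _ = (φ v : H) := by rw [hφ, mul_inv_cancel_right]
    rw [hφv, hφv] at e1
    have e2 := mul_right_cancel e1
    set z : N := v⁻¹ * v' with hzdef
    have hzQ : z ∈ (sub N a : Subgroup N) := mul_mem (inv_mem hv) hv'Q
    have hzc : (z : H) * x = x * z := by
      rw [hzdef]
      push_cast
      calc (v : H)⁻¹ * v' * x = (v : H)⁻¹ * ((v' : H) * x * (v' : H)⁻¹) * v' := by group
        _ = x * ((v : H)⁻¹ * v') := by rw [e2]; group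
    have hz2 : z * z = 1 := hU z hzQ hzc
    have hdz : Commute d z := by
      by_cases h1 : z = 1
      · rw [h1]; exact Commute.one_right d
      · exact hdc z ⟨h1, hz2⟩ hzQ
    have hdv : d * v * d⁻¹ = v * z := by rw [hzdef, mul_inv_cancel_left, hv']
    have hiter : ∀ j : ℕ, d ^ j * v * (d ^ j)⁻¹ = v * z ^ j := fun j => by
      induction j with
      | zero => simp
      | succ j ih =>
        rw [pow_succ', mul_inv_rev, show d * d ^ j * v * ((d ^ j)⁻¹ * d⁻¹) = d * (d ^ j * v * (d ^ j)⁻¹) * d⁻¹ by group,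
          ih, pow_succ' z, show d * (v * z ^ j) * d⁻¹ = d * v * d⁻¹ * (d * z ^ j * d⁻¹) by group,
          (hdz.pow_right j).eq, mul_inv_cancel_right, hdv, mul_assoc]
    have hzo := hiter (orderOf d)
    rw [pow_orderOf_eq_one, one_mul, inv_one, mul_one, left_eq_mul] at hzo
    obtain ⟨j, hj⟩ := hdodd
    rw [hj, pow_succ, pow_mul, pow_two, hz2, one_pow, one_mul] at hzo
    rw [hzdef, inv_mul_eq_one, hv'] at hzo
    calc d * v = d * v * d⁻¹ * d := by group
      _ = v * d := by rw [← hzo]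
  refine hd1 (CfsgLib.SuzukiRankOne.eq_one_of_cent_Q O.setup hd fun v hv => ?_)
  refine (hstep v hv (hstep (φ v) ?_ ?_)).symm
  · rw [mem_sub, hφv]
    exact mul_mem (mul_mem (mul_mem (show (v : H) ∈ (a : Subgroup H) from hv) O.mem) (inv_mem hv)) O.mem
  · have hcc : φ (φ v) = φ v * φ v := Subtype.ext (by
      rw [hφv, hφv, Subgroup.coe_mul, hφv]
      simp [mul_assoc, O.x_inv, O.inv.mul_mul_self])
    have hcQ : φ v ∈ (sub N a : Subgroup N) := by
      rw [mem_sub, hφv]
      exact mul_mem (mul_mem (mul_mem (show (v : H) ∈ (a : Subgroup H) from hv) O.mem) (inv_mem hv)) O.mem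
    rw [hcc]
    by_cases h1 : φ v * φ v = 1
    · rw [h1, mul_one, one_mul]
    · exact hdc _ ⟨h1, hsq _ hcQ⟩ (mul_mem hcQ hcQ)

end Outer

/-- A normal simple subgroup with TI Sylow 2-subgroups and trivial centraliser has odd index. -/
theorem le_of_ti (hB : CfsgLib.Bender.TwoClosed.PartB.{u, u}) (hC : ∀ h : H, (∀ n : N, h * n = n * h) → h = 1)
    (hTI : TI N) (a : Sylow 2 H) : (a : Subgroup H) ≤ N := by
  by_contra hcon
  haveI := faithful_sub hN hci
  obtain ⟨t, hS, h4, -, hsh, -⟩ := exists_setup_sub hN hci hB hTI a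
  set K : Subgroup H := (CfsgLib.RankOne.D a t).map N.subtype with hKdef
  obtain ⟨x, hxa, hx, hxN, hxK, hxZ⟩ := exists_fixed_invol hN hci (K := K) (Subgroup.map_subtype_le _)
    (by rw [hKdef, Subgroup.card_map_of_injective N.subtype_injective]; exact hS.odd_card)
    (by rintro _ ⟨d, hd, rfl⟩; exact ((CfsgLib.RankOne.mem_D hS).mp hd).1)
    (fun z w hz hw hza hwa => by
      obtain ⟨k, hk, hkw⟩ := CfsgLib.RankOne.exists_conj_inverted hS
        (show z ∈ Cfsg.involutionsIn _ from ⟨(mem_iff_fix hz.two a).mpr hza, hz.1, hz.2⟩)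
        (show w ∈ Cfsg.involutionsIn _ from ⟨(mem_iff_fix hw.two a).mpr hwa, hw.1, hw.2⟩)
      exact ⟨_, ⟨k⁻¹, inv_mem hk.1, rfl⟩, by rw [← hkw]; simp⟩) hcon
  have hD : ∀ d ∈ CfsgLib.RankOne.D a t, x * (d : H) = (d : H) * x := fun d hd => (hxK _ ⟨d, hd, rfl⟩).symm
  have hb : x • t • a = t • a := by
    obtain ⟨k, hk, hk1⟩ := CfsgLib.SuzukiRankOne.exists_inverted hS h4
    have hfix : k • x • t • a = x • t • a := by
      rw [coe_smul_sylow k, ← mul_smul, ← hD k hk.1, mul_smul, ← coe_smul_sylow k (t • a),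
        ((CfsgLib.RankOne.mem_D hS).mp hk.1).2]
    refine (CfsgLib.RankOne.inverted_fix hS hk hk1 hfix).resolve_left fun h => CfsgLib.RankOne.ta_ne hS ?_
    have h1 : x • t • a = x • a := h.trans ((smul_eq_self_iff hx.two).mpr hxa).symm
    exact smul_left_cancel x h1
  exact Outer.false_of ⟨hN, hci, hC, hS, h4, hx, hxa, hxN, hb, hD, hxZ⟩ hB hTI hsh

end CfsgLib.CyclicInt
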