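import Cfsg.Agent.Lib.CyclicInt.Fusion
import Cfsg.Agent.Lib.SuzukiTwo.RankTwoAbelian
import Cfsg.Agent.Lib.SuzukiTwo.UnitarySixty
import Cfsg.Agent.Lib.SuzukiTwo.Main
import Cfsg.Agent.Lib.RankTwoSylow.Main
import Cfsg.Agent.Lib.SLCard
import Cfsg.Agent.Lib.SuzukiRankOne.UnitaryModel
import Cfsg.Agent.S0483
import Cfsg.Agent.S0949
import Cfsg.Agent.S3176

/-!
Simple groups with cyclic intersections of Sylow 2-subgroups without an elementary subgroup of order 8.

Blueprint: `blueprint/bender/S3308.md`, 1a.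
-/

set_option autoImplicit false
set_option linter.unusedSectionVars false
set_option linter.style.haveILetI false

namespace CfsgLib.CyclicInt

open Subgroup MulAction
open scoped Pointwise

universe u v

/-- Sylow 2-subgroups are TI. -/
def TI (G : Type u) [Group G] : Prop :=
  ∀ S T : Sylow 2 G, ∀ x : G, Inv2 x → x ∈ (S : Subgroup G) → x ∈ (T : Subgroup G) → S = T

/-- Three commuting involutions of `S` generating a group of order 8. -/
def Eight {G : Type u} [Group G] (S : Sylow 2 G) : Prop :=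
  ∃ x y z : G, Inv2 x ∧ Inv2 y ∧ Inv2 z ∧ x ≠ y ∧ x ≠ z ∧ y ≠ z ∧ z ≠ x * y ∧ x ∈ (S : Subgroup G) ∧
    y ∈ (S : Subgroup G) ∧ z ∈ (S : Subgroup G) ∧ x * y = y * x ∧ x * z = z * x ∧ y * z = z * y

theorem TI.of_equiv {G : Type u} {H : Type v} [Group G] [Group H] [Finite G] [Finite H] (e : G ≃* H) (h : TI H) :
    TI G := by
  haveI : Fact (Nat.Prime 2) := ⟨Nat.prime_two⟩
  intro S T x hx hS hT
  have hker : e.toMonoidHom.ker = ⊥ := (MonoidHom.ker_eq_bot_iff _).mpr e.injective
  have hx' : Inv2 (e x) :=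
    ⟨fun h1 => hx.1 (e.injective (h1.trans (map_one e).symm)), by rw [← map_mul, hx.2, map_one]⟩
  let S' : Sylow 2 H := S.mapSurjective (f := e.toMonoidHom) e.surjective
  let T' : Sylow 2 H := T.mapSurjective (f := e.toMonoidHom) e.surjective
  have hST : S' = T' := h S' T' (e x) hx' ⟨x, hS, rfl⟩ ⟨x, hT, rfl⟩
  exact Sylow.ext (Subgroup.map_injective (f := e.toMonoidHom) e.injective (congrArg Sylow.toSubgroup hST))

/-- The Sylow subgroups of a rank one set-up are TI. -/
theorem ti_of_setup {G : Type u} {Ω : Type v} [Group G] [Finite G] [MulAction G Ω] {a : Ω} {t : G}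
    {Q : Subgroup G} (hS : Cfsg.IsRankOneSetup G Ω a t Q) (hQ : IsPGroup 2 Q) : TI G := by
  haveI : Fact (Nat.Prime 2) := ⟨Nat.prime_two⟩
  obtain ⟨P, hPQ⟩ := CfsgLib.RankOne.exists_sylow_le hS
  have hP : (P : Subgroup G) = Q := (P.is_maximal' hQ hPQ).symm
  -- every Sylow subgroup is the translate of `Q`
  have key : ∀ S : Sylow 2 G, ∃ g : G, ∀ v, v ∈ (S : Subgroup G) ↔ g⁻¹ * v * g ∈ Q := fun S => by
    obtain ⟨g, rfl⟩ := MulAction.exists_smul_eq G P S
    exact ⟨g, fun v => by rw [mem_smul_sylow, hP]⟩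
  intro S T x hx hxS hxT
  obtain ⟨g, hg⟩ := key S
  obtain ⟨h, hh⟩ := key T
  have hfix : ∀ (k : G), k⁻¹ * x * k ∈ Q → x • k • a = k • a := fun k hk => by
    have h1 := CfsgLib.RankOne.mem_Q_a hS hk
    calc x • k • a = k • (k⁻¹ * x * k) • a := by simp [← mul_smul, mul_assoc]
      _ = k • a := by rw [h1]
  have hpt : g • a = h • a :=
    CfsgLib.RankOne.fix_unique hS hx.1 hx.2 (hfix g ((hg x).mp hxS)) (hfix h ((hh x).mp hxT))
  have hst : (g⁻¹ * h) • a = a := by rw [mul_smul, ← hpt, inv_smul_smul]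
  refine Sylow.ext ?_
  ext v
  rw [hg v, hh v]
  constructor
  · intro hv
    have := CfsgLib.RankOne.conj_Q' hS hst hv
    simpa [mul_assoc] using this
  · intro hv
    have := CfsgLib.RankOne.conj_Q hS hst hv
    simpa [mul_assoc] using this

theorem ti_psu (K : Type) [Field K] [Fintype K] (hK : Fintype.card K = 16) : TI (Cfsg.PSU 3 K 4) := by
  haveI : Fact (Nat.Prime 2) := ⟨Nat.prime_two⟩
  haveI : CharP K 2 := by
    obtain ⟨r, hr⟩ := CharP.exists K
    obtain ⟨f, hp, hf⟩ := FiniteField.card K r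
    have : r ∣ 2 := hp.dvd_of_dvd_pow (n := 4) (by
      rw [show (2 : ℕ) ^ 4 = 16 from rfl, ← hK, hf]; exact dvd_pow_self r f.pos.ne')
    rwa [(Nat.prime_dvd_prime_iff_eq hp Nat.prime_two).mp this] at hr
  have hK' : Fintype.card K = 4 ^ 2 := by rw [hK]; norm_num
  obtain ⟨-, σ, hσ⟩ := CfsgLib.UnitaryBasic.frob_exists hK'
  let c : CfsgLib.PSUBorel.Conj K := ⟨4, σ, hK', hσ⟩
  obtain ⟨Ω', iA, iF, a, t, Q, hS, -, hQ, -⟩ := CfsgLib.SuzukiRankOne.exists_model c (show 4 ≤ 4 from le_rfl)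
  obtain ⟨E⟩ := CfsgLib.PSUBorel.exists_iso c (n := 3)
  let eP : (CfsgLib.PSUBorel.SUs c 3 ⧸ Subgroup.center (CfsgLib.PSUBorel.SUs c 3)) ≃* Cfsg.PSU 3 K 4 :=
    QuotientGroup.congr _ _ E (by
      ext x
      constructor
      · rintro ⟨y, hy, rfl⟩
        exact Subgroup.mem_center_iff.mpr fun z => by
          obtain ⟨z', rfl⟩ := E.surjective z
          show E z' * E y = E y * E z'
          rw [← map_mul, ← map_mul, Subgroup.mem_center_iff.mp hy z']
      · intro hx
        refine ⟨E.symm x, Subgroup.mem_center_iff.mpr fun z => E.injective ?_, by simp⟩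
        simp [Subgroup.mem_center_iff.mp hx (E z)])
  exact TI.of_equiv eP.symm (ti_of_setup hS hQ)

variable {G : Type u} [Group G] [Finite G]

theorem not_solvable [IsSimpleGroup G] (hG : ¬ IsMulCommutative G) : ¬ Group.IsSolvable G := fun _ =>
  hG ⟨⟨IsSimpleGroup.comm_iff_isSolvable.mpr inferInstance⟩⟩

theorem isPerfect [IsSimpleGroup G] (hG : ¬ IsMulCommutative G) : commutator G = ⊤ :=
  (IsSimpleGroup.eq_bot_or_eq_top_of_normal (commutator G) inferInstance).resolve_left fun e => hG (by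
    rw [commutator_eq_bot_iff_center_eq_top] at e
    exact ⟨⟨fun a b => Subgroup.mem_center_iff.mp (e ▸ Subgroup.mem_top b) a⟩⟩)

theorem zmod_two_prod : ∀ a : ZMod (2 ^ 1) × ZMod (2 ^ 1), a + a = 0 := by decide

/-- An odd-order element of the normaliser moving a central involution. -/
theorem exists_mover [IsSimpleGroup G] (hG : ¬ IsMulCommutative G) (h : CI G) {S : Sylow 2 G} {z : G}
    (hz : Cen S z) : ∃ n ∈ Subgroup.normalizer ((S : Subgroup G) : Set G),
      Odd (orderOf n) ∧ n * z * n⁻¹ ≠ z := by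
  haveI : Fact (Nat.Prime 2) := ⟨Nat.prime_two⟩
  obtain ⟨z₁, z₂, h1, h2, h12⟩ := exists_two_cen hG h S
  obtain ⟨g, hgS, hgz⟩ : ∃ g : G, g * z * g⁻¹ ∈ (S : Subgroup G) ∧ g * z * g⁻¹ ≠ z := by
    by_contra hcon
    push Not at hcon
    have hu : orderOf z = 2 := inv2_iff.mp hz.1
    have hI := CfsgLib.ZStar.isolated_of_sylow S hu hz.2.1 hcon
    have hc : z ∈ Subgroup.center G := Subgroup.mem_center_iff.mpr fun g => by
      have := CfsgLib.ZStar.commutator_mem hu hI g
      rw [pPrimeCore_eq_bot hG, Subgroup.mem_bot] at this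
      calc g * z = 1 * (g * z) := (one_mul _).symm
        _ = z * g * z⁻¹ * g⁻¹ * (g * z) := by rw [this]
        _ = z * g := by group
    rcases IsSimpleGroup.eq_bot_or_eq_top_of_normal (Subgroup.center G) inferInstance with e | e
    · exact hz.1.1 ((Subgroup.eq_bot_iff_forall _).mp e z hc)
    · exact hG ⟨⟨fun a b => Subgroup.mem_center_iff.mp (e ▸ Subgroup.mem_top b) a⟩⟩
  obtain ⟨n, hn, hne⟩ := h.fusion h1 h2 h12 hz.2.1 hgS
  obtain ⟨k, l, hl, he⟩ := Nat.exists_eq_two_pow_mul_odd (orderOf_pos n).ne'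
  -- `n` is a product of a power of odd order and an element of `S`
  have hcop : Nat.Coprime (2 ^ k) l := Nat.Coprime.pow_left k (Nat.coprime_two_left.mpr hl)
  obtain ⟨A, B, hab⟩ : ∃ A B : ℤ, (1 : ℤ) = (2 ^ k : ℕ) * A + (l : ℕ) * B := by
    have := Nat.gcd_eq_gcd_ab (2 ^ k) l
    rw [hcop.gcd_eq_one] at this
    exact ⟨_, _, by exact_mod_cast this⟩
  refine ⟨n ^ 2 ^ k, pow_mem hn _, hl.of_dvd_nat (orderOf_dvd_of_pow_eq_one (by rw [← pow_mul, ← he, pow_orderOf_eq_one])),
    fun hfix => hgz ?_⟩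
  have hs : n ^ l ∈ (S : Subgroup G) := CfsgLib.AfterFT.CyclicIntersect.mem_of_mem_normalizer S (by
    obtain ⟨j, -, hj⟩ := (Nat.dvd_prime_pow Nat.prime_two).mp (orderOf_dvd_of_pow_eq_one
      (show (n ^ l) ^ 2 ^ k = 1 by rw [← pow_mul, mul_comm, ← he, pow_orderOf_eq_one]))
    exact CfsgLib.AfterFT.CyclicIntersect.isPGroup_zpowers_of_orderOf hj) (pow_mem hn _)
  have hc1 : n ^ 2 ^ k ∈ Subgroup.centralizer {z} := Subgroup.mem_centralizer_singleton_iff.mpr
    (mul_inv_eq_iff_eq_mul.mp hfix)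
  have hc2 : n ^ l ∈ Subgroup.centralizer {z} := Subgroup.mem_centralizer_singleton_iff.mpr (hz.2.2 _ hs)
  have hnc : n ∈ Subgroup.centralizer {z} := by
    have e : n = (n ^ 2 ^ k) ^ A * (n ^ l) ^ B := by
      rw [← zpow_natCast, ← zpow_natCast, ← zpow_mul, ← zpow_mul, ← zpow_add, ← hab, zpow_one]
    rw [e]
    exact mul_mem (zpow_mem hc1 _) (zpow_mem hc2 _)
  rw [← hne, mul_inv_eq_iff_eq_mul]
  exact Subgroup.mem_centralizer_singleton_iff.mp hnc

/-- Without an elementary subgroup of order 8 the involutions of `S` are three central ones. -/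
theorem three_inv [IsSimpleGroup G] (hG : ¬ IsMulCommutative G) (h : CI G) {S : Sylow 2 G} (h8 : ¬ Eight S) :
    ∃ z w, Cen S z ∧ Cen S w ∧ z ≠ w ∧
      ∀ x ∈ (S : Subgroup G), x * x = 1 → x = 1 ∨ x = z ∨ x = w ∨ x = z * w := by
  obtain ⟨z, w, hz, hw, hne⟩ := exists_two_cen hG h S
  refine ⟨z, w, hz, hw, hne, fun x hxS hx2 => ?_⟩
  by_contra hcon
  push Not at hcon
  obtain ⟨h1, hxz, hxw, hxzw⟩ := hcon
  exact h8 ⟨z, w, x, hz.1, hw.1, ⟨h1, hx2⟩, hne, Ne.symm hxz, Ne.symm hxw, hxzw, hz.2.1, hw.2.1, hxS,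
    (hz.2.2 w hw.2.1).symm, (hz.2.2 x hxS).symm, (hw.2.2 x hxS).symm⟩

/-- The two possibilities without an elementary subgroup of order 8. -/
theorem rank_two [IsSimpleGroup G] (hG : ¬ IsMulCommutative G) (h : CI G) {S : Sylow 2 G} (h8 : ¬ Eight S)
    (hTI : ¬ TI G) :
    Nat.card ↥(S : Subgroup G) = 4 ∧ (∀ x ∈ (S : Subgroup G), x * x = 1) ∧
      ∃ (F : Type) (_ : Field F) (_ : Fintype F), (Fintype.card F % 8 = 3 ∨ Fintype.card F % 8 = 5) ∧
        3 < Fintype.card F ∧ Nonempty (G ≃* Matrix.ProjectiveSpecialLinearGroup (Fin 2) F) := by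
  classical
  haveI : Fact (Nat.Prime 2) := ⟨Nat.prime_two⟩
  obtain ⟨z, w, hz, hw, hne, hlist⟩ := three_inv hG h h8
  obtain ⟨n, hn, hodd, hmove⟩ := exists_mover hG h hz
  let e : MulAut ↥(S : Subgroup G) :=
    (S : Subgroup G).normalizerMonoidHom ⟨n, hn⟩
  have he : ∀ s : ↥(S : Subgroup G), ((e s : ↥(S : Subgroup G)) : G) = n * s * n⁻¹ := fun s => rfl
  obtain ⟨j, hj⟩ := hodd
  have hej : e ^ (2 * j + 1) = 1 := by
    show ((S : Subgroup G).normalizerMonoidHom ⟨n, hn⟩) ^ (2 * j + 1) = 1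
    rw [← map_pow, ← hj, show (⟨n, hn⟩ : Subgroup.normalizer ((S : Subgroup G) : Set G)) ^ orderOf n = 1 from
      Subtype.ext (by simp [pow_orderOf_eq_one]), map_one]
  let z' : ↥(S : Subgroup G) := ⟨z, hz.2.1⟩
  let w' : ↥(S : Subgroup G) := ⟨w, hw.2.1⟩
  have hl' : ∀ t : ↥(S : Subgroup G), t * t = 1 → t = 1 ∨ t = z' ∨ t = w' ∨ t = z' * w' := fun t ht => by
    rcases hlist t t.2 (congrArg Subtype.val ht) with e1 | e1 | e1 | e1
    exacts [Or.inl (Subtype.ext e1), Or.inr (Or.inl (Subtype.ext e1)), Or.inr (Or.inr (Or.inl (Subtype.ext e1))),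
      Or.inr (Or.inr (Or.inr (Subtype.ext e1)))]
  have htr := CfsgLib.RankTwoSylow.trans_of_moves e hej (z := z') (a := w') (Subtype.ext hz.1.2)
    (fun e1 => hz.1.1 (congrArg Subtype.val e1)) hl' (fun e1 => hmove (by rw [← he z', e1]))
  have hH : CfsgLib.SuzukiTwo.Hyp ↥(S : Subgroup G) e := by
    refine ⟨S.2, fun x y hx hx2 hy hy2 => ?_, ⟨z', w', fun e1 => hne (congrArg Subtype.val e1),
      fun e1 => hz.1.1 (congrArg Subtype.val e1), Subtype.ext hz.1.2, fun e1 => hw.1.1 (congrArg Subtype.val e1),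
      Subtype.ext hw.1.2⟩⟩
    obtain ⟨i, rfl⟩ := htr x hx hx2
    obtain ⟨k, rfl⟩ := htr y hy hy2
    refine ⟨k + 2 * j * i, ?_⟩
    rw [← MulAut.mul_apply, ← pow_add, show k + 2 * j * i + i = k + (2 * j + 1) * i by ring, pow_add, pow_mul, hej,
      one_pow, mul_one]
  have hfour : Nat.card {x : ↥(S : Subgroup G) // x * x = 1} = 4 := by
    haveI : Fintype ↥(S : Subgroup G) := Fintype.ofFinite _
    rw [Nat.card_eq_fintype_card, Fintype.card_subtype]
    have : (Finset.univ.filter fun x : ↥(S : Subgroup G) => x * x = 1) = {1, z', w', z' * w'} := by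
      ext x
      simp only [Finset.mem_filter, Finset.mem_univ, true_and, Finset.mem_insert, Finset.mem_singleton]
      refine ⟨hl' x, ?_⟩
      rintro (rfl | rfl | rfl | rfl)
      · exact one_mul 1
      · exact Subtype.ext hz.1.2
      · exact Subtype.ext hw.1.2
      · exact Subtype.ext (hz.1.mul hw.1 hne (hz.2.2 w hw.2.1).symm).2
    rw [this]
    exact Finset.card_eq_four.mpr ⟨1, z', w', z' * w', fun e1 => hz.1.1 (congrArg Subtype.val e1).symm,
      fun e1 => hw.1.1 (congrArg Subtype.val e1).symm, fun e1 =>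
      (hz.1.mul hw.1 hne (hz.2.2 w hw.2.1).symm).1 (congrArg Subtype.val e1).symm,
      fun e1 => hne (congrArg Subtype.val e1), fun e1 => hw.1.1 (congrArg Subtype.val (left_eq_mul.mp e1)),
      fun e1 => hz.1.1 (congrArg Subtype.val (right_eq_mul.mp e1)), rfl⟩
  have hcore : Cfsg.oddCore G = ⊥ :=
    (IsSimpleGroup.eq_bot_or_eq_top_of_normal (Cfsg.oddCore G) inferInstance).resolve_right fun e1 => by
      have h1 := CfsgLib.odd_card_oddCore (G := G)
      rw [e1, Subgroup.card_top] at h1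
      exact Nat.not_even_iff_odd.mpr h1 (even_card_of_simple hG)
  have hne_top : (S : Subgroup G) ≠ ⊤ := fun e1 => by
    haveI := (S.2.of_surjective ((MulEquiv.subgroupCongr e1).trans Subgroup.topEquiv).toMonoidHom
      (MulEquiv.surjective _)).isNilpotent
    exact not_solvable hG inferInstance
  by_cases hab : ∀ a b : ↥(S : Subgroup G), Commute a b
  · obtain ⟨m, hm, ⟨φ⟩⟩ := hH.homocyclic hab hfour
    rcases eq_or_lt_of_le hm with hm1 | hm2
    · -- the four-group
      subst hm1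
      have hcard : Nat.card ↥(S : Subgroup G) = 4 := by
        rw [Nat.card_congr φ.toEquiv, Nat.card_congr Multiplicative.toAdd, Nat.card_prod, Nat.card_zmod]
        norm_num
      have hsq : ∀ s : ↥(S : Subgroup G), s * s = 1 := fun s => φ.injective (by
        rw [map_mul, map_one]
        exact Multiplicative.toAdd.injective (CfsgLib.CyclicInt.zmod_two_prod _))
      haveI hk : IsKleinFour ↥(S : Subgroup G) := ⟨hcard, by
        refine ((Nat.dvd_prime Nat.prime_two).mp
          (Monoid.exponent_dvd_of_forall_pow_eq_one fun s => by rw [pow_two]; exact hsq s)).resolve_left fun e1 => ?_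
        haveI := Monoid.exp_eq_one_iff.mp e1
        exact hz.1.1 (congrArg Subtype.val (Subsingleton.elim z' 1))⟩
      haveI : Group.IsPerfect G := ⟨isPerfect hG⟩
      have hdih : Nonempty (↥(S : Subgroup G) ≃* DihedralGroup 2) := IsKleinFour.nonempty_mulEquiv
      rcases Cfsg.Agent.S0483.result S 2 le_rfl hdih with ⟨F, iF, iFt, hodd', h3, ⟨ψ⟩⟩ | ⟨⟨ψ⟩⟩
      · refine ⟨hcard, fun x hx => congrArg Subtype.val (hsq ⟨x, hx⟩), F, iF, iFt, ?_, h3, ?_⟩
        · have ψ' := (QuotientGroup.quotientBot.symm.trans (QuotientGroup.quotientMulEquivOfEq hcore.symm)).trans ψ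
          have h8 : ¬ 8 ∣ Nat.card G := fun hd => by
            have := (S.card_eq_multiplicity).symm.trans hcard
            have h2 : (Nat.card G).factorization 2 = 2 := by
              have h4 : (2:ℕ) ^ (Nat.card G).factorization 2 = 2 ^ 2 := by rw [this]; norm_num
              exact Nat.pow_right_injective le_rfl h4
            have := (Nat.prime_two.pow_dvd_iff_le_factorization (Nat.card_pos.ne')).mp
              (show 2 ^ 3 ∣ Nat.card G from hd)
            omega
          have hp := CfsgLib.SLCard.gcd_mul_card_PSL (F := F) (n := 2) (by norm_num)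
          rw [Nat.gcd_eq_left (show 2 ∣ Fintype.card F - 1 by obtain ⟨m, hm⟩ := hodd'; exact ⟨m, by omega⟩),
            CfsgLib.SLCard.card_SL_two, ← Nat.card_congr ψ'.toEquiv] at hp
          by_contra hq
          apply h8
          have h16 : 16 ∣ Fintype.card F * (Fintype.card F ^ 2 - 1) := by
            refine Dvd.dvd.mul_left ?_ _
            have hm := hodd'
            rw [Nat.odd_iff] at hm
            rw [← Nat.modEq_iff_dvd' (Nat.one_le_pow _ _ Fintype.card_pos)]
            show 1 % 16 = Fintype.card F ^ 2 % 16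
            rw [Nat.pow_mod]
            have := Nat.mod_lt (Fintype.card F) (show 16 > 0 by norm_num)
            have h8' : Fintype.card F % 8 = Fintype.card F % 16 % 8 := by omega
            interval_cases h : Fintype.card F % 16 <;> omega
          rw [← hp] at h16
          omega
        · exact ⟨(QuotientGroup.quotientBot.symm.trans (QuotientGroup.quotientMulEquivOfEq hcore.symm)).trans ψ⟩
      · exfalso
        have hc : Nat.card G = 2520 := by
          rw [Nat.card_congr ((QuotientGroup.quotientBot.symm.trans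
            (QuotientGroup.quotientMulEquivOfEq hcore.symm)).trans ψ).toEquiv, nat_card_alternatingGroup,
            Nat.card_eq_fintype_card, Fintype.card_fin]
          rfl
        obtain ⟨k, hk⟩ : 8 ∣ Nat.card G := hc ▸ ⟨315, rfl⟩
        have h2 := (Nat.prime_two.pow_dvd_iff_le_factorization (Nat.card_pos (α := G)).ne').mp
          (show 2 ^ 3 ∣ Nat.card G from ⟨k, hk⟩)
        have := (S.card_eq_multiplicity).symm.trans hcard
        have h4 : (2:ℕ) ^ (Nat.card G).factorization 2 = 2 ^ 2 := by rw [this]; norm_num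
        have := Nat.pow_right_injective le_rfl h4
        omega
    · -- homocyclic of exponent at least four
      exfalso
      obtain ⟨hnorm, -, -⟩ := Cfsg.Agent.S0949.result S m hm2 φ (fun N hN hodd' => by
        rw [eq_bot_iff, ← hcore]
        exact CfsgLib.le_oddCore hodd')
      rcases IsSimpleGroup.eq_bot_or_eq_top_of_normal (S : Subgroup G) hnorm with e1 | e1
      · exact hz.1.1 ((Subgroup.eq_bot_iff_forall _).mp e1 z hz.2.1)
      · exact hne_top e1
  · -- the Sylow subgroup of PSU(3,4)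
    exfalso
    push Not at hab
    obtain ⟨a, b, hab⟩ := hab
    have hG' := CfsgLib.SuzukiTwo.good ↥(S : Subgroup G) e hH ⟨a, b, hab⟩
    have hW := hH.sixty hG' ⟨a, b, hab⟩ hfour
    let K := GaloisField 2 4
    letI : Fintype K := Fintype.ofFinite K
    have hK : Fintype.card K = 16 := by
      rw [← Nat.card_eq_fintype_card, GaloisField.card 2 4 (by norm_num)]
      norm_num
    obtain ⟨P⟩ : Nonempty (Sylow 2 (Cfsg.PSU 3 K 4)) := inferInstance
    obtain ⟨ψ⟩ := hW.iso (CfsgLib.SuzukiTwo.sixty hK P)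
    rcases Cfsg.Agent.S3176.result hK S P ⟨ψ⟩ hcore (fun N hN hodd' =>
      (IsSimpleGroup.eq_bot_or_eq_top_of_normal N hN).resolve_left fun e1 => by
        rw [e1, Subgroup.index_bot] at hodd'
        exact Nat.not_even_iff_odd.mpr hodd' (even_card_of_simple hG)) with ⟨⟨eG⟩⟩ | h1
    · exact hTI (TI.of_equiv eG (ti_psu K hK))
    · exact hne_top h1

end CfsgLib.CyclicInt
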