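import Cfsg.Agent.Lib.CyclicInt.Component
import Cfsg.Agent.Lib.Bender.TwoClosed.Main
import Cfsg.Agent.Lib.SuzukiRankOne.Basics
import Cfsg.Agent.S3305

/-!
A simple group with TI Sylow 2-subgroups and cyclic intersections is a split rank one group.

Blueprint: `blueprint/bender/S3308.md`, case TI.
-/

set_option autoImplicit false
set_option linter.unusedSectionVars false
set_option linter.style.haveILetI false

namespace CfsgLib.CyclicInt

open Subgroup MulAction
open scoped Pointwise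

universe u v

theorem CI.of_surjective {G : Type u} {H : Type v} [Group G] [Finite G] [Group H] [Finite H] (h : CI G)
    (f : G →* H) (hf : Function.Surjective f) : CI H := by
  haveI : Fact (Nat.Prime 2) := ⟨Nat.prime_two⟩
  intro S T hne
  let e : G ⧸ f.ker ≃* H := QuotientGroup.quotientKerEquivOfSurjective f hf
  let S' : Sylow 2 (G ⧸ f.ker) := S.mapSurjective (f := e.symm.toMonoidHom) e.symm.surjective
  let T' : Sylow 2 (G ⧸ f.ker) := T.mapSurjective (f := e.symm.toMonoidHom) e.symm.surjective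
  haveI hcyc := Cfsg.Agent.S3305.result h f.ker S' T' fun he => hne
    (Sylow.ext (Subgroup.map_injective (f := e.symm.toMonoidHom) e.symm.injective (congrArg Sylow.toSubgroup he)))
  have heq : ((S : Subgroup H) ⊓ (T : Subgroup H)).map e.symm.toMonoidHom =
      (S' : Subgroup (G ⧸ f.ker)) ⊓ (T' : Subgroup (G ⧸ f.ker)) :=
    Subgroup.map_inf _ _ _ e.symm.injective
  haveI : IsCyclic ↥(((S : Subgroup H) ⊓ (T : Subgroup H)).map e.symm.toMonoidHom) := heq ▸ hcyc
  exact isCyclic_of_injective (((S : Subgroup H) ⊓ (T : Subgroup H)).equivMapOfInjective e.symm.toMonoidHom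
    e.symm.injective).toMonoidHom (MulEquiv.injective _)

variable {L : Type u} [Group L] [Finite L] [IsSimpleGroup L]

theorem mem_sylow_of_smul_eq {S : Sylow 2 L} {x : L} (hx : Two x) (h : x • S = S) : x ∈ (S : Subgroup L) :=
  hx.mem_of_normalizer S (smul_eq_iff_normalizer.mp h)

theorem smul_eq_of_mem {S : Sylow 2 L} {x : L} (h : x ∈ (S : Subgroup L)) : x • S = S :=
  smul_eq_iff_normalizer.mpr (Subgroup.le_normalizer h)

theorem not_normal_sylow (hL : ¬ IsMulCommutative L) (S : Sylow 2 L) : ¬ (S : Subgroup L).Normal := by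
  intro hn
  haveI : Fact (Nat.Prime 2) := ⟨Nat.prime_two⟩
  rcases IsSimpleGroup.eq_bot_or_eq_top_of_normal (S : Subgroup L) hn with e | e
  · exact S.ne_bot_of_dvd_card (even_card_of_simple hL).two_dvd e
  · haveI := (S.2.of_surjective ((MulEquiv.subgroupCongr e).trans Subgroup.topEquiv).toMonoidHom
      (MulEquiv.surjective _)).isNilpotent
    exact not_solvable hL inferInstance

theorem faithful_sylow (hL : ¬ IsMulCommutative L) : FaithfulSMul L (Sylow 2 L) := by
  haveI : Fact (Nat.Prime 2) := ⟨Nat.prime_two⟩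
  rcases IsSimpleGroup.eq_bot_or_eq_top_of_normal (MulAction.toPermHom L (Sylow 2 L)).ker inferInstance with e | e
  · refine ⟨fun {x y} hxy => ?_⟩
    exact ((MonoidHom.ker_eq_bot_iff _).mp e) (Equiv.ext hxy)
  · exfalso
    obtain ⟨S⟩ : Nonempty (Sylow 2 L) := inferInstance
    refine not_normal_sylow hL S (Subgroup.normalizer_eq_top_iff.mp ?_)
    rw [eq_top_iff]
    intro g _
    have : g ∈ (MulAction.toPermHom L (Sylow 2 L)).ker := e ▸ Subgroup.mem_top g
    exact smul_eq_iff_normalizer.mp (congrArg (fun π : Equiv.Perm (Sylow 2 L) => π S) this)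

/-- The rank one set-up on the Sylow 2-subgroups. -/
theorem exists_setup_ti (hB : CfsgLib.Bender.TwoClosed.PartB.{u, u}) (hL : ¬ IsMulCommutative L) (h : CI L)
    (hTI : TI L) (S : Sylow 2 L) :
    ∃ t : L, Cfsg.IsRankOneSetup L (Sylow 2 L) S t (S : Subgroup L) ∧
      CfsgLib.SuzukiRankOne.Four L ∧ CfsgLib.SuzukiRankOne.Concl S t (S : Subgroup L) := by
  haveI : Fact (Nat.Prime 2) := ⟨Nat.prime_two⟩
  haveI := faithful_sylow hL
  obtain ⟨z, w, hz, hw, hne⟩ := exists_two_cen hL h S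
  have h4 : CfsgLib.SuzukiRankOne.Four L :=
    ⟨z, w, hz.1.1, hw.1.1, hne, hz.1.2, hw.1.2, (hz.2.2 w hw.2.1).symm⟩
  have hC : CfsgLib.Bender.TwoClosed.Closed L (Sylow 2 L) S (S : Subgroup L) :=
    { trans := inferInstance
      one_fix := fun x hx => by
        obtain ⟨T, hT⟩ := (show Inv2 x from hx).two.exists_sylow
        exact ⟨T, smul_eq_of_mem hT, fun U hU =>
          hTI U T x hx (mem_sylow_of_smul_eq (show Inv2 x from hx).two hU) hT⟩
      four := h4
      le := fun x hx => mem_stabilizer_iff.mpr (smul_eq_of_mem hx)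
      conj := fun g hg x hx => by
        have := conj_mem_smul_sylow (g := g) hx
        rwa [hg] at this
      two_group := S.2
      two_mem := fun x hx h2 => mem_sylow_of_smul_eq h2 hx }
  obtain ⟨t, ht⟩ := CfsgLib.Bender.TwoClosed.exists_setup hB hC
  exact ⟨t, ht, h4, hB L (Sylow 2 L) S t S ht h4⟩

variable (hB : CfsgLib.Bender.TwoClosed.PartB.{u, u}) (hL : ¬ IsMulCommutative L) (h : CI L) (hTI : TI L)
include hB hL h hTI

theorem ti_trans (S : Sylow 2 L) {U T : Sylow 2 L} (hU : U ≠ S) (hT : T ≠ S) :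
    ∃ s ∈ (S : Subgroup L), s • U = T := by
  obtain ⟨t, ht, -⟩ := exists_setup_ti hB hL h hTI S
  obtain ⟨x, hx, -⟩ := CfsgLib.RankOne.exists_unique_Q ht hU hT
  exact ⟨x, x.2, hx⟩

theorem ti_regular (S : Sylow 2 L) {U : Sylow 2 L} (hU : U ≠ S) {s : L} (hs : s ∈ (S : Subgroup L))
    (hfix : s • U = U) : s = 1 := by
  obtain ⟨t, ht, -⟩ := exists_setup_ti hB hL h hTI S
  exact CfsgLib.RankOne.eq_one_of_fix ht hs hU hfix

theorem ti_card_sylow (S : Sylow 2 L) : Nat.card (Sylow 2 L) = Nat.card ↥(S : Subgroup L) + 1 := by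
  obtain ⟨t, ht, -⟩ := exists_setup_ti hB hL h hTI S
  exact CfsgLib.RankOne.card_points ht

theorem ti_inv_central (S : Sylow 2 L) {x : L} (hx : Inv2 x) (hxS : x ∈ (S : Subgroup L)) : Cen S x := by
  obtain ⟨t, ht, h4, -⟩ := exists_setup_ti hB hL h hTI S
  refine ⟨hx, hxS, fun s hs => ?_⟩
  exact (CfsgLib.RankOne.invol_central ht h4 ⟨mem_stabilizer_iff.mpr (smul_eq_of_mem hxS), hx.1, hx.2⟩ hs).symm

theorem ti_inv_trans (S : Sylow 2 L) {x y : L} (hx : Inv2 x) (hxS : x ∈ (S : Subgroup L)) (hy : Inv2 y)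
    (hyS : y ∈ (S : Subgroup L)) :
    ∃ n : L, Odd (orderOf n) ∧ n • S = S ∧ n * x * n⁻¹ = y := by
  obtain ⟨t, ht, -⟩ := exists_setup_ti hB hL h hTI S
  obtain ⟨k, hk, hxy⟩ := CfsgLib.RankOne.exists_conj_inverted ht
    (show x ∈ Cfsg.involutionsIn _ from ⟨mem_stabilizer_iff.mpr (smul_eq_of_mem hxS), hx.1, hx.2⟩)
    (show y ∈ Cfsg.involutionsIn _ from ⟨mem_stabilizer_iff.mpr (smul_eq_of_mem hyS), hy.1, hy.2⟩)
  refine ⟨k⁻¹, ?_, ?_, by rw [inv_inv, hxy]⟩
  · rw [orderOf_inv]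
    exact ht.odd_card.of_dvd_nat (Subgroup.orderOf_dvd_natCard _ hk.1)
  · rw [inv_smul_eq_iff, ((CfsgLib.RankOne.mem_D ht).mp hk.1).1]

theorem ti_abelian (S : Sylow 2 L) (hab : ∀ x ∈ (S : Subgroup L), ∀ y ∈ (S : Subgroup L), x * y = y * x)
    {x : L} (hx : x ∈ (S : Subgroup L)) : x * x = 1 := by
  obtain ⟨t, ht, -, -, hsh, -⟩ := exists_setup_ti hB hL h hTI S
  rcases hsh with h1 | ⟨⟨a, ha, b, hb, hne⟩, -⟩
  · exact h1 x hx
  · exact absurd (hab a ha b hb) hne

theorem ti_sq (S : Sylow 2 L) {x : L} (hx : x ∈ (S : Subgroup L)) : x * x * (x * x) = 1 := by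
  haveI := faithful_sylow hL
  obtain ⟨t, ht, h4, -⟩ := exists_setup_ti hB hL h hTI S
  haveI : Fact (Nat.Prime 2) := ⟨Nat.prime_two⟩
  have hT : IsPGroup 2 (⊤ : Subgroup ↥(S : Subgroup L)) := S.2.of_equiv Subgroup.topEquiv.symm
  obtain ⟨U, hU⟩ := hT.exists_le_sylow
  have hUt : (U : Subgroup ↥(S : Subgroup L)) = ⊤ := top_le_iff.mp hU
  rcases Cfsg.Agent.S1132.result ht h4 U with hcomm | hsuz
  · have hc : ∀ a ∈ (S : Subgroup L), ∀ b ∈ (S : Subgroup L), a * b = b * a := fun a ha b hb => by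
      have hmem : ∀ z : ↥(S : Subgroup L), z ∈ (U : Subgroup ↥(S : Subgroup L)) := fun z => hUt ▸ Subgroup.mem_top z
      exact congrArg (fun z : (U : Subgroup ↥(S : Subgroup L)) => ((z : ↥(S : Subgroup L)) : L))
        (hcomm.is_comm.comm ⟨⟨a, ha⟩, hmem _⟩ ⟨⟨b, hb⟩, hmem _⟩)
    rw [ti_abelian hB hL h hTI S hc hx, one_mul]
  · obtain ⟨-, -, -, h5⟩ := Cfsg.Agent.S1138.result hsuz
    let e : (U : Subgroup ↥(S : Subgroup L)) ≃* ↥(S : Subgroup L) :=
      (MulEquiv.subgroupCongr hUt).trans Subgroup.topEquiv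
    have h6 := Monoid.pow_exponent_eq_one (e.symm ⟨x, hx⟩)
    rw [h5, ← map_pow, MulEquiv.map_eq_one_iff] at h6
    have h7 : x ^ 4 = 1 := congrArg Subtype.val h6
    simpa [pow_succ, mul_assoc] using h7

end CfsgLib.CyclicInt
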